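import Cfsg.Agent.Lib.Linear.NondegFix.EvenMain

/-!
# Even dimension: divisibility of the number of non-degenerate subspaces
-/

set_option autoImplicit false

universe u

namespace Cfsg.Lib.Linear.NondegFix

open Module Cfsg.Lib.Linear.Orth Cfsg.Lib.Linear.IsoFix Cfsg.Agent.Lib.Linear.PrimeClasses
open scoped Matrix

variable {F : Type u} [Field F] [Fintype F]

/-- The product common to the orders of orthogonal groups. -/
def sprod (q e : ℕ) : ℕ := ∏ i ∈ Finset.range e, (q ^ (2 * (i + 1)) - 1)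

theorem sprod_add (q e j : ℕ) : sprod q (e + j) = sprod q e * ∏ t ∈ Finset.range j, (q ^ (2 * (e + t + 1)) - 1) :=
  Finset.prod_range_add _ _ _

theorem sprod_cast (q e : ℕ) (hq : 1 ≤ q) :
    ((sprod q e : ℕ) : ℤ) = ∏ i ∈ Finset.range e, ((q : ℤ) ^ (2 * (i + 1)) - 1) := by
  simp_rw [sprod, Nat.cast_prod, Nat.cast_sub (Nat.one_le_pow _ _ hq)]
  push_cast
  rfl

theorem card_iso_plus (e : ℕ) : Nat.card ↥(Cfsg.isometryGroup F (Cfsg.quadFormPlus (e + 1) F)) =
    Fintype.card F ^ ((e + 1) * e) * 2 * (Fintype.card F ^ (e + 1) - 1) * sprod (Fintype.card F) e := by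
  have h := (counts_plus (F := F) (e + 1)).2
  rw [prod_plus, Nat.card_eq_fintype_card (α := F), Nat.add_sub_cancel] at h
  refine (Nat.cast_inj (R := ℤ)).1 (h.trans ?_)
  push_cast [sprod_cast _ _ Fintype.card_pos, Nat.cast_sub (Nat.one_le_pow (e + 1) _ Fintype.card_pos)]
  ring

theorem card_iso_minus (e : ℕ) {a b : F}
    (hab : ∀ z₁ z₂ : F, z₁ ^ 2 + a * z₁ * z₂ + b * z₂ ^ 2 = 0 → z₁ = 0 ∧ z₂ = 0) :
    Nat.card ↥(Cfsg.isometryGroup F (Cfsg.quadFormMinus e F a b)) =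
    Fintype.card F ^ ((e + 1) * e) * 2 * (Fintype.card F ^ (e + 1) + 1) * sprod (Fintype.card F) e := by
  have h := (counts_minus (F := F) e hab).2.2
  rw [Nat.card_eq_fintype_card (α := F), mul_assoc, ← mul_assoc (∏ i ∈ Finset.range e, _),
    mul_comm (∏ i ∈ Finset.range e, _), prod_minus] at h
  have he : 2 * e + e * (e - 1) = (e + 1) * e := by
    rcases e with _ | e
    · rfl
    · rw [Nat.add_sub_cancel]; ring
  rw [he] at h
  refine (Nat.cast_inj (R := ℤ)).1 (h.trans ?_)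
  push_cast [sprod_cast _ _ Fintype.card_pos]
  ring

theorem card_iso_odd (h2 : (2 : F) ≠ 0) (e : ℕ) : Nat.card ↥(Cfsg.isometryGroup F (Cfsg.quadFormOdd e F)) =
    Fintype.card F ^ (e * e) * 2 * sprod (Fintype.card F) e := by
  have h := (counts_odd (F := F) h2 e).2.2
  rw [prod_odd, Nat.card_eq_fintype_card (α := F)] at h
  have he : 1 * e + e * (e - 1) = e * e := by
    rcases e with _ | e
    · rfl
    · rw [Nat.add_sub_cancel]; ring
  rw [he] at h
  refine (Nat.cast_inj (R := ℤ)).1 (h.trans ?_)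
  push_cast [sprod_cast _ _ Fintype.card_pos]
  ring

variable {r : ℕ} [Fact r.Prime] {i c : ℕ}

theorem c_dvd_of_sub (hi : i = orderOf (Fintype.card F : ZMod r)) (hc : c = if Even i then i else 2 * i) {s : ℕ}
    (h : r ∣ Fintype.card F ^ (2 * s) - 1) : c ∣ 2 * s := by
  have h5 := orderOf_dvd_of_sub hi h
  rw [hc]
  split_ifs with he
  · exact h5
  · exact Nat.Coprime.mul_dvd_of_dvd_of_dvd
      ((Nat.Prime.coprime_iff_not_dvd Nat.prime_two).2 fun h' => he (even_iff_two_dvd.2 h')) (dvd_mul_right 2 _) h5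

/-- The two kinds of first factors. -/
theorem c_dvd_of_first (hr2 : r ≠ 2) (hi : i = orderOf (Fintype.card F : ZMod r))
    (hc : c = if Even i then i else 2 * i) {d A : ℕ}
    (hA : A = Fintype.card F ^ d - 1 ∨ A = Fintype.card F ^ d + 1) (h : r ∣ A) : c ∣ 2 * d := by
  rcases hA with rfl | rfl
  · exact c_dvd_of_sub hi hc (h.trans (Nat.pow_sub_one_dvd_pow_sub_one _ (dvd_mul_left d 2)))
  · obtain ⟨he, x, hx, -⟩ := orderOf_of_add hr2 hi h
    rw [hc, if_pos he, hx]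
    exact dvd_mul_right i x

/-- In a short interval there is no multiple of `c`. -/
theorem not_dvd_between {n c m s : ℕ} (hm : m ≤ n % c) (h1 : n < s + m) (h2 : s < n) (hmc : n % c < c) : ¬ c ∣ s := by
  rintro ⟨x, rfl⟩
  have hn := Nat.div_add_mod n c
  have h3 : c * (n / c) < c * x := by omega
  have h4 : c * x < c * (n / c + 1) := by rw [Nat.mul_succ]; omega
  have h5 := Nat.lt_of_mul_lt_mul_left h3
  have h6 := Nat.lt_of_mul_lt_mul_left h4
  omega

theorem tplus_factor (hr2 : r ≠ 2) (hi : i = orderOf (Fintype.card F : ZMod r))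
    (hc : c = if Even i then i else 2 * i) {s : ℕ} (hi0 : 0 < i) (h : TPlus i (2 * s / c)) :
    ¬ r ∣ Fintype.card F ^ s + 1 := by
  intro hr
  obtain ⟨he, x, hx, hxo⟩ := orderOf_of_add hr2 hi hr
  rw [hc, if_pos he, hx, Nat.mul_div_cancel_left x hi0] at h
  exact Nat.not_even_iff_odd.2 hxo (h.resolve_left (Nat.not_odd_iff_even.2 he))

theorem tminus_factor (hi : i = orderOf (Fintype.card F : ZMod r))
    (hc : c = if Even i then i else 2 * i) {s : ℕ} (hi0 : 0 < i) (h : TMinus i (2 * s / c)) :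
    ¬ r ∣ Fintype.card F ^ s - 1 := by
  intro hr
  obtain ⟨x, hx⟩ := orderOf_dvd_of_sub hi hr
  rw [hc, if_pos h.1, hx, mul_left_comm, Nat.mul_div_cancel_left _ hi0] at h
  exact Nat.not_odd_iff_even.2 (even_two_mul x) h.2

variable {ι κ κ' : Type} [Fintype ι] [DecidableEq ι] [Fintype κ] [DecidableEq κ]
  [Fintype κ'] [DecidableEq κ'] {Q : (ι → F) → F} {B : LinearMap.BilinForm F (ι → F)} {R : (κ → F) → F}
  {D : LinearMap.BilinForm F (κ → F)} {R' : (κ' → F) → F} {D' : LinearMap.BilinForm F (κ' → F)}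
  {ψ : (ι → F) ≃ₗ[F] (κ ⊕ κ' → F)}

theorem not_dvd_qpow (p : ℕ) [Fact p.Prime] [CharP F p] (hrp : r ≠ p) (a : ℕ) : ¬ r ∣ Fintype.card F ^ a := fun h => by
  have hr : r.Prime := Fact.out
  obtain ⟨t, -, ht⟩ := FiniteField.card F p
  rw [ht] at h
  exact hrp ((Nat.prime_dvd_prime_iff_eq hr Fact.out).mp (hr.dvd_of_dvd_pow (hr.dvd_of_dvd_pow h)))

/-- Even dimensional subspaces. -/
theorem c_le_even (p : ℕ) [Fact p.Prime] [CharP F p] (C : Space Q B) (CR : Space R D) (C' : Space R' D')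
    (S : IsSum Q R R' ψ) {d e j : ℕ} (hd : d = e + 1 + (j + 1)) {A B₁ B₂ : ℕ}
    (hQ : Nat.card ↥(Cfsg.isometryGroup F Q) =
      Fintype.card F ^ (d * (d - 1)) * 2 * A * sprod (Fintype.card F) (d - 1))
    (hA : A = Fintype.card F ^ d - 1 ∨ A = Fintype.card F ^ d + 1)
    (hR' : Nat.card ↥(Cfsg.isometryGroup F R') =
      Fintype.card F ^ ((e + 1) * e) * 2 * B₁ * sprod (Fintype.card F) e)
    (hB : B₁ * B₂ = Fintype.card F ^ (2 * (e + 1)) - 1)
    (hr2 : r ≠ 2) (hrp : r ≠ p) (hi : i = orderOf (Fintype.card F : ZMod r))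
    (hc : c = if Even i then i else 2 * i) {P₂ : ℕ → Prop} (hB₂ : P₂ (2 * (e + 1) / c) → ¬ r ∣ B₂)
    (hrΩ : r ∣ Nat.card {W : Submodule F (ι → F) //
      ∃ E : (κ → F) →ₗ[F] (ι → F), (∀ v, Q (E v) = R v) ∧ LinearMap.range E = W})
    (hk : 0 < (2 * d) % c) (hl : (2 * (j + 1)) % c ≤ (2 * d) % c)
    (hP : (2 * (j + 1)) % c < (2 * d) % c ∨ P₂ ((2 * d) / c - (2 * (j + 1)) / c)) : c ≤ 2 * (j + 1) := by
  by_contra hcm
  have hr : r.Prime := Fact.out
  have hcpos : 0 < c := by omega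
  have hi0 : 0 < i := by
    rw [hc] at hcpos
    split_ifs at hcpos <;> omega
  have hklt : (2 * d) % c < c := Nat.mod_lt _ hcpos
  rw [Nat.mod_eq_of_lt (by omega : 2 * (j + 1) < c)] at hl hP
  rw [Nat.div_eq_of_lt (by omega : 2 * (j + 1) < c), Nat.sub_zero] at hP
  obtain ⟨a, ha⟩ : ∃ a, d * (d - 1) = (e + 1) * e + a :=
    Nat.exists_eq_add_of_le (Nat.mul_le_mul (by omega) (by omega))
  refine not_dvd_count C CR C' S
    (X := Fintype.card F ^ a * A * B₂ * ∏ t ∈ Finset.range j, (Fintype.card F ^ (2 * (e + 1 + t + 1)) - 1)) ?_ ?_ hrΩ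
  · rw [hQ, hR', ha, show d - 1 = e + 1 + j by omega, sprod_add, pow_add]
    rw [show sprod (Fintype.card F) (e + 1) = sprod (Fintype.card F) e * (B₁ * B₂) by
      rw [sprod, Finset.prod_range_succ, hB]; rfl]
    ring
  intro h
  rcases hr.dvd_mul.1 h with h | h
  · rcases hr.dvd_mul.1 h with h | h
    · rcases hr.dvd_mul.1 h with h | h
      · exact not_dvd_qpow p hrp a h
      · exact hk.ne' (Nat.mod_eq_zero_of_dvd (c_dvd_of_first hr2 hi hc hA h))
    · have hdvd : c ∣ 2 * (e + 1) := c_dvd_of_sub hi hc (h.trans (hB ▸ dvd_mul_left B₂ B₁))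
      rcases hP with hlt | hP
      · exact not_dvd_between (m := 2 * (j + 1) + 1) hlt (by omega) (by omega) hklt hdvd
      · refine hB₂ ?_ h
        rcases lt_or_eq_of_le hl with hlt | heq
        · exact absurd hdvd (not_dvd_between (m := 2 * (j + 1) + 1) hlt (by omega) (by omega) hklt)
        · obtain ⟨x, hx⟩ := hdvd
          have hn := Nat.div_add_mod (2 * d) c
          rw [hx, Nat.mul_div_cancel_left x hcpos]
          rwa [Nat.eq_of_mul_eq_mul_left hcpos (show c * x = c * (2 * d / c) by omega)]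
  · obtain ⟨t, ht, hd'⟩ := (Prime.dvd_finsetProd_iff hr.prime _).1 h
    rw [Finset.mem_range] at ht
    exact not_dvd_between hl (by omega) (by omega) hklt (c_dvd_of_sub hi hc hd')

/-- Odd dimensional subspaces. -/
theorem c_le_odd (p : ℕ) [Fact p.Prime] [CharP F p] (C : Space Q B) (CR : Space R D) (C' : Space R' D')
    (S : IsSum Q R R' ψ) {d e j : ℕ} (hd : d = e + (j + 1)) {A : ℕ}
    (hQ : Nat.card ↥(Cfsg.isometryGroup F Q) =
      Fintype.card F ^ (d * (d - 1)) * 2 * A * sprod (Fintype.card F) (d - 1))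
    (hA : A = Fintype.card F ^ d - 1 ∨ A = Fintype.card F ^ d + 1)
    (hR' : Nat.card ↥(Cfsg.isometryGroup F R') = Fintype.card F ^ (e * e) * 2 * sprod (Fintype.card F) e)
    (hr2 : r ≠ 2) (hrp : r ≠ p) (hi : i = orderOf (Fintype.card F : ZMod r))
    (hc : c = if Even i then i else 2 * i)
    (hrΩ : r ∣ Nat.card {W : Submodule F (ι → F) //
      ∃ E : (κ → F) →ₗ[F] (ι → F), (∀ v, Q (E v) = R v) ∧ LinearMap.range E = W})
    (hk : 0 < (2 * d) % c) (hl : (2 * j + 1) % c ≤ (2 * d) % c) : c ≤ 2 * j + 1 := by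
  by_contra hcm
  have hr : r.Prime := Fact.out
  have hklt : (2 * d) % c < c := Nat.mod_lt _ (by omega)
  rw [Nat.mod_eq_of_lt (by omega : 2 * j + 1 < c)] at hl
  obtain ⟨a, ha⟩ : ∃ a, d * (d - 1) = e * e + a :=
    Nat.exists_eq_add_of_le (Nat.mul_le_mul (by omega) (by omega))
  refine not_dvd_count C CR C' S
    (X := Fintype.card F ^ a * A * ∏ t ∈ Finset.range j, (Fintype.card F ^ (2 * (e + t + 1)) - 1)) ?_ ?_ hrΩ
  · rw [hQ, hR', ha, show d - 1 = e + j by omega, sprod_add, pow_add]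
    ring
  intro h
  rcases hr.dvd_mul.1 h with h | h
  · rcases hr.dvd_mul.1 h with h | h
    · exact not_dvd_qpow p hrp a h
    · exact hk.ne' (Nat.mod_eq_zero_of_dvd (c_dvd_of_first hr2 hi hc hA h))
  · obtain ⟨t, ht, hd'⟩ := (Prime.dvd_finsetProd_iff hr.prime _).1 h
    rw [Finset.mem_range] at ht
    exact not_dvd_between hl (by omega) (by omega) hklt (c_dvd_of_sub hi hc hd')

end Cfsg.Lib.Linear.NondegFix
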