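import Cfsg.Agent.Lib.Linear.NondegFix.Basic
import Cfsg.Agent.Lib.Linear.IsotropicFix.OrthTypes
import Cfsg.Agent.Lib.Linear.OrthSplitMax

/-!
# Non-degenerate subspaces by type, orthogonal splittings in odd dimension
-/

set_option autoImplicit false

universe u

namespace Cfsg.Lib.Linear.NondegFix

open Module Cfsg.Agent.Lib.Linear.PrimeClasses Cfsg.Lib.Linear.Orth Cfsg.Lib.Linear.IsoFix
open scoped Matrix

variable {F : Type u} [Field F] {ι κ : Type} [Fintype ι] [DecidableEq ι] [Fintype κ] [DecidableEq κ]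
  {Q : (ι → F) → F} {B : LinearMap.BilinForm F (ι → F)} {R : (κ → F) → F} {D : LinearMap.BilinForm F (κ → F)}

/-- Invariant subspaces seen through embeddings. -/
theorem fixesR_iff_exists {M : Matrix ι ι F} :
    FixesR Q R M ↔ ∃ E : (κ → F) →ₗ[F] (ι → F), (∀ v, Q (E v) = R v) ∧
      (LinearMap.range E).map (Matrix.toLin' M) ≤ LinearMap.range E := by
  refine exists_congr fun E => and_congr_right fun _ => ⟨?_, fun h v => ?_⟩
  · rintro h _ ⟨_, ⟨v, rfl⟩, rfl⟩
    obtain ⟨w, hw⟩ := h v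
    exact ⟨w, by rw [Matrix.toLin'_apply, hw]⟩
  · obtain ⟨w, hw⟩ := h ⟨E v, ⟨v, rfl⟩, Matrix.toLin'_apply _ _⟩
    exact ⟨w, hw.symm⟩

theorem ndeg_range (C : Space Q B) (CR : Space R D) {E : (κ → F) →ₗ[F] (ι → F)} (hE : ∀ v, Q (E v) = R v) :
    NDeg B (LinearMap.range E) := by
  rintro _ ⟨v, rfl⟩ h
  rw [CR.nondeg' (v := v) fun u => ?_, map_zero]
  have h1 := h (E u) ⟨u, rfl⟩
  rwa [← C.polar, QuadraticMap.polar, ← map_add, hE, hE, hE, ← QuadraticMap.polar, CR.polar] at h1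

theorem plus_type (C : Space Q B) {k : ℕ} {E : (Fin k ⊕ Fin k → F) →ₗ[F] (ι → F)}
    (hE : ∀ v, Q (E v) = Cfsg.quadFormPlus k F v) :
    finrank F (LinearMap.range E) = 2 * k ∧
      Cfsg.Geo.IsNondegenerateOn (QuadraticMap.polar Q) (LinearMap.range E) ∧
      Cfsg.Geo.IsPlusTypeOn Q (LinearMap.range E) := by
  classical
  obtain ⟨DS, CS⟩ := exists_space_plus (F := F) k
  have hd := finrank_embed C CS hE
  rw [Fintype.card_sum, Fintype.card_fin, ← two_mul] at hd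
  let J : (Fin k → F) →ₗ[F] (Fin k ⊕ Fin k → F) :=
    { toFun := fun a => Sum.elim a 0
      map_add' := fun a b => by ext (i | i) <;> simp
      map_smul' := fun c a => by ext (i | i) <;> simp }
  have hJ : Function.Injective (E.comp J) := fun a b h =>
    funext fun i => congrFun (embed_injective C CS hE h) (Sum.inl i)
  refine ⟨hd, geo_of_ndeg C (ndeg_range C CS hE), LinearMap.range (E.comp J), LinearMap.range_comp_le_range _ _,
    ?_, ?_⟩
  · rintro _ ⟨a, rfl⟩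
    rw [LinearMap.comp_apply, hE]
    simp [J, Cfsg.quadFormPlus]
  · rw [LinearMap.finrank_range_of_inj hJ, Module.finrank_fin_fun, hd]

theorem minus_type [Finite F] (C : Space Q B) {k : ℕ} {a b : F}
    (hab : ∀ z₁ z₂ : F, z₁ ^ 2 + a * z₁ * z₂ + b * z₂ ^ 2 = 0 → z₁ = 0 ∧ z₂ = 0)
    {E : ((Fin k ⊕ Fin k) ⊕ Fin 2 → F) →ₗ[F] (ι → F)} (hE : ∀ v, Q (E v) = Cfsg.quadFormMinus k F a b v) :
    finrank F (LinearMap.range E) = 2 * (k + 1) ∧
      Cfsg.Geo.IsNondegenerateOn (QuadraticMap.polar Q) (LinearMap.range E) ∧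
      ¬ Cfsg.Geo.IsPlusTypeOn Q (LinearMap.range E) := by
  classical
  obtain ⟨DS, CS⟩ := exists_space_minus k a b hab
  have hd := finrank_embed C CS hE
  rw [Fintype.card_sum, Fintype.card_sum, Fintype.card_fin, Fintype.card_fin, ← two_mul] at hd
  refine ⟨by omega, geo_of_ndeg C (ndeg_range C CS hE), ?_⟩
  rintro ⟨U, hU, hQ, hU2⟩
  have h1 := Cfsg.Lib.Linear.AutPO.minus_ts_bound hab CS (A := U.comap E)
    (fun v hv => by rw [← hE]; exact hQ _ hv)
  have h2 : (U.comap E).map E = U := Submodule.map_comap_eq_of_le hU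
  have h3 : finrank F ↥((U.comap E).map E) = finrank F ↥(U.comap E) :=
    (Submodule.equivMapOfInjective E (embed_injective C CS hE) _).finrank_eq.symm
  rw [h2] at h3
  omega

/-- A non-degenerate subspace of even dimension is of plus or of minus type. -/
theorem exists_std [Finite F] (C : Space Q B) {k : ℕ} (hk : 1 ≤ k) {W : Submodule F (ι → F)}
    (hW : finrank F W = 2 * k) (hnd : NDeg B W) :
    (∃ E : (Fin k ⊕ Fin k → F) →ₗ[F] (ι → F), (∀ v, Q (E v) = Cfsg.quadFormPlus k F v) ∧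
        LinearMap.range E = W) ∨
    ∃ ζ : F, (∀ z₁ z₂ : F, z₁ ^ 2 + 1 * z₁ * z₂ + ζ * z₂ ^ 2 = 0 → z₁ = 0 ∧ z₂ = 0) ∧
      ∃ E : ((Fin (k - 1) ⊕ Fin (k - 1)) ⊕ Fin 2 → F) →ₗ[F] (ι → F),
        (∀ v, Q (E v) = Cfsg.quadFormMinus (k - 1) F 1 ζ v) ∧ LinearMap.range E = W := by
  classical
  let e : (Fin (2 * k) → F) ≃ₗ[F] W := (finBasisOfFinrankEq F W hW).equivFun.symm
  let L : (Fin (2 * k) → F) →ₗ[F] (ι → F) := W.subtype ∘ₗ (e : (Fin (2 * k) → F) →ₗ[F] W)
  have C' : Space (fun v => Q (L v)) (B.compl₁₂ L L) :=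
    ⟨fun t v => by rw [map_smul, C.smul], fun u v => by
      show Q (L (u + v)) - Q (L u) - Q (L v) = B (L u) (L v)
      rw [map_add, C.add]; ring,
    fun v hv => e.injective (Subtype.ext ((hnd _ (e v).2 fun y hy => by
      obtain ⟨u, hu⟩ := e.surjective ⟨y, hy⟩
      have := hv u
      rw [LinearMap.compl₁₂_apply, C.symm] at this
      rwa [show L u = y from congrArg Subtype.val hu] at this).trans (by simp)))⟩
  have key : ∀ {μ : Type} [Fintype μ] [DecidableEq μ] {S : (μ → F) → F} {DS : LinearMap.BilinForm F (μ → F)},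
      Space S DS → Fintype.card μ = 2 * k → Embeds S (fun v => Q (L v)) →
      ∃ E : (μ → F) →ₗ[F] (ι → F), (∀ v, Q (E v) = S v) ∧ LinearMap.range E = W := by
    rintro μ _ _ S DS CS hμ ⟨E', hE'⟩
    refine ⟨L.comp E', hE', Submodule.eq_of_le_of_finrank_eq ?_ ?_⟩
    · rintro _ ⟨v, rfl⟩; exact (e (E' v)).2
    · rw [finrank_embed C CS (E := L.comp E') hE', hμ, hW]
  rcases classify C' hk (by simp) with ⟨-, h⟩ | ⟨ζ, hζ, -, h⟩
  · obtain ⟨DS, CS⟩ := exists_space_plus (F := F) k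
    exact Or.inl (key CS (by simp; omega) h)
  · obtain ⟨DS, CS⟩ := exists_space_minus (k - 1) 1 ζ hζ
    exact Or.inr ⟨ζ, hζ, key CS (by simp; omega) h⟩

theorem plus_pred_iff [Finite F] (C : Space Q B) {k : ℕ} (hk : 1 ≤ k) (W : Submodule F (ι → F)) :
    (finrank F W = 2 * k ∧ Cfsg.Geo.IsNondegenerateOn (QuadraticMap.polar Q) W ∧ Cfsg.Geo.IsPlusTypeOn Q W) ↔
    ∃ E : (Fin k ⊕ Fin k → F) →ₗ[F] (ι → F), (∀ v, Q (E v) = Cfsg.quadFormPlus k F v) ∧
      LinearMap.range E = W := by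
  constructor
  · rintro ⟨hW, hnd, hp⟩
    rcases exists_std C hk hW (ndeg_of_geo C hnd) with h | ⟨ζ, hζ, E, hE, rfl⟩
    · exact h
    · exact absurd hp (minus_type C hζ hE).2.2
  · rintro ⟨E, hE, rfl⟩
    exact plus_type C hE

theorem minus_pred_iff [Finite F] (C : Space Q B) {j : ℕ} {ζ : F}
    (hζ : ∀ z₁ z₂ : F, z₁ ^ 2 + 1 * z₁ * z₂ + ζ * z₂ ^ 2 = 0 → z₁ = 0 ∧ z₂ = 0) (W : Submodule F (ι → F)) :
    (finrank F W = 2 * (j + 1) ∧ Cfsg.Geo.IsNondegenerateOn (QuadraticMap.polar Q) W ∧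
      ¬ Cfsg.Geo.IsPlusTypeOn Q W) ↔
    ∃ E : ((Fin j ⊕ Fin j) ⊕ Fin 2 → F) →ₗ[F] (ι → F), (∀ v, Q (E v) = Cfsg.quadFormMinus j F 1 ζ v) ∧
      LinearMap.range E = W := by
  constructor
  · rintro ⟨hW, hnd, hp⟩
    rcases exists_std C (Nat.le_add_left 1 j) hW (ndeg_of_geo C hnd) with ⟨E, hE, rfl⟩ | ⟨ζ', hζ', E, hE, rfl⟩
    · exact absurd (plus_type C hE).2.2 hp
    · obtain ⟨L, hL⟩ := embeds_minus_minus (k := j) le_rfl hζ' hζ
      obtain ⟨DS, CS⟩ := exists_space_minus j 1 ζ hζ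
      obtain ⟨DS', CS'⟩ := exists_space_minus j 1 ζ' hζ'
      have hEL : ∀ v, Q (E.comp L v) = Cfsg.quadFormMinus j F 1 ζ v := fun v => (hE _).trans (hL v)
      refine ⟨E.comp L, hEL, Submodule.eq_of_le_of_finrank_eq (LinearMap.range_comp_le_range _ _) ?_⟩
      rw [finrank_embed C CS hEL, finrank_embed C CS' hE]
  · rintro ⟨E, hE, rfl⟩
    exact minus_type C hζ hE

theorem exists_zeta [Finite F] (h2 : (2 : F) ≠ 0) :
    ∃ ζ : F, ∀ z₁ z₂ : F, z₁ ^ 2 + 1 * z₁ * z₂ + ζ * z₂ ^ 2 = 0 → z₁ = 0 ∧ z₂ = 0 := by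
  haveI := Fintype.ofFinite F
  obtain ⟨ν, hν⟩ := FiniteField.exists_nonsquare (F := F) fun h0 => h2 (by
    haveI : CharP F 2 := ringChar.of_eq h0
    exact CharTwo.two_eq_zero)
  have h4 : (4 : F) ≠ 0 := by rw [show (4 : F) = 2 * 2 by norm_num]; exact mul_ne_zero h2 h2
  refine ⟨(1 - ν) / 4, fun a b h => ?_⟩
  have hb : b = 0 := by
    by_contra hb
    refine hν ⟨(2 * a + b) / b, ?_⟩
    field_simp at h ⊢
    linear_combination -h
  subst hb
  simp at h
  exact ⟨h, rfl⟩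

/-- The orthogonal sum of a plus-type space and an odd-dimensional space. -/
theorem oddSum_plus (k e : ℕ) :
    IsSum (Cfsg.quadFormOdd (k + e) F) (Cfsg.quadFormPlus k F) (Cfsg.quadFormOdd e F)
      (LinearEquiv.funCongrLeft F F (oddSplitEquiv k e)) :=
  (oddSplit k e).eq

/-- The scaled form. -/
def scaleQ {κ : Type} (z : F) (R : (κ → F) → F) (v : κ → F) : F := z * R v

theorem scale_space (CR : Space R D) {z : F} (hz : z ≠ 0) : Space (scaleQ z R) (z • D) :=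
  ⟨fun c v => by rw [scaleQ, scaleQ, CR.smul]; ring,
  fun u v => by
    rw [LinearMap.smul_apply, LinearMap.smul_apply, smul_eq_mul, ← CR.polar, QuadraticMap.polar, QuadraticMap.polar,
      scaleQ, scaleQ, scaleQ]
    ring,
  fun v hv => CR.nondeg v fun u => by
    have := hv u
    rw [LinearMap.smul_apply, LinearMap.smul_apply, smul_eq_mul, mul_eq_zero] at this
    exact this.resolve_left hz⟩

theorem scale_iso {z : F} (hz : z ≠ 0) :
    Cfsg.isometryGroup F (scaleQ z R) = Cfsg.isometryGroup F R := by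
  ext g
  rw [mem_iso, mem_iso]
  exact forall_congr' fun v => mul_right_inj' hz

/-- The orthogonal sum of a minus-type space and an odd-dimensional space. -/
theorem oddSum_minus [Finite F] (h2 : (2 : F) ≠ 0) (j e : ℕ) {ζ : F}
    (hζ : ∀ z₁ z₂ : F, z₁ ^ 2 + 1 * z₁ * z₂ + ζ * z₂ ^ 2 = 0 → z₁ = 0 ∧ z₂ = 0) :
    1 / 4 - ζ ≠ 0 ∧ ∃ ψ : (Unit ⊕ (Fin (j + 1 + e) ⊕ Fin (j + 1 + e)) → F) ≃ₗ[F]
        (((Fin j ⊕ Fin j) ⊕ Fin 2) ⊕ (Unit ⊕ (Fin e ⊕ Fin e)) → F),
      IsSum (Cfsg.quadFormOdd (j + 1 + e) F) (Cfsg.quadFormMinus j F 1 ζ)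
        (scaleQ (1 / 4 - ζ) (Cfsg.quadFormOdd e F)) ψ := by
  classical
  have hz : 1 / 4 - ζ ≠ 0 := fun h => by
    have h4 : (4 : F) ≠ 0 := by rw [show (4 : F) = 2 * 2 by norm_num]; exact mul_ne_zero h2 h2
    refine h2 (neg_eq_zero.mp ?_)
    have := (hζ 1 (-2) (by
      rw [show ζ = 1 / 4 by linear_combination -h]
      field_simp
      ring)).2
    exact this
  refine ⟨hz, ?_⟩
  set z : F := 1 / 4 - ζ with hzdef
  let L : (((Fin j ⊕ Fin j) ⊕ Fin 2) ⊕ (Unit ⊕ (Fin e ⊕ Fin e)) → F) →ₗ[F]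
      (Unit ⊕ (Fin (j + 1 + e) ⊕ Fin (j + 1 + e)) → F) :=
    { toFun := fun v => Sum.elim (fun _ => v (.inl (.inr 0)) + v (.inl (.inr 1)) / 2)
        (Sum.elim
          (Fin.append (Fin.append (fun i => v (.inl (.inl (.inl i))))
            ![-z * (v (.inl (.inr 1)) - v (.inr (.inl ())))]) (fun i => z * v (.inr (.inr (.inl i)))))
          (Fin.append (Fin.append (fun i => v (.inl (.inl (.inr i))))
            ![v (.inl (.inr 1)) + v (.inr (.inl ()))]) (fun i => v (.inr (.inr (.inr i))))))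
      map_add' := fun u v => by
        funext t; rcases t with t | t | t
        · simp; ring
        · refine Fin.addCases (fun i => Fin.addCases (fun i => ?_) (fun i => ?_) i) (fun i => ?_) t <;>
            (simp [Fin.fin_one_eq_zero]; try ring)
        · refine Fin.addCases (fun i => Fin.addCases (fun i => ?_) (fun i => ?_) i) (fun i => ?_) t <;>
            (simp [Fin.fin_one_eq_zero]; try ring)
      map_smul' := fun c v => by
        funext t; rcases t with t | t | t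
        · simp; ring
        · refine Fin.addCases (fun i => Fin.addCases (fun i => ?_) (fun i => ?_) i) (fun i => ?_) t <;>
            (simp [Fin.fin_one_eq_zero]; try ring)
        · refine Fin.addCases (fun i => Fin.addCases (fun i => ?_) (fun i => ?_) i) (fun i => ?_) t <;>
            (simp [Fin.fin_one_eq_zero]; try ring) }
  have hL : ∀ v, Cfsg.quadFormOdd (j + 1 + e) F (L v) =
      sumQ (Cfsg.quadFormMinus j F 1 ζ) (scaleQ z (Cfsg.quadFormOdd e F)) v := fun v => by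
    simp only [L, LinearMap.coe_mk, AddHom.coe_mk, Cfsg.quadFormOdd, Cfsg.quadFormMinus, sumQ, scaleQ,
      Fin.sum_univ_add, Fin.append_left, Fin.append_right, Fin.sum_univ_one, Matrix.cons_val_fin_one, Sum.elim_inl,
      Sum.elim_inr, Function.comp_apply, Finset.mul_sum, mul_add, mul_assoc]
    rw [hzdef]
    have h4 : (4 : F) ≠ 0 := by rw [show (4 : F) = 2 * 2 by norm_num]; exact mul_ne_zero h2 h2
    field_simp
    ring
  obtain ⟨D₁, C₁⟩ := exists_space_minus j 1 ζ hζ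
  obtain ⟨D₂, C₂⟩ := exists_space (Q := Cfsg.quadFormOdd e F) (isQuad_odd e h2)
  obtain ⟨B, C⟩ := exists_space (Q := Cfsg.quadFormOdd (j + 1 + e) F) (isQuad_odd _ h2)
  have hcs := embed_injective C (C₁.sum (scale_space C₂ hz)) hL
  let e₀ := LinearMap.linearEquivOfInjective L hcs (by simp; omega)
  refine ⟨e₀.symm, fun v => ?_⟩
  rw [← hL]
  congr 1
  exact (e₀.apply_symm_apply v).symm

end Cfsg.Lib.Linear.NondegFix
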