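import Cfsg.Agent.Lib.Linear.NondegFix.EvenSums

/-!
# Types of orthogonal sums of subspaces, and subspaces of either type
-/

set_option autoImplicit false

universe u

namespace Cfsg.Lib.Linear.NondegFix

open Module Cfsg.Lib.Linear.Orth Cfsg.Lib.Linear.IsoFix Cfsg.Agent.Lib.Linear.PrimeClasses
open scoped Matrix

variable {F : Type u} [Field F] {ι : Type} [Fintype ι] [DecidableEq ι]
  {Q : (ι → F) → F} {B : LinearMap.BilinForm F (ι → F)}

theorem ndeg_bot : NDeg B (⊥ : Submodule F (ι → F)) := fun x hx _ => (Submodule.mem_bot F).1 hx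

theorem plus_bot (Q : (ι → F) → F) (h0 : Q 0 = 0) : Cfsg.Geo.IsPlusTypeOn Q (⊥ : Submodule F (ι → F)) :=
  ⟨⊥, le_rfl, fun x hx => by rw [(Submodule.mem_bot F).1 hx, h0], by simp⟩

/-- An orthogonal sum of two non-degenerate subspaces. -/
theorem ndeg_sup (C : Space Q B) {S T : Submodule F (ι → F)} (hS : NDeg B S) (hT : NDeg B T)
    (horth : ∀ s ∈ S, ∀ t ∈ T, B s t = 0) : NDeg B (S ⊔ T) ∧ finrank F ↥(S ⊔ T) = finrank F S + finrank F T := by
  have hdisj : S ⊓ T = ⊥ := eq_bot_iff.2 fun x hx => (Submodule.mem_bot F).2 (hS x hx.1 fun y hy => by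
    rw [C.symm]; exact horth y hy x hx.2)
  refine ⟨fun x hx h => ?_, ?_⟩
  · obtain ⟨s, hs, t, ht, rfl⟩ := Submodule.mem_sup.1 hx
    rw [hS s hs fun y hy => ?_, hT t ht fun y hy => ?_, add_zero]
    · have := h y (Submodule.mem_sup_right hy)
      rwa [map_add, LinearMap.add_apply, horth s hs y hy, zero_add] at this
    · have := h y (Submodule.mem_sup_left hy)
      rwa [map_add, LinearMap.add_apply, C.symm t, horth y hy t ht, add_zero] at this
  · have h := Submodule.finrank_sup_add_finrank_inf_eq S T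
    rwa [hdisj, finrank_bot, add_zero] at h

variable [Finite F]

/-- A totally singular subspace in the sum of a plus type and a minus type subspace is small. -/
theorem no_half_sub (C : Space Q B) {k e : ℕ} {a b : F}
    (hab : ∀ z₁ z₂ : F, z₁ ^ 2 + a * z₁ * z₂ + b * z₂ ^ 2 = 0 → z₁ = 0 ∧ z₂ = 0)
    {E : (Fin k ⊕ Fin k → F) →ₗ[F] (ι → F)} {E' : ((Fin e ⊕ Fin e) ⊕ Fin 2 → F) →ₗ[F] (ι → F)}
    (hE : ∀ v, Q (E v) = Cfsg.quadFormPlus k F v) (hE' : ∀ v, Q (E' v) = Cfsg.quadFormMinus e F a b v)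
    (horth : ∀ u v, B (E u) (E' v) = 0) {A : Submodule F (ι → F)}
    (hle : A ≤ LinearMap.range E ⊔ LinearMap.range E') (hA : ∀ x ∈ A, Q x = 0) : finrank F A ≤ k + e := by
  classical
  obtain ⟨B₀, C₀⟩ := exists_space_minus (k + e) a b hab
  let Φ := LinearEquiv.funCongrLeft F F (minusSplitEquiv k e)
  let G : ((Fin (k + e) ⊕ Fin (k + e)) ⊕ Fin 2 → F) →ₗ[F] (ι → F) :=
    (E ∘ₗ LinearMap.funLeft F F Sum.inl + E' ∘ₗ LinearMap.funLeft F F Sum.inr) ∘ₗ (Φ : _ →ₗ[F] _)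
  have hG : ∀ v, Q (G v) = Cfsg.quadFormMinus (k + e) F a b v := fun v => by
    show Q (E _ + E' _) = _
    rw [C.add, horth, add_zero, hE, hE', (minusSplit k e a b).eq]
    rfl
  have hrange : LinearMap.range E ⊔ LinearMap.range E' ≤ LinearMap.range G := by
    refine sup_le ?_ ?_
    · rintro _ ⟨u, rfl⟩
      refine ⟨Φ.symm (Sum.elim u 0), ?_⟩
      show E ((Φ (Φ.symm _)) ∘ Sum.inl) + E' ((Φ (Φ.symm _)) ∘ Sum.inr) = E u
      rw [LinearEquiv.apply_symm_apply, Sum.elim_comp_inl, Sum.elim_comp_inr, map_zero, add_zero]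
    · rintro _ ⟨u, rfl⟩
      refine ⟨Φ.symm (Sum.elim 0 u), ?_⟩
      show E ((Φ (Φ.symm _)) ∘ Sum.inl) + E' ((Φ (Φ.symm _)) ∘ Sum.inr) = E' u
      rw [LinearEquiv.apply_symm_apply, Sum.elim_comp_inl, Sum.elim_comp_inr, map_zero, zero_add]
  have h1 := Cfsg.Lib.Linear.AutPO.minus_ts_bound hab C₀ (A := A.comap G)
    (fun v hv => by rw [← hG]; exact hA _ hv)
  have h2 : (A.comap G).map G = A := Submodule.map_comap_eq_of_le (hle.trans hrange)
  have h3 : finrank F ↥((A.comap G).map G) = finrank F ↥(A.comap G) :=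
    (Submodule.equivMapOfInjective G (embed_injective C C₀ hG) _).finrank_eq.symm
  rw [h2] at h3
  omega

/-- The type of an orthogonal sum. -/
theorem type_sum (C : Space Q B) {S T : Submodule F (ι → F)} {s t : ℕ} (hsd : finrank F S = 2 * s)
    (htd : finrank F T = 2 * t) (hS : NDeg B S) (hT : NDeg B T) (horth : ∀ x ∈ S, ∀ y ∈ T, B x y = 0) :
    Cfsg.Geo.IsPlusTypeOn Q (S ⊔ T) ↔ (Cfsg.Geo.IsPlusTypeOn Q S ↔ Cfsg.Geo.IsPlusTypeOn Q T) := by
  classical
  obtain ⟨-, hd⟩ := ndeg_sup C hS hT horth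
  rcases Nat.eq_zero_or_pos s with rfl | hs
  · obtain rfl : S = ⊥ := Submodule.finrank_eq_zero.1 hsd
    rw [bot_sup_eq, iff_true_left (plus_bot Q C.zero)]
  rcases Nat.eq_zero_or_pos t with rfl | ht
  · obtain rfl : T = ⊥ := Submodule.finrank_eq_zero.1 htd
    rw [sup_bot_eq, iff_true_right (plus_bot Q C.zero)]
  rcases exists_std C hs hsd hS with ⟨E, hE, rfl⟩ | ⟨ζ, hζ, E, hE, rfl⟩ <;>
    rcases exists_std C ht htd hT with ⟨E', hE', rfl⟩ | ⟨ζ', hζ', E', hE', rfl⟩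
  · refine iff_of_true ?_ (iff_of_true (plus_type C hE).2.2 (plus_type C hE').2.2)
    obtain ⟨U, hU, hUQ, hUd⟩ := (plus_type C hE).2.2
    obtain ⟨U', hU', hUQ', hUd'⟩ := (plus_type C hE').2.2
    refine ⟨U ⊔ U', sup_le_sup hU hU', ts_add C hUQ hUQ' fun x hx y hy => horth x (hU hx) y (hU' hy), ?_⟩
    have h := Submodule.finrank_sup_add_finrank_inf_eq U U'
    have h' : U ⊓ U' = ⊥ := eq_bot_iff.2 fun x hx => (Submodule.mem_bot F).2 (hS x (hU hx.1) fun y hy => by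
      rw [C.symm]; exact horth y hy x (hU' hx.2))
    rw [h', finrank_bot, add_zero] at h
    omega
  · refine iff_of_false ?_ (fun h => (minus_type C hζ' hE').2.2 (h.1 (plus_type C hE).2.2))
    rintro ⟨A, hA, hAQ, hAd⟩
    have := no_half_sub C hζ' hE hE' (fun u v => horth _ ⟨u, rfl⟩ _ ⟨v, rfl⟩) hA hAQ
    omega
  · refine iff_of_false ?_ (fun h => (minus_type C hζ hE).2.2 (h.2 (plus_type C hE').2.2))
    rintro ⟨A, hA, hAQ, hAd⟩
    have := no_half_sub C hζ hE' hE (fun u v => by rw [C.symm]; exact horth _ ⟨v, rfl⟩ _ ⟨u, rfl⟩)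
      (sup_comm (LinearMap.range E) (LinearMap.range E') ▸ hA) hAQ
    omega
  · refine iff_of_true ?_ (iff_of_false (minus_type C hζ hE).2.2 (minus_type C hζ' hE').2.2)
    -- the half can be taken inside the sum
    have hle : ∃ A' : Submodule F (ι → F), A' ≤ LinearMap.range E ⊔ LinearMap.range E' ∧
        finrank F A' = s - 1 + 1 + (t - 1 + 1) ∧ ∀ x ∈ A', Q x = 0 := by
      obtain ⟨D, CD⟩ := exists_space_minus (s - 1) 1 ζ hζ
      obtain ⟨D', CD'⟩ := exists_space_minus (t - 1) 1 ζ' hζ'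
      let M : (((Fin (s - 1) ⊕ Fin (s - 1)) ⊕ Fin 2) ⊕ ((Fin (t - 1) ⊕ Fin (t - 1)) ⊕ Fin 2) → F) →ₗ[F] (ι → F) :=
        E ∘ₗ LinearMap.funLeft F F Sum.inl + E' ∘ₗ LinearMap.funLeft F F Sum.inr
      have hM : ∀ v, Q (M v) = sumQ (Cfsg.quadFormMinus (s - 1) F 1 ζ) (Cfsg.quadFormMinus (t - 1) F 1 ζ') v := fun v => by
        show Q (E _ + E' _) = _
        rw [C.add, horth _ ⟨_, rfl⟩ _ ⟨_, rfl⟩, add_zero, hE, hE']
        rfl
      let El : ((Fin (s - 1) ⊕ Fin (s - 1)) ⊕ Fin 2 → F) →ₗ[F]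
          (((Fin (s - 1) ⊕ Fin (s - 1)) ⊕ Fin 2) ⊕ ((Fin (t - 1) ⊕ Fin (t - 1)) ⊕ Fin 2) → F) :=
        { toFun := fun u => Sum.elim u 0
          map_add' := fun u v => by ext (i | i) <;> simp
          map_smul' := fun c v => by ext (i | i) <;> simp }
      let Er : ((Fin (t - 1) ⊕ Fin (t - 1)) ⊕ Fin 2 → F) →ₗ[F]
          (((Fin (s - 1) ⊕ Fin (s - 1)) ⊕ Fin 2) ⊕ ((Fin (t - 1) ⊕ Fin (t - 1)) ⊕ Fin 2) → F) :=
        { toFun := fun u => Sum.elim 0 u
          map_add' := fun u v => by ext (i | i) <;> simp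
          map_smul' := fun c v => by ext (i | i) <;> simp }
      obtain ⟨A₁, h1, h2⟩ := half_minus_minus (CD.sum CD') hζ hζ' (E := El) (E' := Er)
        (fun u => by simp [El, sumQ, CD'.zero]) (fun u => by simp [Er, sumQ, CD.zero])
        (fun u v => by
          rw [← (CD.sum CD').polar, QuadraticMap.polar]
          have e : El u + Er v = Sum.elim u v := by ext (i | i) <;> simp [El, Er]
          rw [e]
          simp only [El, Er, LinearMap.coe_mk, AddHom.coe_mk, sumQ, Sum.elim_comp_inl, Sum.elim_comp_inr, CD.zero,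
            CD'.zero]
          ring)
      refine ⟨A₁.map M, ?_, ?_, ?_⟩
      · rintro _ ⟨v, -, rfl⟩
        exact Submodule.add_mem_sup ⟨_, rfl⟩ ⟨_, rfl⟩
      · rw [← h1]
        exact (Submodule.equivMapOfInjective M (embed_injective C (CD.sum CD') hM) _).finrank_eq.symm
      · rintro _ ⟨v, hv, rfl⟩
        rw [hM, h2 v hv]
    obtain ⟨A', hA', hA'd, hA'Q⟩ := hle
    exact ⟨A', hA', hA'Q, by omega⟩

/-- A non-degenerate subspace contains proper ones of either type. -/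
theorem exists_sub_type (C : Space Q B) {X : Submodule F (ι → F)} {f s : ℕ} (hXd : finrank F X = 2 * f)
    (hX : NDeg B X) (hs : 1 ≤ s) (hsf : s < f) (τ : Prop) [Decidable τ] :
    ∃ Y : Submodule F (ι → F), Y ≤ X ∧ NDeg B Y ∧ finrank F Y = 2 * s ∧ (Cfsg.Geo.IsPlusTypeOn Q Y ↔ τ) := by
  classical
  obtain ⟨ζ, hζ⟩ := exists_zeta' F
  obtain ⟨D₁, C₁⟩ := exists_space_plus (F := F) s
  obtain ⟨D₂, C₂⟩ := exists_space_minus (s - 1) 1 ζ hζ
  have key : ∀ {μ : Type} [Fintype μ] [DecidableEq μ] {R : (μ → F) → F} {D : LinearMap.BilinForm F (μ → F)}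
      (E : (μ → F) →ₗ[F] (ι → F)), Space R D → (∀ v, Q (E v) = R v) → LinearMap.range E = X →
      Embeds (Cfsg.quadFormPlus s F) R → Embeds (Cfsg.quadFormMinus (s - 1) F 1 ζ) R →
      ∃ Y : Submodule F (ι → F), Y ≤ X ∧ NDeg B Y ∧ finrank F Y = 2 * s ∧ (Cfsg.Geo.IsPlusTypeOn Q Y ↔ τ) := by
    rintro μ _ _ R D E CR hE rfl ⟨L₁, hL₁⟩ ⟨L₂, hL₂⟩
    by_cases hτ : τ
    · have h := plus_type C (E := E.comp L₁) fun v => (hE _).trans (hL₁ v)
      exact ⟨_, LinearMap.range_comp_le_range _ _, ndeg_of_geo C h.2.1, h.1, iff_of_true h.2.2 hτ⟩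
    · have h := minus_type C hζ (E := E.comp L₂) fun v => (hE _).trans (hL₂ v)
      exact ⟨_, LinearMap.range_comp_le_range _ _, ndeg_of_geo C h.2.1, by rw [h.1]; omega, iff_of_false h.2.2 hτ⟩
  rcases exists_std C (show 1 ≤ f by omega) hXd hX with ⟨E, hE, hr⟩ | ⟨ξ, hξ, E, hE, hr⟩
  · obtain ⟨D, CR⟩ := exists_space_plus (F := F) f
    exact key E CR hE hr (embeds_plus_plus hsf.le) (embeds_minus_plus (by omega) ζ)
  · obtain ⟨D, CR⟩ := exists_space_minus (f - 1) 1 ξ hξ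
    exact key E CR hE hr (embeds_plus_minus (by omega) 1 ξ) (embeds_minus_minus (by omega) hξ hζ)

end Cfsg.Lib.Linear.NondegFix
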