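import Cfsg.Agent.Lib.Linear.SymplecticGroup
import Cfsg.Agent.Lib.Linear.JordanForms.Fix

/-!
# Invariant non-degenerate pieces of isometries of alternating forms
-/

set_option autoImplicit false

universe u v

namespace Cfsg.Lib.Linear.AltFix

open Module Cfsg.Lib.Linear.JordanForms

variable {F : Type u} [Field F] {V : Type v} [AddCommGroup V] [Module F V] [FiniteDimensional F V]
  {B : LinearMap.BilinForm F V} {g : End F V}

/-- An isometry of a symplectic space. -/
structure Isom (B : LinearMap.BilinForm F V) (g : End F V) : Prop where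
  alt : B.IsAlt
  nd : B.Nondegenerate
  iso : ∀ x y, B (g x) (g y) = B x y

theorem Isom.inj (H : Isom B g) : Function.Injective g := by
  refine (injective_iff_map_eq_zero g).2 fun x hx => H.nd.1 x fun y => ?_
  rw [← H.iso, hx, map_zero, LinearMap.zero_apply]

theorem exists_preimage (H : Isom B g) {W : Submodule F V} (hi : ∀ x ∈ W, g x ∈ W) {w : V} (hw : w ∈ W) :
    ∃ y ∈ W, g y = w := by
  have hT : Function.Injective (g.restrict hi) := fun x y h => Subtype.ext (H.inj (congrArg Subtype.val h))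
  obtain ⟨y, hy⟩ := (LinearMap.injective_iff_surjective.1 hT) ⟨w, hw⟩
  exact ⟨y, y.2, congrArg Subtype.val hy⟩

/-- An invariant non-degenerate subspace. -/
structure Piece (B : LinearMap.BilinForm F V) (g : End F V) (W : Submodule F V) : Prop where
  nd : Symp.NondegOn B W
  inv : ∀ x ∈ W, g x ∈ W

theorem piece_bot : Piece B g ⊥ :=
  ⟨fun x hx h => absurd ((Submodule.mem_bot F).1 hx) h, fun x hx => by simp [(Submodule.mem_bot F).1 hx]⟩

theorem piece_top (H : Isom B g) : Piece B g ⊤ :=
  ⟨fun x _ hx => by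
    by_contra h
    push Not at h
    exact hx (H.nd.1 x fun y => h y trivial), fun _ _ => trivial⟩

variable {W : Submodule F V}

theorem Piece.restrict_nd (hA : B.IsAlt) (P : Piece B g W) : (B.restrict W).Nondegenerate := by
  have h1 : ∀ x : W, (∀ y : W, B x y = 0) → x = 0 := fun x hx => by
    by_contra h
    obtain ⟨y, hy, hne⟩ := P.nd x x.2 fun e => h (Subtype.ext e)
    exact hne (hx ⟨y, hy⟩)
  exact ⟨fun x hx => h1 x fun y => hx y, fun x hx => h1 x fun y => hA.isRefl _ _ (hx y)⟩

theorem Piece.isCompl (hA : B.IsAlt) (P : Piece B g W) : IsCompl W (B.orthogonal W) :=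
  LinearMap.BilinForm.isCompl_orthogonal_of_restrict_nondegenerate hA.isRefl (P.restrict_nd hA)

theorem Piece.perp (H : Isom B g) (P : Piece B g W) : Piece B g (B.orthogonal W) := by
  refine ⟨fun x hx hx0 => ?_, fun x hx w hw => ?_⟩
  · by_contra h
    push Not at h
    refine hx0 (H.nd.1 x fun y => ?_)
    obtain ⟨w, hw, u, hu, rfl⟩ := Submodule.mem_sup.1
      ((P.isCompl H.alt).sup_eq_top ▸ Submodule.mem_top : y ∈ W ⊔ B.orthogonal W)
    rw [map_add, h u hu, add_zero, H.alt.isRefl _ _ (hx w hw)]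
  · obtain ⟨y, hy, rfl⟩ := exists_preimage H P.inv hw
    show B (g y) (g x) = 0
    rw [H.iso]
    exact hx y hy

theorem Piece.finrank_perp (H : Isom B g) (P : Piece B g W) :
    finrank F W + finrank F (B.orthogonal W) = finrank F V :=
  Submodule.finrank_add_eq_of_isCompl (P.isCompl H.alt)

theorem Piece.finrank_even (H : Isom B g) (P : Piece B g W) : Even (finrank F W) :=
  SympInv.even_finrank B _ W le_rfl (fun w _ => H.alt w) P.nd

theorem Piece.toIsom (H : Isom B g) (P : Piece B g W) : Isom (B.restrict W) (g.restrict P.inv) :=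
  ⟨fun x => H.alt _, P.restrict_nd H.alt, fun x y => H.iso x y⟩

/-- A piece inside a piece. -/
theorem Piece.push {U : Submodule F V} (hi : ∀ x ∈ U, g x ∈ U) {X : Submodule F U}
    (Q : Piece (B.restrict U) (g.restrict hi) X) : Piece B g (X.map U.subtype) := by
  refine ⟨?_, ?_⟩
  · rintro _ ⟨x, hx, rfl⟩ hx0
    obtain ⟨y, hy, hxy⟩ := Q.nd x hx fun e => hx0 (by rw [e, map_zero])
    exact ⟨y, ⟨y, hy, rfl⟩, hxy⟩
  · rintro _ ⟨x, hx, rfl⟩
    exact ⟨_, Q.inv x hx, rfl⟩

/-- A piece and a piece orthogonal to it. -/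
theorem Piece.sup (H : Isom B g) (P : Piece B g W) {X : Submodule F V} (hX : X ≤ B.orthogonal W) (Q : Piece B g X) :
    Piece B g (W ⊔ X) ∧ finrank F ↥(W ⊔ X) = finrank F W + finrank F X := by
  refine ⟨⟨fun z hz hz0 => ?_, fun z hz => ?_⟩, ?_⟩
  · obtain ⟨a, ha, b, hb, rfl⟩ := Submodule.mem_sup.1 hz
    by_cases ha0 : a = 0
    · subst ha0
      rw [zero_add] at hz0 ⊢
      obtain ⟨y, hy, hby⟩ := Q.nd b hb hz0
      exact ⟨y, Submodule.mem_sup_right hy, hby⟩
    · obtain ⟨y, hy, hay⟩ := P.nd a ha ha0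
      refine ⟨y, Submodule.mem_sup_left hy, ?_⟩
      rwa [map_add, LinearMap.add_apply, H.alt.isRefl _ _ (hX hb y hy), add_zero]
  · obtain ⟨a, ha, b, hb, rfl⟩ := Submodule.mem_sup.1 hz
    rw [map_add]
    exact Submodule.add_mem_sup (P.inv a ha) (Q.inv b hb)
  · have h : W ⊓ X = ⊥ := eq_bot_iff.2 fun x hx => by
      rw [← (P.isCompl H.alt).inf_eq_bot]
      exact ⟨hx.1, hX hx.2⟩
    have := Submodule.finrank_sup_add_finrank_inf_eq W X
    rw [h, finrank_bot, add_zero] at this
    exact this

/-- A piece of the complement extends a piece. -/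
theorem Piece.extend (H : Isom B g) (P : Piece B g W) {X : Submodule F ↥(B.orthogonal W)}
    (Q : Piece (B.restrict (B.orthogonal W)) (g.restrict (P.perp H).inv) X) :
    ∃ Z, Piece B g Z ∧ finrank F Z = finrank F W + finrank F X := by
  have h := P.sup H (Submodule.map_subtype_le _ _) (Piece.push _ Q)
  exact ⟨_, h.1, h.2.trans (by rw [Submodule.finrank_map_subtype_eq])⟩

section Chain

variable {t e : ℕ} (u : Fin t → V)

/-- The spanning family of a chain. -/
def fam (N : End F V) (e : ℕ) (x : Fin t × Fin e) : V := (N ^ (x.2 : ℕ)) (u x.1)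

theorem fam_core (B : LinearMap.BilinForm F V) (N : End F V) (he : ∀ k, (N ^ e) (u k) = 0)
    (hgram : ∀ c : Fin t → F, (∀ l, B (∑ k, c k • (N ^ (e - 1)) (u k)) (u l) = 0) → c = 0)
    (f : Fin t × Fin e → F) (h : ∀ a l, B ((N ^ a) (∑ x, f x • fam u N e x)) (u l) = 0) : f = 0 := by
  classical
  suffices key : ∀ (i : ℕ) (hi : i < e) (k : Fin t), f (k, ⟨i, hi⟩) = 0 from funext fun x => key x.2.1 x.2.2 x.1
  intro i
  induction i using Nat.strong_induction_on with
  | _ i ih =>
    intro hi k
    refine congrFun (hgram (fun k => f (k, ⟨i, hi⟩)) fun l => ?_) k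
    rw [← h (e - 1 - i) l]
    refine congrArg (fun z => B z (u l)) ?_
    rw [map_sum, Fintype.sum_prod_type]
    refine Finset.sum_congr rfl fun k _ => ?_
    rw [Finset.sum_eq_single ⟨i, hi⟩ (fun j _ hj => ?_) (fun h' => absurd (Finset.mem_univ _) h'), map_smul, fam,
      ← End.mul_apply, ← pow_add, show e - 1 - i + i = e - 1 by omega]
    rw [map_smul, fam, ← End.mul_apply, ← pow_add]
    rcases Nat.lt_or_ge (j : ℕ) i with hlt | hge
    · rw [ih j hlt j.2 k, zero_smul]
    · have hne : (j : ℕ) ≠ i := fun e => hj (Fin.ext e)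
      rw [show e - 1 - i + j = e - 1 - i + j - e + e by omega, pow_add, End.mul_apply, he, map_zero, smul_zero]

variable {u}

theorem fam_independent (B : LinearMap.BilinForm F V) (N : End F V) (he : ∀ k, (N ^ e) (u k) = 0)
    (hgram : ∀ c : Fin t → F, (∀ l, B (∑ k, c k • (N ^ (e - 1)) (u k)) (u l) = 0) → c = 0) :
    LinearIndependent F (fam u N e) :=
  Fintype.linearIndependent_iff.2 fun f hf i => congrFun (fam_core u B N he hgram f fun a l => by
    rw [hf, map_zero, map_zero, LinearMap.zero_apply]) i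

/-- The chain spanned by some vectors of height `e` with non-degenerate top pairing. -/
theorem chain (H : Isom B g) (he1 : 1 ≤ e) (he : ∀ k, ((g - 1) ^ e) (u k) = 0)
    (hgram : ∀ c : Fin t → F, (∀ l, B (∑ k, c k • ((g - 1) ^ (e - 1)) (u k)) (u l) = 0) → c = 0) :
    ∃ (W : Submodule F V) (hN : ∀ x ∈ W, (g - 1) x ∈ W), Piece B g W ∧ finrank F W = t * e ∧
      ∀ j, 1 ≤ j → mu ((g - 1).restrict hN) j = if j = e then t else 0 := by
  classical
  set N := g - 1 with hNdef
  have hli := fam_independent B N he hgram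
  let W := Submodule.span F (Set.range (fam u N e))
  have hN : ∀ x ∈ W, N x ∈ W := fun x hx => by
    have hle : W.map N ≤ W := by
      rw [Submodule.map_span]
      refine Submodule.span_le.2 ?_
      rintro _ ⟨_, ⟨⟨k, i⟩, rfl⟩, rfl⟩
      show N ((N ^ (i : ℕ)) (u k)) ∈ W
      rw [← End.mul_apply, ← pow_succ']
      rcases Nat.lt_or_ge ((i : ℕ) + 1) e with h | h
      · exact Submodule.subset_span ⟨(k, ⟨_, h⟩), rfl⟩
      · rw [show (i : ℕ) + 1 = e by omega, he]
        exact W.zero_mem
    exact hle ⟨x, hx, rfl⟩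
  have hg : ∀ x ∈ W, g x ∈ W := fun x hx => by
    have h := W.add_mem (hN x hx) hx
    rwa [hNdef, LinearMap.sub_apply, End.one_apply, sub_add_cancel] at h
  have hWd : finrank F W = t * e := by
    rw [finrank_span_eq_card hli, Fintype.card_prod, Fintype.card_fin, Fintype.card_fin]
  have hnd : Symp.NondegOn B W := by
    intro x hx hx0
    by_contra hcon
    push Not at hcon
    have hR : ∀ a, ∀ y ∈ W, B ((N ^ a) x) y = 0 ∧ (N ^ a) x ∈ W := fun a => by
      induction a with
      | zero => exact fun y hy => ⟨by simpa using hcon y hy, by simpa using hx⟩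
      | succ a ih =>
        intro y hy
        rw [pow_succ', End.mul_apply]
        refine ⟨?_, hN _ (ih y hy).2⟩
        rw [hNdef, LinearMap.sub_apply, End.one_apply, map_sub, LinearMap.sub_apply]
        obtain ⟨y', hy', rfl⟩ := exists_preimage H hg hy
        rw [H.iso, ← hNdef, (ih y' hy').1, (ih _ (hg y' hy')).1, sub_zero]
    obtain ⟨f, rfl⟩ := (Submodule.mem_span_range_iff_exists_fun F).1 hx
    refine hx0 (Finset.sum_eq_zero fun i _ => ?_)
    rw [fam_core u B N he hgram f fun a l => (hR a _ (Submodule.subset_span ⟨(l, ⟨0, he1⟩), by simp [fam]⟩)).1,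
      Pi.zero_apply, zero_smul]
  refine ⟨W, hN, ⟨hnd, hg⟩, hWd, fun j hj => ?_⟩
  have hkd : ∀ i, kd (N.restrict hN) i + t * (e - i) = t * e := fun i => by
    have h := LinearMap.finrank_range_add_finrank_ker ((N ^ i).domRestrict W)
    rw [hWd] at h
    have hker : finrank F (LinearMap.ker ((N ^ i).domRestrict W)) = kd (N.restrict hN) i := by
      rw [kd, End.pow_restrict]
      refine congrArg (fun S : Submodule F W => finrank F S) (Submodule.ext fun x => ?_)
      simp [Subtype.ext_iff]
    have hrange : finrank F (LinearMap.range ((N ^ i).domRestrict W)) = t * (e - i) := by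
      let σ : Fin t × Fin (e - i) → Fin t × Fin e := fun x => (x.1, ⟨x.2 + i, by have := x.2.2; omega⟩)
      have hσ : Function.Injective σ := fun a b h => by
        simp only [σ, Prod.mk.injEq, Fin.mk.injEq] at h
        exact Prod.ext h.1 (Fin.ext (by omega))
      have hW : W.map (N ^ i) = Submodule.span F (Set.range (fam u N e ∘ σ)) := by
        rw [Submodule.map_span]
        refine le_antisymm (Submodule.span_le.2 ?_) (Submodule.span_le.2 ?_)
        · rintro _ ⟨_, ⟨⟨k, a⟩, rfl⟩, rfl⟩
          show (N ^ i) ((N ^ (a : ℕ)) (u k)) ∈ Submodule.span F (Set.range (fam u N e ∘ σ))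
          rw [← End.mul_apply, ← pow_add, add_comm]
          rcases Nat.lt_or_ge ((a : ℕ) + i) e with h | h
          · exact Submodule.subset_span ⟨(k, ⟨a, by omega⟩), rfl⟩
          · rw [show (a : ℕ) + i = a + i - e + e by omega, pow_add, End.mul_apply, he, map_zero]
            exact Submodule.zero_mem _
        · rintro _ ⟨⟨k, a⟩, rfl⟩
          refine Submodule.subset_span ⟨fam u N e (k, ⟨a, by have := a.2; omega⟩), ⟨_, rfl⟩, ?_⟩
          show (N ^ i) ((N ^ (a : ℕ)) (u k)) = (N ^ ((a : ℕ) + i)) (u k)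
          rw [← End.mul_apply, ← pow_add, add_comm]
      rw [LinearMap.range_domRestrict, hW, finrank_span_eq_card (hli.comp σ hσ), Fintype.card_prod,
        Fintype.card_fin, Fintype.card_fin]
    omega
  have h0 := hkd (j - 1)
  have h1 := hkd j
  have h2 := hkd (j + 1)
  rw [mu]
  rcases lt_trichotomy j e with hlt | rfl | hgt
  · rw [if_neg hlt.ne]
    have e1 : t * (e - (j - 1)) = t * (e - j) + t := by rw [show e - (j - 1) = e - j + 1 by omega, mul_add_one]
    have e2 : t * (e - j) = t * (e - (j + 1)) + t := by rw [show e - j = e - (j + 1) + 1 by omega, mul_add_one]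
    omega
  · rw [if_pos rfl]
    rw [show j - (j - 1) = 1 by omega, mul_one] at h0
    rw [Nat.sub_self, mul_zero] at h1
    rw [show j - (j + 1) = 0 by omega, mul_zero] at h2
    omega
  · rw [if_neg hgt.ne']
    rw [show e - (j - 1) = 0 by omega, mul_zero] at h0
    rw [show e - j = 0 by omega, mul_zero] at h1
    rw [show e - (j + 1) = 0 by omega, mul_zero] at h2
    omega

theorem gram_one {x u : V} (h : B x u ≠ 0) (c : Fin 1 → F)
    (hc : ∀ l, B (∑ k, c k • (![x] : Fin 1 → V) k) ((![u] : Fin 1 → V) l) = 0) : c = 0 := by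
  have h1 := hc 0
  simp at h1
  funext k
  rw [Subsingleton.elim k 0]
  exact h1.resolve_right h

theorem gram_two {x y u v : V} (h0 : B x u = 0) (h1 : B y v = 0) (h2 : B x v ≠ 0) (h3 : B y u ≠ 0) (c : Fin 2 → F)
    (hc : ∀ l, B (∑ k, c k • (![x, y] : Fin 2 → V) k) ((![u, v] : Fin 2 → V) l) = 0) : c = 0 := by
  have e0 := hc 0
  have e1 := hc 1
  simp [Fin.sum_univ_two, h0, h1] at e0 e1
  funext k
  fin_cases k
  · exact e1.resolve_right h2
  · exact e0.resolve_right h3

/-- One chain. -/
theorem chain_one (H : Isom B g) (he1 : 1 ≤ e) {x : V} (he : ((g - 1) ^ e) x = 0)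
    (h : B (((g - 1) ^ (e - 1)) x) x ≠ 0) :
    ∃ (W : Submodule F V) (hN : ∀ x ∈ W, (g - 1) x ∈ W), Piece B g W ∧ finrank F W = e ∧
      ∀ j, 1 ≤ j → mu ((g - 1).restrict hN) j = if j = e then 1 else 0 := by
  simpa using chain (u := ![x]) H he1 (fun k => by rw [Subsingleton.elim k 0]; simpa using he)
    fun c hc => gram_one h c fun l => by simpa using hc l

/-- Two chains paired with each other. -/
theorem chain_two (H : Isom B g) (he1 : 1 ≤ e) {x y : V} (hex : ((g - 1) ^ e) x = 0) (hey : ((g - 1) ^ e) y = 0)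
    (h0 : B (((g - 1) ^ (e - 1)) x) x = 0) (h1 : B (((g - 1) ^ (e - 1)) y) y = 0)
    (h2 : B (((g - 1) ^ (e - 1)) x) y ≠ 0) (h3 : B (((g - 1) ^ (e - 1)) y) x ≠ 0) :
    ∃ (W : Submodule F V) (hN : ∀ x ∈ W, (g - 1) x ∈ W), Piece B g W ∧ finrank F W = 2 * e ∧
      ∀ j, 1 ≤ j → mu ((g - 1).restrict hN) j = if j = e then 2 else 0 :=
  chain (u := ![x, y]) H he1 (fun k => by fin_cases k <;> assumption)
    fun c hc => gram_two h0 h1 h2 h3 c fun l => by simpa [Fin.sum_univ_two] using hc l

end Chain

/-- The adjoint of the last power of `g - 1`. -/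
theorem pow_adjoint (H : Isom B g) {a : ℕ} (ha : (g - 1) ^ (a + 1) = 0) (x y : V) :
    B (((g - 1) ^ a) x) y = (-1) ^ a * B x (((g - 1) ^ a) y) := by
  set N := g - 1 with hN
  have hstep : ∀ x y, B (N x) (g y) = -B x (N y) := fun x y => by
    simp only [hN, LinearMap.sub_apply, End.one_apply, map_sub, LinearMap.sub_apply, H.iso]
    ring
  have hfix : ∀ (b : ℕ) y, B ((N ^ a) x) ((g ^ b) y) = B ((N ^ a) x) y := by
    intro b
    induction b with
    | zero => simp
    | succ b ih =>
      intro y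
      have hgz : g ((N ^ a) x) = (N ^ a) x := by
        have h : N ((N ^ a) x) = 0 := by rw [← End.mul_apply, ← pow_succ', ha, LinearMap.zero_apply]
        exact sub_eq_zero.1 h
      rw [pow_succ, End.mul_apply, ih]
      conv_lhs => rw [← hgz]
      exact H.iso _ _
  have hcomm : Commute g N := (Commute.refl g).sub_right (Commute.one_right g)
  have hgen : ∀ (b : ℕ) x y, B ((N ^ b) x) ((g ^ b) y) = (-1) ^ b * B x ((N ^ b) y) := by
    intro b
    induction b with
    | zero => simp
    | succ b ih =>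
      intro x y
      rw [pow_succ' N b, pow_succ' g b, End.mul_apply, End.mul_apply, hstep, ← End.mul_apply N,
        ← (hcomm.pow_left b).eq, End.mul_apply, ih, ← End.mul_apply (N ^ b), ← pow_succ, ← pow_succ']
      ring
  rw [← hfix a y, hgen]

theorem ne_zero_exists (H : Isom B g) {x : V} (hx : x ≠ 0) : ∃ y, B x y ≠ 0 := by
  by_contra h
  push Not at h
  exact hx (H.nd.1 x h)

end Cfsg.Lib.Linear.AltFix
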