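import Cfsg.Agent.Lib.Linear.NondegFix.AltUnip
import Cfsg.Agent.Lib.Linear.IsotropicFix.Symp
import Cfsg.Agent.S5961

/-!
# Non-degenerate subspaces fixed by semisimple elements of symplectic groups
-/

set_option autoImplicit false

universe u

namespace Cfsg.Lib.Linear.AltFix

open Module Polynomial Cfsg.Lib.Linear Cfsg.Lib.Linear.IsoFix Cfsg.Agent.Lib.Linear.PrimeClasses Cfsg.Agent.S5961
open scoped Matrix

variable {F : Type u} [Field F] [Fintype F] {L : Type u} [Field L] [Algebra F L] [IsAlgClosed L] {r : ℕ}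
  [Fact r.Prime] {ζ : L}

/-- An element with prescribed multiplicities on a non-degenerate subspace fixes a conjugate of it. -/
theorem exists_piece_of_mult (hζ : IsPrimitiveRoot ζ r) (hrF : (r : F) ≠ 0)
    {uq : (ZMod r)ˣ} (huq : (uq : ZMod r) = (Fintype.card F : ZMod r)) (hr2 : r ≠ 2) (w : (ZMod r)ˣ)
    (hwq : ∃ k : ℕ, uq = w ^ k) (hwn : ∃ k : ℕ, (-1 : (ZMod r)ˣ) = w ^ k) {k d : ℕ} (hkd : k ≤ d)
    (y : Matrix.symplecticGroup (Fin d) F) (hy : y ^ r = 1) {my μ : ZMod r → ℕ}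
    (hmy : (y : Matrix (Fin d ⊕ Fin d) (Fin d ⊕ Fin d) F).charpoly.map (algebraMap F L) = Pm ζ my)
    (hμ : Inv w (k + k) μ) (hinv : Inv w (d + d) my) (hle : ∀ x, μ x ≤ my x) (he : Even (μ 0))
    (he' : Even (my 0 - μ 0)) :
    ∃ W : Submodule F (Fin d ⊕ Fin d → F),
      Piece (Symp.spB d F) (Matrix.toLinAlgEquiv' (y : Matrix (Fin d ⊕ Fin d) (Fin d ⊕ Fin d) F)) W ∧
      finrank F W = k + k := by
  classical
  let ρ : ZMod r → ℕ := fun x => my x - μ x
  have hρ : Inv w ((d - k) + (d - k)) ρ := by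
    refine ⟨?_, fun x => ?_⟩
    · rw [Finset.sum_tsub_distrib _ fun x _ => hle x, hinv.1, hμ.1]
      omega
    · show my _ - μ _ = my x - μ x
      rw [hinv.2, hμ.2]
  obtain ⟨P, ⟨κ, _, _, J₁, A₁, hJ₁, hJu₁, hA₁, hAr₁, hAp₁⟩, -, hP⟩ :=
    altReal_any (F := F) hζ huq hr2 w hwq hwn hμ he
  obtain ⟨P', ⟨κ', _, _, J₂, A₂, hJ₂, hJu₂, hA₂, hAr₂, hAp₂⟩, -, hP'⟩ :=
    altReal_any (F := F) hζ huq hr2 w hwq hwn hρ he'
  have hcard₁ : Fintype.card κ = k + k := by
    rw [← Matrix.charpoly_natDegree_eq_dim A₁, hAp₁, ← natDegree_map (algebraMap F L), hP, Pm_natDegree, hμ.1]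
  have hcard₂ : Fintype.card κ' = (d - k) + (d - k) := by
    rw [← Matrix.charpoly_natDegree_eq_dim A₂, hAp₂, ← natDegree_map (algebraMap F L), hP', Pm_natDegree, hρ.1]
  let J : Matrix (κ ⊕ κ') (κ ⊕ κ') F := Matrix.fromBlocks J₁ 0 0 J₂
  let A : Matrix (κ ⊕ κ') (κ ⊕ κ') F := Matrix.fromBlocks A₁ 0 0 A₂
  obtain ⟨g, ψ, hgr, hgp, hB, hgψ⟩ := exists_sp_transport J A
    (fun v => by
      rw [← Sum.elim_comp_inl_inr v, Matrix.fromBlocks_mulVec, sum_dot]
      simp only [Sum.elim_comp_inl, Sum.elim_comp_inr, Matrix.zero_mulVec, add_zero, zero_add, hJ₁, hJ₂])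
    (Matrix.isUnit_fromBlocks_zero₁₂.mpr ⟨hJu₁, hJu₂⟩)
    (by simp [A, J, Matrix.fromBlocks_transpose, Matrix.fromBlocks_multiply, hA₁, hA₂])
    (d := d) (by simp only [Fintype.card_sum, hcard₁, hcard₂]; omega) (r := r)
    (by simp only [A, fromBlocks_pow, hAr₁, hAr₂, Matrix.fromBlocks_one])
  have hgp' : (g : Matrix (Fin d ⊕ Fin d) (Fin d ⊕ Fin d) F).charpoly.map (algebraMap F L) =
      (y : Matrix (Fin d ⊕ Fin d) (Fin d ⊕ Fin d) F).charpoly.map (algebraMap F L) := by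
    rw [hgp, Matrix.charpoly_fromBlocks_zero₁₂, hAp₁, hAp₂, Polynomial.map_mul, hP, hP', ← Pm_add, hmy]
    exact congrArg (Pm ζ) (funext fun x => Nat.add_sub_cancel' (hle x))
  have hN : ((orderOf g : ℕ) : F) ≠ 0 := by
    rcases (Fact.out : r.Prime).eq_one_or_self_of_dvd _ (orderOf_dvd_of_pow_eq_one hgr) with h | h <;> rw [h]
    · exact_mod_cast one_ne_zero
    · exact hrF
  obtain ⟨T, hT⟩ := isConj_iff.1 (SympConj.isConj_sp_of_isConj g y hN (SympConj.isConj_matrix_of_charpoly_eq g y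
    hrF hrF hgr hy (Polynomial.map_injective _ (algebraMap F L).injective hgp')))
  set Y := (y : Matrix (Fin d ⊕ Fin d) (Fin d ⊕ Fin d) F)
  set G := (g : Matrix (Fin d ⊕ Fin d) (Fin d ⊕ Fin d) F)
  set S := (T : Matrix (Fin d ⊕ Fin d) (Fin d ⊕ Fin d) F)
  have hcomm : Y * S = S * G := congrArg Subtype.val (show y * T = T * g by rw [← hT]; group)
  let E : (κ → F) →ₗ[F] (Fin d ⊕ Fin d → F) := Matrix.mulVecLin S ∘ₗ (ψ.symm : (κ ⊕ κ' → F) →ₗ[F] _) ∘ₗ
    { toFun := fun c => Sum.elim c 0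
      map_add' := fun a b => by ext (i | i) <;> simp
      map_smul' := fun a b => by ext (i | i) <;> simp }
  have hE : ∀ a b, Symp.spB d F (E a) (E b) = a ⬝ᵥ (J₁ *ᵥ b) := fun a b => by
    show Symp.spB d F (S *ᵥ _) (S *ᵥ _) = _
    rw [(Symp.mem_symplecticGroup_iff _).1 T.2]
    simp [hB, J, Matrix.fromBlocks_mulVec, sum_dot]
  have hnd : ∀ a, a ≠ 0 → ∃ b, a ⬝ᵥ (J₁ *ᵥ b) ≠ 0 := fun a ha => by
    by_contra h
    push Not at h
    obtain ⟨Ji, hJi⟩ := hJu₁.exists_right_inv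
    refine ha (funext fun i => ?_)
    have h' := h (Ji *ᵥ Pi.single i 1)
    rw [Matrix.mulVec_mulVec, hJi, Matrix.one_mulVec, dotProduct_single, mul_one] at h'
    exact h'
  have hEi : Function.Injective E := (injective_iff_map_eq_zero E).2 fun a ha => by
    by_contra hne
    obtain ⟨b, hb⟩ := hnd a hne
    rw [← hE, ha, map_zero, LinearMap.zero_apply] at hb
    exact hb rfl
  refine ⟨LinearMap.range E, ⟨?_, ?_⟩, by rw [LinearMap.finrank_range_of_inj hEi, finrank_fintype_fun_eq_card, hcard₁]⟩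
  · rintro _ ⟨a, rfl⟩ hne
    obtain ⟨b, hb⟩ := hnd a fun h => hne (by rw [h, map_zero])
    exact ⟨E b, ⟨b, rfl⟩, by rwa [hE]⟩
  · rintro _ ⟨a, rfl⟩
    refine ⟨A₁ *ᵥ a, ?_⟩
    show S *ᵥ _ = Y *ᵥ (S *ᵥ _)
    rw [Matrix.mulVec_mulVec, hcomm, ← Matrix.mulVec_mulVec]
    congr 1
    refine ψ.injective ?_
    show ψ (ψ.symm _) = ψ (G *ᵥ ψ.symm _)
    rw [hgψ, LinearEquiv.apply_symm_apply, LinearEquiv.apply_symm_apply]
    simp [A, Matrix.fromBlocks_mulVec]

omit L in
/-- If small enough, the number of non-degenerate subspaces is prime to `r`. -/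
theorem not_dvd_count (p : ℕ) [Fact p.Prime] [CharP F p] (hrp : r ≠ p) {d k i c : ℕ}
    (hi : i = orderOf (Fintype.card F : ZMod r)) (hc : c = if Even i then i else 2 * i) (hk : 2 * k ≤ (2 * d) % c) :
    ¬ r ∣ Nat.card {W : Submodule F (Fin d ⊕ Fin d → F) // finrank F ↥W = 2 * k ∧
      ∀ u ∈ W, u ≠ 0 → ∃ v ∈ W, Cfsg.sympForm d F u v ≠ 0} := by
  classical
  set X := {W : Submodule F (Fin d ⊕ Fin d → F) // finrank F ↥W = 2 * k ∧
    ∀ u ∈ W, u ≠ 0 → ∃ v ∈ W, Cfsg.sympForm d F u v ≠ 0}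
  let G := Matrix.symplecticGroup (Fin d) F
  have hA := Symp.spB_isAlt d F
  have hB := Symp.spB_nondegenerate d F
  have hrq : ¬ r ∣ Fintype.card F := fun h => by
    obtain ⟨t, -, ht⟩ := FiniteField.card F p
    rw [ht] at h
    exact hrp ((Nat.prime_dvd_prime_iff_eq Fact.out Fact.out).mp ((Fact.out : r.Prime).dvd_of_dvd_pow h))
  have hrF : (r : F) ≠ 0 := fun h =>
    hrp ((Nat.prime_dvd_prime_iff_eq Fact.out (Fact.out : r.Prime)).mp ((CharP.cast_eq_zero_iff F p r).mp h)).symm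
  let el : G →* ((Fin d ⊕ Fin d → F) ≃ₗ[F] (Fin d ⊕ Fin d → F)) :=
    (Symp.iso (Symp.spB d F)).subtype.comp (Symp.spEquiv (m := d) (F := F)).toMonoidHom
  have hform : ∀ (A : G) u v, Cfsg.sympForm d F (el A u) (el A v) = Cfsg.sympForm d F u v := fun A u v => by
    rw [← Symp.spB_apply, ← Symp.spB_apply]
    exact (Symp.spEquiv A).2 u v
  letI : MulAction G X :=
    { smul := fun A W => ⟨W.1.map (el A : (Fin d ⊕ Fin d → F) →ₗ[F] (Fin d ⊕ Fin d → F)),
        (LinearEquiv.finrank_map_eq _ W.1).trans W.2.1, by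
          rintro _ ⟨a, ha, rfl⟩ hne
          obtain ⟨b, hb, hab⟩ := W.2.2 a ha fun h => hne (by rw [h, map_zero])
          exact ⟨_, ⟨b, hb, rfl⟩, fun h => hab ((hform A a b).symm.trans h)⟩⟩
      one_smul := fun W => Subtype.ext (by
        show W.1.map _ = W.1
        rw [map_one]
        exact Submodule.map_id _)
      mul_smul := fun A C W => Subtype.ext (by
        show W.1.map _ = (W.1.map _).map _
        rw [map_mul, ← Submodule.map_comp]
        rfl) }
  have hN : ∀ W : X, Symp.NondegOn (Symp.spB d F) W.1 := fun W x hx hx0 => by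
    obtain ⟨y, hy, h⟩ := W.2.2 x hx hx0
    exact ⟨y, hy, by rwa [Symp.spB_apply]⟩
  haveI : MulAction.IsPretransitive G X := by
    refine ⟨fun W W' => ?_⟩
    obtain ⟨φ, hφW, hφ⟩ := Symp.exists_isometry_between hA _ W.1 W'.1 le_rfl (hN W) (hN W') (W.2.1.trans W'.2.1.symm).le
    have hinj : Function.Injective φ := (injective_iff_map_eq_zero φ).2 fun a ha => by
      by_contra hne
      obtain ⟨b, hb, hab⟩ := hN W a a.2 fun h => hne (Subtype.ext h)
      have h1 := hφ a ⟨b, hb⟩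
      rw [ha, map_zero, LinearMap.zero_apply] at h1
      exact hab h1.symm
    obtain ⟨t, ht, htx⟩ := Symp.witt hB hA W.1 φ hinj hφ
    refine ⟨Symp.spEquiv.symm ⟨t, (Symp.T_le_fixer hA ⊥ ht).1⟩, Subtype.ext ?_⟩
    refine Submodule.eq_of_le_of_finrank_eq ?_ ((LinearEquiv.finrank_map_eq _ W.1).trans (W.2.1.trans W'.2.1.symm))
    rintro _ ⟨a, ha, rfl⟩
    show ((Symp.spEquiv (Symp.spEquiv.symm ⟨t, _⟩)).1) a ∈ W'.1
    rw [MulEquiv.apply_symm_apply]
    show t a ∈ W'.1
    rw [htx ⟨a, ha⟩]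
    exact hφW _
  -- the fixed space of a Sylow subgroup
  let P : Sylow r G := default
  haveI : Fintype (P : Subgroup G) := Fintype.ofFinite _
  let V := Fin d ⊕ Fin d → F
  let Fx : Submodule F V :=
    { carrier := {v | ∀ g : (P : Subgroup G), el g v = v}
      add_mem' := fun ha hb g => by rw [map_add, ha g, hb g]
      zero_mem' := fun g => map_zero _
      smul_mem' := fun c v hv g => by rw [map_smul, hv g] }
  have hmemFx : ∀ v, v ∈ Fx ↔ ∀ g : (P : Subgroup G), el g v = v := fun v => Iff.rfl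
  have hcard : ((Fintype.card (P : Subgroup G) : ℕ) : F) ≠ 0 := by
    obtain ⟨e, he⟩ := P.isPGroup'.exists_card_eq
    rw [Fintype.card_eq_nat_card, he, Nat.cast_pow]
    exact pow_ne_zero _ hrF
  have hFx : Symp.NondegOn (Symp.spB d F) Fx := fun u hu hu0 => by
    obtain ⟨y, hy⟩ := ne_zero_exists (g := (1 : End F V)) ⟨hA, hB, fun _ _ => rfl⟩ hu0
    refine ⟨∑ g : (P : Subgroup G), el g y, (hmemFx _).2 fun h => ?_, ?_⟩
    · rw [map_sum]
      refine Fintype.sum_equiv (Equiv.mulLeft h) _ _ fun g => ?_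
      show el h (el g y) = el ((h * g : (P : Subgroup G)) : G) y
      rw [Subgroup.coe_mul, map_mul]
      rfl
    · have hg : ∀ g : (P : Subgroup G), Symp.spB d F u (el g y) = Symp.spB d F u y := fun g => by
        conv_lhs => rw [← (hmemFx u).1 hu g]
        exact (Symp.spEquiv (g : G)).2 u y
      rw [map_sum, Finset.sum_congr rfl fun g _ => hg g]
      rw [Finset.sum_const, Finset.card_univ, ← Nat.cast_smul_eq_nsmul F, smul_eq_mul]
      exact mul_ne_zero hcard hy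
  have hdim : i ∣ 2 * d - finrank F Fx := by
    let ρ : (P : Subgroup G) →* ((V →ₗ[F] V)) :=
      { toFun := fun g => (el g : V →ₗ[F] V)
        map_one' := LinearMap.ext fun v => by simp
        map_mul' := fun a b => LinearMap.ext fun v => by simp }
    letI : MulAction (P : Subgroup G) V := MulAction.compHom V ρ
    haveI : Finite V := inferInstance
    have h := P.isPGroup'.card_modEq_card_fixedPoints V
    have hfix : MulAction.fixedPoints (P : Subgroup G) V = (Fx : Set V) := rfl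
    rw [hfix] at h
    change _ ≡ Nat.card ↥Fx [MOD r] at h
    rw [Module.natCard_eq_pow_finrank (K := F) (V := V), Module.natCard_eq_pow_finrank (K := F) (V := Fx),
      ← ZMod.natCast_eq_natCast_iff, Nat.card_eq_fintype_card, Symp.finrank_space] at h
    push_cast at h
    rw [hi]
    refine orderOf_dvd_of_pow_eq_one ?_
    have hne : (Fintype.card F : ZMod r) ≠ 0 := fun h => hrq ((ZMod.natCast_eq_zero_iff _ _).1 h)
    have hle := Submodule.finrank_le Fx
    rw [Symp.finrank_space] at hle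
    rw [← Nat.add_sub_cancel' hle, pow_add] at h
    exact mul_left_cancel₀ (pow_ne_zero _ hne) (h.trans (mul_one _).symm)
  have hge : 2 * k ≤ finrank F Fx := by
    have hle := Submodule.finrank_le Fx
    rw [Symp.finrank_space] at hle
    obtain ⟨a, ha⟩ := SympInv.even_finrank _ _ Fx le_rfl (fun w _ => hA w) hFx
    have hcd : c ∣ 2 * d - finrank F Fx := by
      rw [hc]
      split_ifs with he
      · exact hdim
      · exact Nat.Coprime.mul_dvd_of_dvd_of_dvd
          ((Nat.Prime.coprime_iff_not_dvd Nat.prime_two).2 fun h => he (even_iff_two_dvd.2 h))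
          ⟨d - a, by omega⟩ hdim
    obtain ⟨K, hK⟩ := hcd
    rw [show 2 * d = finrank F Fx + c * K by omega, Nat.add_mul_mod_self_left] at hk
    exact hk.trans (Nat.mod_le _ _)
  have Q : Piece (Symp.spB d F) (1 : End F V) Fx := ⟨hFx, fun x hx => hx⟩
  obtain ⟨Z, hZ, hZd⟩ := exists_nd_sub k ((Symp.spB d F).restrict Fx)
    ⟨fun x => hA _, Q.restrict_nd hA, fun x y => rfl⟩ hge
  have hW := Piece.push Q.inv (g := (1 : End F V)) (B := Symp.spB d F) (X := Z) hZ
  let W : X := ⟨Z.map Fx.subtype, by rw [Submodule.finrank_map_subtype_eq, hZd], fun u hu hu0 => by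
    obtain ⟨v, hv, h⟩ := hW.nd u hu hu0
    exact ⟨v, hv, by rwa [← Symp.spB_apply]⟩⟩
  have hPW : (P : Subgroup G) ≤ MulAction.stabilizer G W := fun g hg => by
    rw [MulAction.mem_stabilizer_iff]
    refine Subtype.ext (Submodule.eq_of_le_of_finrank_eq ?_ (LinearEquiv.finrank_map_eq (el g) W.1))
    rintro _ ⟨a, ha, rfl⟩
    have hfix : el g a = a := by
      obtain ⟨b, -, rfl⟩ := ha
      exact b.2 ⟨g, hg⟩
    show el g a ∈ W.1
    rw [hfix]
    exact ha
  have hnX : Nat.card X = (MulAction.stabilizer G W).index := (MulAction.index_stabilizer_of_transitive G W).symm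
  rw [hnX]
  exact fun h => P.not_dvd_index (h.trans (Subgroup.index_dvd_of_le hPW))

end Cfsg.Lib.Linear.AltFix
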