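import Cfsg.Agent.Lib.Linear.NondegFix.EvenCount

/-!
# Even dimension: the decompositions by types
-/

set_option autoImplicit false

universe u

namespace Cfsg.Lib.Linear.NondegFix

open Module Cfsg.Lib.Linear.Orth Cfsg.Lib.Linear.IsoFix Cfsg.Agent.Lib.Linear.PrimeClasses
open scoped Matrix

variable {F : Type u} [Field F]

/-- An anisotropic plane over any finite field. -/
theorem exists_zeta' (F : Type u) [Field F] [Finite F] :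
    ∃ ζ : F, ∀ z₁ z₂ : F, z₁ ^ 2 + 1 * z₁ * z₂ + ζ * z₂ ^ 2 = 0 → z₁ = 0 ∧ z₂ = 0 := by
  have hns : ¬ Function.Surjective fun z : F => z ^ 2 + z := fun hs => by
    have h := Finite.injective_iff_surjective.2 hs (show (fun z : F => z ^ 2 + z) 0 = (fun z : F => z ^ 2 + z) (-1) by simp)
    exact one_ne_zero (neg_eq_zero.1 h.symm)
  simp only [Function.Surjective, not_forall, not_exists] at hns
  obtain ⟨ν, hν⟩ := hns
  refine ⟨-ν, fun a b h => ?_⟩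
  have hb : b = 0 := by
    by_contra hb
    refine hν (a / b) ?_
    field_simp
    linear_combination h
  subst hb
  simp at h
  exact ⟨h, rfl⟩

/-- Plus is plus and plus. -/
theorem plusSum_plus (k e : ℕ) :
    IsSum (Cfsg.quadFormPlus (k + e) F) (Cfsg.quadFormPlus k F) (Cfsg.quadFormPlus e F)
      (LinearEquiv.funCongrLeft F F (plusSplitEquiv k e)) :=
  (plusSplit k e).eq

variable [Finite F]

/-- Plus is minus and minus. -/
theorem plusSum_minus {j e d : ℕ} (hd : d = j + 1 + (e + 1)) {ζ : F}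
    (hζ : ∀ z₁ z₂ : F, z₁ ^ 2 + 1 * z₁ * z₂ + ζ * z₂ ^ 2 = 0 → z₁ = 0 ∧ z₂ = 0) :
    ∃ (ζ' : F) (_ : ∀ z₁ z₂ : F, z₁ ^ 2 + 1 * z₁ * z₂ + ζ' * z₂ ^ 2 = 0 → z₁ = 0 ∧ z₂ = 0)
      (ψ : (Fin d ⊕ Fin d → F) ≃ₗ[F] ((Fin j ⊕ Fin j) ⊕ Fin 2) ⊕ ((Fin e ⊕ Fin e) ⊕ Fin 2) → F),
      IsSum (Cfsg.quadFormPlus d F) (Cfsg.quadFormMinus j F 1 ζ) (Cfsg.quadFormMinus e F 1 ζ') ψ := by
  classical
  obtain ⟨B, C⟩ := exists_space_plus (F := F) d
  obtain ⟨D, CR⟩ := exists_space_minus j 1 ζ hζ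
  obtain ⟨E, hE⟩ := embeds_minus_plus (k := j) (m := d) (by omega) ζ
  obtain ⟨U, hU, hUd, hUo⟩ := exists_complement C CR hE
  simp only [Fintype.card_sum, Fintype.card_fin] at hUd
  rcases exists_std C (k := e + 1) (Nat.le_add_left 1 e) (show finrank F U = 2 * (e + 1) by omega) hU with
    ⟨E', hE', hr⟩ | ⟨ζ', hζ', E', hE', hr⟩
  · exfalso
    obtain ⟨A, hAd, hA⟩ := ts_plus F d
    have := no_half_plus_minus C hζ (E := E') (E' := E) hE' hE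
      (fun u v => by rw [C.symm]; exact hUo _ (hr ▸ ⟨u, rfl⟩) v) (by simp; omega) hA
    omega
  · obtain ⟨D', C'⟩ := exists_space_minus e 1 ζ' hζ'
    obtain ⟨ψ, hψ, -⟩ := exists_isSum C CR C' hE hE' (fun u v => hUo _ (hr ▸ ⟨v, rfl⟩) u)
      (by simp only [Fintype.card_sum, Fintype.card_fin]; omega)
    exact ⟨ζ', hζ', ψ, hψ⟩

/-- Minus is minus and plus. -/
theorem minusSum_minus {j e D₀ : ℕ} (hd : D₀ + 1 = j + 1 + (e + 1)) {a b ζ : F}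
    (hab : ∀ z₁ z₂ : F, z₁ ^ 2 + a * z₁ * z₂ + b * z₂ ^ 2 = 0 → z₁ = 0 ∧ z₂ = 0)
    (hζ : ∀ z₁ z₂ : F, z₁ ^ 2 + 1 * z₁ * z₂ + ζ * z₂ ^ 2 = 0 → z₁ = 0 ∧ z₂ = 0) :
    ∃ ψ : ((Fin D₀ ⊕ Fin D₀) ⊕ Fin 2 → F) ≃ₗ[F] ((Fin j ⊕ Fin j) ⊕ Fin 2) ⊕ (Fin (e + 1) ⊕ Fin (e + 1)) → F,
      IsSum (Cfsg.quadFormMinus D₀ F a b) (Cfsg.quadFormMinus j F 1 ζ) (Cfsg.quadFormPlus (e + 1) F) ψ := by
  classical
  obtain ⟨B, C⟩ := exists_space_minus D₀ a b hab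
  obtain ⟨D, CR⟩ := exists_space_minus j 1 ζ hζ
  obtain ⟨E, hE⟩ := embeds_minus_minus (k := j) (m := D₀) (by omega) hab hζ
  obtain ⟨U, hU, hUd, hUo⟩ := exists_complement C CR hE
  simp only [Fintype.card_sum, Fintype.card_fin] at hUd
  rcases exists_std C (k := e + 1) (Nat.le_add_left 1 e) (show finrank F U = 2 * (e + 1) by omega) hU with
    ⟨E', hE', hr⟩ | ⟨ζ', hζ', E', hE', hr⟩
  · obtain ⟨D', C'⟩ := exists_space_plus (F := F) (e + 1)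
    obtain ⟨ψ, hψ, -⟩ := exists_isSum C CR C' hE hE' (fun u v => hUo _ (hr ▸ ⟨v, rfl⟩) u)
      (by simp only [Fintype.card_sum, Fintype.card_fin]; omega)
    exact ⟨ψ, hψ⟩
  · exfalso
    obtain ⟨A, hAd, hA⟩ := half_minus_minus C hζ hζ' hE hE' (fun u v => hUo _ (hr ▸ ⟨v, rfl⟩) u)
    have := Cfsg.Lib.Linear.AutPO.minus_ts_bound hab C hA
    omega

end Cfsg.Lib.Linear.NondegFix
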