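import Cfsg.Agent.Lib.Linear.NondegFix.Types
import Cfsg.Agent.Lib.Linear.IsotropicFix.OrthReduce

/-!
# A unipotent element without invariant minus-type subspaces
-/

set_option autoImplicit false

universe u

namespace Cfsg.Lib.Linear.NondegFix

open Module Cfsg.Lib.Linear.Orth Cfsg.Lib.Linear.IsoFix
open scoped Matrix

variable {F : Type u} [Field F] {ι : Type} [Fintype ι] [DecidableEq ι] {Q : (ι → F) → F}
  {B : LinearMap.BilinForm F (ι → F)}

/-- An isometry `1 + N` with small kernel has only plus-type invariant subspaces of even dimension. -/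
theorem plus_of_invariant (C : Space Q B) (h2 : (2 : F) ≠ 0) (N : (ι → F) →ₗ[F] (ι → F))
    (hiso : ∀ x y, B (x + N x) (y + N y) = B x y) (v₀ : ι → F)
    (hker : ∀ x, N x = 0 → ∃ (c : F) (z : ι → F), x = N z + c • v₀)
    (hsq : (∀ x, N (N x) = 0) ∨ (v₀ = 0 ∧ (∀ x, N (N (N x)) = 0) ∧ ∃ a, ∀ x, ∃ c : F, N (N x) = c • a))
    {W : Submodule F (ι → F)} (hW : NDeg B W) (hodd : Odd (Fintype.card ι)) (heven : Even (finrank F W))
    (hinv : ∀ x ∈ W, N x ∈ W) : Cfsg.Geo.IsPlusTypeOn Q W := by
  classical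
  set U := perpIn B ⊤ W with hUdef
  have S : Split Q B U W := split_of_ndeg C hW
  -- the complement is invariant too
  have hsurj : ∀ w ∈ W, ∃ y ∈ W, y + N y = w := by
    intro w hw
    let T : W →ₗ[F] W := (LinearMap.id + N).restrict (fun x hx => W.add_mem hx (hinv x hx))
    have hT : Function.Injective T := by
      rw [injective_iff_map_eq_zero]
      intro x hx
      refine Subtype.ext (C.nondeg _ fun u => ?_)
      have h1 : (x : ι → F) + N x = 0 := congrArg Subtype.val hx
      have h3 := hiso u x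
      rw [h1, map_zero] at h3
      exact h3.symm
    obtain ⟨y, hy⟩ := (LinearMap.injective_iff_surjective.1 hT) ⟨w, hw⟩
    exact ⟨y, y.2, congrArg Subtype.val hy⟩
  have hinvU : ∀ x ∈ U, N x ∈ U := by
    intro x hx
    have h1 : x + N x ∈ U := (S.mem_U_iff C).2 fun w hw => by
      obtain ⟨y, hy, rfl⟩ := hsurj w hw
      rw [hiso]
      exact (S.mem_U_iff C).1 hx y hy
    simpa using U.sub_mem h1 hx
  -- images and kernels split along the decomposition
  have him : ∀ P P' : Submodule F (ι → F), Split Q B P P' → (∀ x ∈ P, N x ∈ P) → (∀ x ∈ P', N x ∈ P') →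
      ∀ x ∈ P, x ∈ LinearMap.range N → ∃ z ∈ P, N z = x := by
    intro P P' SP hP hP' x hx ⟨z, hz⟩
    obtain ⟨a, ha, b, hb, rfl⟩ := SP.parts C z
    refine ⟨a, ha, ?_⟩
    rw [map_add] at hz
    have h1 : x - N a ∈ P := P.sub_mem hx (hP a ha)
    have h3 : x - N a = 0 := SP.disj C h1 (by rw [← hz, add_sub_cancel_left]; exact hP' b hb)
    exact (sub_eq_zero.1 h3).symm
  let NW : W →ₗ[F] W := N.restrict hinv
  let NU : U →ₗ[F] U := N.restrict hinvU
  -- the kernel exceeds the image by at most one dimension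
  have hkW : finrank F (LinearMap.ker NW) ≤ finrank F (LinearMap.range NW) + 1 := by
    by_cases hv : ∀ x : W, x ∈ LinearMap.ker NW → x ∈ LinearMap.range NW
    · exact (Submodule.finrank_mono hv).trans (Nat.le_succ _)
    · push Not at hv
      obtain ⟨x₀, hx₀, hx₀r⟩ := hv
      have hle : LinearMap.ker NW ≤ LinearMap.range NW ⊔ (F ∙ x₀) := by
        intro x hx
        obtain ⟨c₀, z₀, e₀⟩ := hker x₀ (congrArg Subtype.val hx₀)
        obtain ⟨c, z, e⟩ := hker x (congrArg Subtype.val hx)
        have hc₀ : c₀ ≠ 0 := by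
          intro h0
          rw [h0, zero_smul, add_zero] at e₀
          obtain ⟨y, hy, hyx⟩ := him W U (S.swap C) hinv hinvU x₀ x₀.2 ⟨z₀, e₀.symm⟩
          exact hx₀r ⟨⟨y, hy⟩, Subtype.ext hyx⟩
        set t := c / c₀
        have h1 : (x : ι → F) - t • (x₀ : ι → F) = N (z - t • z₀) := by
          rw [e, e₀, map_sub, map_smul]
          simp only [smul_add, smul_smul, t, div_mul_cancel₀ _ hc₀]
          abel
        obtain ⟨y, hy, hyx⟩ := him W U (S.swap C) hinv hinvU _
          (W.sub_mem x.2 (W.smul_mem t x₀.2)) ⟨_, h1.symm⟩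
        rw [show x = (x - t • x₀) + t • x₀ by abel]
        exact Submodule.add_mem_sup ⟨⟨y, hy⟩, Subtype.ext hyx⟩
          (Submodule.smul_mem _ _ (Submodule.mem_span_singleton_self x₀))
      refine (Submodule.finrank_mono hle).trans ((Submodule.finrank_add_le_finrank_add_finrank _ _).trans ?_)
      exact Nat.add_le_add_left ((finrank_span_le_card _).trans (by simp)) _
  have hNW2 : ∀ x ∈ W, N (N x) = 0 := by
    rcases hsq with h | ⟨rfl, h3, a, ha⟩
    · exact fun x _ => h x
    · by_contra hne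
      push Not at hne
      obtain ⟨w, hw, hw2⟩ := hne
      obtain ⟨c₁, hc₁⟩ := ha w
      have hc₁0 : c₁ ≠ 0 := fun h0 => hw2 (by rw [hc₁, h0, zero_smul])
      have haW : a ∈ W := by
        rw [show a = c₁⁻¹ • N (N w) by rw [hc₁, inv_smul_smul₀ hc₁0]]
        exact W.smul_mem _ (hinv _ (hinv _ hw))
      have hU2 : ∀ x : U, NU (NU x) = 0 := fun x => Subtype.ext (by
        obtain ⟨c, hc⟩ := ha (x : ι → F)
        have h1 : N (N (x : ι → F)) ∈ U := hinvU _ (hinvU _ x.2)
        exact S.disj C h1 (show N (N (x : ι → F)) ∈ W by rw [hc]; exact W.smul_mem _ haW))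
      have heq : LinearMap.ker NU = LinearMap.range NU := by
        refine le_antisymm (fun x hx => ?_) ?_
        · obtain ⟨c, z, e⟩ := hker x (congrArg Subtype.val hx)
          rw [smul_zero, add_zero] at e
          obtain ⟨y, hy, hyx⟩ := him U W S hinvU hinv x x.2 ⟨z, e.symm⟩
          exact ⟨⟨y, hy⟩, Subtype.ext hyx⟩
        · rintro _ ⟨x, rfl⟩
          exact hU2 x
      have h1 := LinearMap.finrank_range_add_finrank_ker NU
      rw [heq] at h1
      have h4 := S.finrank_add C
      obtain ⟨o, ho⟩ := hodd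
      obtain ⟨e, he⟩ := heven
      omega
  -- the image is a totally singular half
  refine ⟨(LinearMap.range NW).map W.subtype, Submodule.map_subtype_le _ _, ?_, ?_⟩
  · rintro _ ⟨_, ⟨x, rfl⟩, rfl⟩
    have h1 := hiso (x : ι → F) (N x)
    rw [hNW2 x x.2, add_zero, map_add, LinearMap.add_apply, add_eq_left] at h1
    show Q (N (x : ι → F)) = 0
    rw [C.self] at h1
    exact (mul_eq_zero.1 h1).resolve_left h2
  · have h1 := LinearMap.finrank_range_add_finrank_ker NW
    have hle : LinearMap.range NW ≤ LinearMap.ker NW := by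
      rintro _ ⟨x, rfl⟩
      exact Subtype.ext (hNW2 x x.2)
    have h3 := Submodule.finrank_mono hle
    rw [(Submodule.equivMapOfInjective W.subtype W.injective_subtype _).finrank_eq.symm]
    obtain ⟨e, he⟩ := heven
    omega

/-- The partner of an index. -/
def sig {d : ℕ} (i : Fin d) : Fin d :=
  if (i : ℕ) % 2 = 0 then (if h : (i : ℕ) + 1 < d then ⟨i + 1, h⟩ else i)
  else ⟨i - 1, lt_of_le_of_lt (Nat.sub_le _ _) i.2⟩

/-- The sign of an index. -/
def sgn (F : Type*) [Field F] {d : ℕ} (i : Fin d) : F :=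
  if (i : ℕ) % 2 = 1 then -1 else if (i : ℕ) + 1 < d then 1 else 0

/-- The unpaired index. -/
def tip (F : Type*) [Field F] {d : ℕ} (i : Fin d) : F :=
  if (i : ℕ) % 2 = 0 ∧ (i : ℕ) + 1 = d then 1 else 0

theorem sig_val {d : ℕ} (i : Fin d) :
    ((sig i : Fin d) : ℕ) = if (i : ℕ) % 2 = 0 then (if (i : ℕ) + 1 < d then (i : ℕ) + 1 else i) else (i : ℕ) - 1 := by
  unfold sig
  split_ifs <;> rfl

theorem sig_sig {d : ℕ} (i : Fin d) : sig (sig i) = i := Fin.ext (by
  have := i.2
  rw [sig_val, sig_val]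
  split_ifs <;> omega)

theorem sgn_sig {d : ℕ} (i : Fin d) : sgn F (sig i) = -sgn F i := by
  have := i.2
  unfold sgn
  rw [sig_val]
  split_ifs <;> first | omega | simp

theorem sgn_mul_tip {d : ℕ} (i : Fin d) : sgn F i * tip F i = 0 := by
  have := i.2
  unfold sgn tip
  split_ifs <;> first | omega | simp

theorem sgn_sq {d : ℕ} (i : Fin d) : sgn F i * sgn F i = 1 - tip F i := by
  have := i.2
  unfold sgn tip
  split_ifs <;> first | omega | simp

/-- The nilpotent part. -/
def nilp (F : Type*) [Field F] (d : ℕ) :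
    (Unit ⊕ (Fin d ⊕ Fin d) → F) →ₗ[F] (Unit ⊕ (Fin d ⊕ Fin d) → F) where
  toFun v := Sum.elim (fun _ => ∑ i, tip F i * v (.inr (.inr i)))
    (Sum.elim (fun i => sgn F i * v (.inr (.inr (sig i))) + tip F i * (-(2 * v (.inl ())) - v (.inr (.inr i)))) 0)
  map_add' u v := by
    funext t; rcases t with t | t | t
    · simp [mul_add, Finset.sum_add_distrib]
    · simp; ring
    · simp
  map_smul' c v := by
    funext t; rcases t with t | t | t
    · simp [Finset.mul_sum, mul_left_comm]
    · simp; ring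
    · simp

theorem nilp_inl {d : ℕ} (v : Unit ⊕ (Fin d ⊕ Fin d) → F) :
    nilp F d v (.inl ()) = ∑ i, tip F i * v (.inr (.inr i)) := rfl

theorem nilp_x {d : ℕ} (v : Unit ⊕ (Fin d ⊕ Fin d) → F) (i : Fin d) :
    nilp F d v (.inr (.inl i)) =
      sgn F i * v (.inr (.inr (sig i))) + tip F i * (-(2 * v (.inl ())) - v (.inr (.inr i))) := rfl

theorem nilp_y {d : ℕ} (v : Unit ⊕ (Fin d ⊕ Fin d) → F) (i : Fin d) : nilp F d v (.inr (.inr i)) = 0 := rfl

theorem sum_tip {d : ℕ} (f : Fin d → F) :
    (∑ i, tip F i * f i) = if h : d % 2 = 1 then f ⟨d - 1, by omega⟩ else 0 := by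
  split_ifs with h
  · rw [Finset.sum_eq_single (⟨d - 1, by omega⟩ : Fin d)]
    · rw [tip, if_pos ⟨by simp only; omega, by simp only; omega⟩, one_mul]
    · intro i _ hi
      have := i.2
      have hi' : (i : ℕ) ≠ d - 1 := fun e => hi (Fin.ext e)
      rw [tip, if_neg (by omega), zero_mul]
    · simp
  · refine Finset.sum_eq_zero fun i _ => ?_
    have := i.2
    rw [tip, if_neg (by omega), zero_mul]

theorem nilp_iso {d : ℕ} (h2 : (2 : F) ≠ 0) (v : Unit ⊕ (Fin d ⊕ Fin d) → F) :
    Cfsg.quadFormOdd d F (v + nilp F d v) = Cfsg.quadFormOdd d F v := by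
  classical
  have hA : ∑ i : Fin d, sgn F i * v (.inr (.inr (sig i))) * v (.inr (.inr i)) = 0 := by
    have h1 : ∑ i : Fin d, sgn F i * v (.inr (.inr (sig i))) * v (.inr (.inr i)) =
        -∑ i : Fin d, sgn F i * v (.inr (.inr (sig i))) * v (.inr (.inr i)) := by
      rw [← Finset.sum_neg_distrib]
      refine Fintype.sum_equiv (Function.Involutive.toPerm sig (fun i : Fin d => sig_sig i)) _ _ fun i => ?_
      show sgn F i * v (.inr (.inr (sig i))) * v (.inr (.inr i)) =
        -(sgn F (sig i) * v (.inr (.inr (sig (sig i)))) * v (.inr (.inr (sig i))))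
      rw [sgn_sig, sig_sig]
      ring
    have h3 : (2 : F) * ∑ i : Fin d, sgn F i * v (.inr (.inr (sig i))) * v (.inr (.inr i)) = 0 := by
      linear_combination h1
    exact (mul_eq_zero.1 h3).resolve_left h2
  simp only [Cfsg.quadFormOdd, Pi.add_apply, nilp_inl, nilp_x, nilp_y, add_zero]
  simp only [add_mul, Finset.sum_add_distrib, hA, zero_add]
  have e1 : ∀ i, tip F i * (-(2 * v (.inl ())) - v (.inr (.inr i))) * v (.inr (.inr i)) =
      tip F i * (-(2 * v (.inl ())) * v (.inr (.inr i)) - v (.inr (.inr i)) ^ 2) := fun i => by ring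
  simp only [e1, sum_tip]
  split_ifs with h
  · ring
  · ring

/-- A unipotent element of `Ω` in odd dimension all whose invariant non-degenerate subspaces of even
dimension are of plus type. -/
theorem exists_unipotent [Fintype F] (p : ℕ) [Fact p.Prime] [CharP F p] (h2 : (2 : F) ≠ 0) {d : ℕ} (hd : 2 ≤ d) :
    ∃ x : GL (Unit ⊕ (Fin d ⊕ Fin d)) F, x ∈ Cfsg.Geo.omegaGL (Cfsg.quadFormOdd d F) ∧ orderOf x = p ∧
      ∀ W : Submodule F (Unit ⊕ (Fin d ⊕ Fin d) → F), Even (finrank F W) →
        Cfsg.Geo.IsNondegenerateOn (QuadraticMap.polar (Cfsg.quadFormOdd d F)) W →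
        W.map (Matrix.toLin' (x : Matrix (Unit ⊕ (Fin d ⊕ Fin d)) (Unit ⊕ (Fin d ⊕ Fin d)) F)) ≤ W →
        Cfsg.Geo.IsPlusTypeOn (Cfsg.quadFormOdd d F) W := by
  classical
  obtain ⟨B, C⟩ := exists_space (Q := Cfsg.quadFormOdd d F) (isQuad_odd d h2)
  have hp3 : 3 ≤ p := by
    have := (Fact.out : p.Prime).two_le
    rcases Nat.lt_or_ge p 3 with h | h
    · exact absurd (by
        obtain rfl : p = 2 := by omega
        exact CharTwo.two_eq_zero) h2
    · exact h
  set N := nilp F d with hN
  have hN3 : ∀ v, N (N (N v)) = 0 := fun v => by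
    funext t
    have hxy : ∀ u i, N (N u) (.inr (.inr i)) = 0 := fun u i => nilp_y _ i
    rcases t with t | t | t
    · rw [hN, nilp_inl]
      simp only [nilp_y, mul_zero, Finset.sum_const_zero, Pi.zero_apply]
    · rw [hN, nilp_x]
      simp only [nilp_y, nilp_inl, mul_zero, Finset.sum_const_zero, neg_zero, sub_zero, add_zero, Pi.zero_apply]
    · rfl
  let M := LinearMap.toMatrix' N
  have hM : ∀ v, (1 + M) *ᵥ v = v + N v := fun v => by
    rw [Matrix.add_mulVec, Matrix.one_mulVec, LinearMap.toMatrix'_mulVec]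
  have hM3 : M ^ 3 = 0 := mat_ext fun v => by
    rw [pow_succ, pow_succ, pow_one, ← Matrix.mulVec_mulVec, ← Matrix.mulVec_mulVec, LinearMap.toMatrix'_mulVec,
      LinearMap.toMatrix'_mulVec, LinearMap.toMatrix'_mulVec, hN3, Matrix.zero_mulVec]
  haveI : CharP (Matrix (Unit ⊕ (Fin d ⊕ Fin d)) (Unit ⊕ (Fin d ⊕ Fin d)) F) p := inferInstance
  have hpow : (1 + M) ^ p = 1 := by
    rw [add_pow_char_of_commute (R := Matrix (Unit ⊕ (Fin d ⊕ Fin d)) (Unit ⊕ (Fin d ⊕ Fin d)) F) p (Commute.one_left M),
      one_pow, show p = 3 + (p - 3) by omega, pow_add, hM3, zero_mul, add_zero]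
  let x : GL (Unit ⊕ (Fin d ⊕ Fin d)) F := Units.ofPowEqOne (1 + M) p hpow (Fact.out : p.Prime).ne_zero
  have hxI : x ∈ Cfsg.isometryGroup F (Cfsg.quadFormOdd d F) := mem_iso.2 fun v => by
    show Cfsg.quadFormOdd d F ((1 + M) *ᵥ v) = _
    rw [hM, hN, nilp_iso h2]
  have hxp : x ^ p = 1 := Units.pow_ofPowEqOne hpow (Fact.out : p.Prime).ne_zero
  refine ⟨x, mem_omegaGL_of_odd C (by rw [card_odd_index]; omega) (Or.inr (by rw [card_odd_index]; omega))
    ((Fact.out : p.Prime).odd_of_ne_two (by omega)) ⟨x, hxI⟩ (Subtype.ext hxp), orderOf_eq_prime hxp fun h1 => ?_,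
    fun W hW hnd hinv => ?_⟩
  · have h3 : N (Pi.single (.inr (.inr (⟨1, by omega⟩ : Fin d))) 1) = 0 := by
      have h4 := hM (Pi.single (.inr (.inr (⟨1, by omega⟩ : Fin d))) 1)
      rw [show (1 + M : Matrix _ _ F) = (x : Matrix _ _ F) from rfl, h1, Units.val_one, Matrix.one_mulVec] at h4
      exact (add_eq_left.1 h4.symm)
    have h5 := congrFun h3 (.inr (.inl (⟨0, by omega⟩ : Fin d)))
    have e1 : sig (⟨0, by omega⟩ : Fin d) = ⟨1, by omega⟩ := Fin.ext (by rw [sig_val]; simp; omega)
    have e2 : tip F (⟨0, by omega⟩ : Fin d) = 0 := by rw [tip, if_neg (by simp only; omega)]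
    have e3 : sgn F (⟨0, by omega⟩ : Fin d) = 1 := by rw [sgn, if_neg (by simp), if_pos (by simp only; omega)]
    rw [hN, nilp_x, e1, e2, e3] at h5
    simp at h5
  have hiso : ∀ u v, B (u + N u) (v + N v) = B u v := fun u v => by
    rw [← hM, ← hM]; exact C.B_act hxI u v
  set v₀ : Unit ⊕ (Fin d ⊕ Fin d) → F := if d % 2 = 1 then 0 else Pi.single (.inl ()) 1 with hv₀
  refine plus_of_invariant C h2 N hiso v₀ ?_ ?_ (ndeg_of_geo C hnd) (by rw [card_odd_index]; exact ⟨d, rfl⟩) hW
    fun u hu => ?_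
  · -- the kernel
    intro u hu
    have hy : ∀ i : Fin d, u (.inr (.inr i)) = 0 := by
      intro i
      have hlast : ∀ j : Fin d, tip F j = 1 → u (.inr (.inr j)) = 0 := by
        intro j hj
        have h3 := congrFun hu (.inl ())
        rw [hN, nilp_inl, sum_tip] at h3
        unfold tip at hj
        split_ifs at hj with hj'
        · have := j.2
          rw [dif_pos (by omega)] at h3
          rwa [show j = ⟨d - 1, by omega⟩ from Fin.ext (by simp only; omega)]
        · exact absurd hj zero_ne_one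
      by_cases ht : tip F i = 1
      · exact hlast i ht
      · have ht0 : tip F i = 0 := by
          unfold tip at ht ⊢
          split_ifs at ht ⊢ with h
          · exact absurd rfl ht
          · rfl
        have h3 := congrFun hu (.inr (.inl (sig i)))
        have ht' : tip F (sig i) = 0 := by
          have h4 := sgn_sq (F := F) i
          have h5 := sgn_sq (F := F) (sig i)
          rw [sgn_sig, neg_mul_neg, h4, ht0] at h5
          linear_combination h5
        rw [hN, nilp_x, sig_sig, ht', zero_mul, add_zero, sgn_sig, Pi.zero_apply, mul_eq_zero] at h3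
        refine h3.resolve_left fun h6 => ?_
        have h7 := sgn_sq (F := F) i
        rw [neg_eq_zero.1 h6, ht0] at h7
        simp at h7
    refine ⟨if d % 2 = 1 then 0 else u (.inl ()), Sum.elim (fun _ => -(∑ j, tip F j * u (.inr (.inl j))) / 2)
      (Sum.elim 0 fun j => -(sgn F j) * u (.inr (.inl (sig j)))), funext fun t => ?_⟩
    rcases t with ⟨⟨⟩⟩ | t | t
    · rw [Pi.add_apply, Pi.smul_apply, hN, nilp_inl, hv₀]
      simp only [Sum.elim_inr]
      have e : ∑ j : Fin d, tip F j * (-(sgn F j) * u (.inr (.inl (sig j)))) = 0 :=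
        Finset.sum_eq_zero fun j _ => by linear_combination (-u (.inr (.inl (sig j)))) * sgn_mul_tip (F := F) j
      rw [e, zero_add]
      split_ifs with h
      · have h3 := fun j : Fin d => congrFun hu (.inr (.inl j))
        have h4 := h3 ⟨d - 1, by omega⟩
        have e2 : tip F (⟨d - 1, by omega⟩ : Fin d) = 1 := by
          rw [tip, if_pos ⟨by simp only; omega, by simp only; omega⟩]
        rw [hN, nilp_x, e2, hy, hy] at h4
        simp only [mul_zero, zero_add, sub_zero, one_mul, Pi.zero_apply, neg_eq_zero, mul_eq_zero] at h4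
        simp [h4.resolve_left h2]
      · simp
    · rw [Pi.add_apply, Pi.smul_apply, hN, nilp_x]
      simp only [Sum.elim_inr, Sum.elim_inl, sig_sig, sgn_sig]
      have hv : v₀ (.inr (.inl t)) = 0 := by rw [hv₀]; split_ifs <;> simp
      rw [hv, smul_zero, add_zero, sum_tip]
      have hs := sgn_sq (F := F) t
      have hst := sgn_mul_tip (F := F) t
      by_cases ht : tip F t = 1
      · unfold tip at ht
        split_ifs at ht with h
        · have := t.2
          rw [dif_pos (by omega), show (⟨d - 1, by omega⟩ : Fin d) = t from Fin.ext (by simp only; omega)]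
          have e3 : sig t = t := Fin.ext (by rw [sig_val]; split_ifs <;> omega)
          rw [e3]
          have e4 : tip F t = 1 := by rw [tip, if_pos h]
          rw [e4] at hs hst ⊢
          rw [mul_one] at hst
          rw [hst]
          field_simp
          ring
        · exact absurd ht zero_ne_one
      · have ht0 : tip F t = 0 := by
          unfold tip at ht ⊢
          split_ifs at ht ⊢ with h
          · exact absurd rfl ht
          · rfl
        rw [ht0] at hs ⊢
        linear_combination (-u (.inr (.inl t))) * hs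
    · rw [Pi.add_apply, Pi.smul_apply, hN, nilp_y, hy, zero_add, hv₀]
      split_ifs <;> simp
  · by_cases hd2 : d % 2 = 1
    · refine Or.inr ⟨by rw [hv₀, if_pos hd2], hN3, Pi.single (.inr (.inl (⟨d - 1, by omega⟩ : Fin d))) 1, fun u =>
        ⟨-(2 * ∑ i, tip F i * u (.inr (.inr i))), funext fun t => ?_⟩⟩
      rcases t with ⟨⟨⟩⟩ | t | t
      · rw [hN, nilp_inl]; simp [nilp_y]
      · rw [hN, nilp_x]
        simp only [nilp_y, nilp_inl, mul_zero, sub_zero, zero_add, Pi.smul_apply, smul_eq_mul]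
        have := t.2
        by_cases ht : (t : ℕ) = d - 1
        · rw [show (⟨d - 1, by omega⟩ : Fin d) = t from Fin.ext ht.symm, Pi.single_eq_same, tip,
            if_pos ⟨by omega, by omega⟩]
          ring
        · rw [Pi.single_eq_of_ne (by simp only [ne_eq, Sum.inr.injEq, Sum.inl.injEq]; exact fun e => ht (by rw [e])),
            tip, if_neg (by omega)]
          ring
      · rw [hN, nilp_y]; simp
    · refine Or.inl fun u => funext fun t => ?_
      have htip : ∀ i : Fin d, tip F i = 0 := fun i => by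
        have := i.2
        rw [tip, if_neg (by omega)]
      rcases t with ⟨⟨⟩⟩ | t | t
      · rw [hN, nilp_inl]; simp [htip]
      · rw [hN, nilp_x]; simp [htip, nilp_y]
      · rfl
  · have h3 := hinv ⟨u, hu, Matrix.toLin'_apply _ _⟩
    rw [show (x : Matrix _ _ F) *ᵥ u = u + N u from hM u] at h3
    simpa using W.sub_mem h3 hu

end Cfsg.Lib.Linear.NondegFix
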