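import Cfsg.Agent.Lib.Linear.NondegFix.UnipCore
import Cfsg.Agent.Lib.Linear.NondegFix.Unipotent
import Cfsg.Agent.Lib.Linear.NondegFix.EvenSums
import Cfsg.Agent.Lib.Linear.OrthFixPoint

/-!
# Square-zero isometry parts in even dimension, any characteristic
-/

set_option autoImplicit false

universe u

namespace Cfsg.Lib.Linear.NondegFix

open Module Cfsg.Lib.Linear.Orth Cfsg.Lib.Linear.IsoFix Cfsg.Agent.Lib.Linear.PrimeClasses
open scoped Matrix

variable {F : Type u} [Field F] {ι : Type} [Fintype ι] [DecidableEq ι] {Q : (ι → F) → F}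
  {B : LinearMap.BilinForm F (ι → F)}

/-- The map `x_i ↦ ± y_(σ i)`. -/
def nilpP (F : Type*) [Field F] (d : ℕ) : (Fin d ⊕ Fin d → F) →ₗ[F] (Fin d ⊕ Fin d → F) where
  toFun v := Sum.elim (fun i => sgn F i * v (.inr (sig i))) 0
  map_add' u v := by ext (i | i) <;> simp [mul_add]
  map_smul' c v := by ext (i | i) <;> simp [mul_left_comm]

theorem nilpP_sq {d : ℕ} (v : Fin d ⊕ Fin d → F) : nilpP F d (nilpP F d v) = 0 := by
  ext (i | i) <;> simp [nilpP]

theorem nilpP_ts {d : ℕ} (v : Fin d ⊕ Fin d → F) : Cfsg.quadFormPlus d F (nilpP F d v) = 0 := by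
  simp [Cfsg.quadFormPlus, nilpP]

theorem nilpP_iso {d : ℕ} (v : Fin d ⊕ Fin d → F) :
    Cfsg.quadFormPlus d F (v + nilpP F d v) = Cfsg.quadFormPlus d F v := by
  classical
  simp only [Cfsg.quadFormPlus, nilpP, LinearMap.coe_mk, AddHom.coe_mk, Pi.add_apply, Sum.elim_inl, Sum.elim_inr,
    Pi.zero_apply, add_zero, add_mul, Finset.sum_add_distrib]
  rw [add_eq_left]
  refine Finset.sum_involution (fun i _ => sig i) (fun i _ => ?_) (fun i _ hi h => hi ?_)
    (fun i _ => Finset.mem_univ _) (fun i _ => sig_sig i)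
  · rw [sgn_sig, sig_sig]; ring
  · have hv := congrArg Fin.val h
    have := i.2
    rw [sig_val] at hv
    rw [show sgn F i = 0 by unfold sgn; split_ifs <;> first | rfl | (exfalso; split_ifs at hv <;> omega), zero_mul, zero_mul]

theorem nilpP_rank {d : ℕ} : d - d % 2 ≤ finrank F (LinearMap.range (nilpP F d)) := by
  set e := d - d % 2 with he
  have hle : e ≤ d := Nat.sub_le _ _
  let R : (Fin d ⊕ Fin d → F) →ₗ[F] (Fin e → F) := LinearMap.funLeft F F fun i => Sum.inl (Fin.castLE hle i)
  have hs : LinearMap.range (R ∘ₗ nilpP F d) = ⊤ := LinearMap.range_eq_top.2 fun c => by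
    refine ⟨Sum.elim 0 fun j => if h : ((sig j : Fin d) : ℕ) < e then sgn F (sig j) * c ⟨_, h⟩ else 0, funext fun i => ?_⟩
    show sgn F (Fin.castLE hle i) * (Sum.elim (0 : Fin d → F) _ (.inr (sig (Fin.castLE hle i)))) = c i
    rw [Sum.elim_inr, dif_pos (by rw [sig_sig]; exact i.2)]
    simp only [sig_sig, Fin.val_castLE, Fin.eta]
    rw [← mul_assoc, sgn_sq, tip, if_neg (by simp only [Fin.val_castLE]; have := i.2; omega), sub_zero, one_mul]
  have h := Submodule.finrank_map_le R (LinearMap.range (nilpP F d))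
  rwa [← LinearMap.range_comp, hs, finrank_top, Module.finrank_fin_fun] at h

/-- The basic relations. -/
theorem sq_zero_rel (C : Space Q B) (N : (ι → F) →ₗ[F] (ι → F)) (hQ : ∀ u, Q (u + N u) = Q u)
    (hTS : ∀ u, Q (N u) = 0) : (∀ u, B (N u) u = 0) ∧ ∀ u v, B (N u) v + B u (N v) + B (N u) (N v) = 0 := by
  refine ⟨fun u => ?_, fun u v => ?_⟩
  · have h := hQ u
    rw [C.add, hTS, add_zero, add_eq_left] at h
    rw [C.symm]; exact h
  · have h := C.polar (u + N u) (v + N v)
    rw [QuadraticMap.polar, hQ, hQ, show u + N u + (v + N v) = u + v + N (u + v) by rw [map_add]; abel, hQ,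
      ← QuadraticMap.polar, C.polar, map_add, map_add, LinearMap.add_apply, LinearMap.add_apply] at h
    linear_combination -h

/-- An invariant subspace of even dimension. -/
theorem sq_zero_core [Finite F] (C : Space Q B) (N : (ι → F) →ₗ[F] (ι → F)) (hN2 : ∀ u, N (N u) = 0)
    (hQ : ∀ u, Q (u + N u) = Q u) (hTS : ∀ u, Q (N u) = 0) {k s : ℕ}
    (hrank : Fintype.card ι ≤ 2 * finrank F (LinearMap.range N) + s) (hs : s ≤ 2)
    {W : Submodule F (ι → F)} (hWd : finrank F W = 2 * k) (hW : NDeg B W) (hinv : ∀ u ∈ W, N u ∈ W) :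
    (Even k ∧ Cfsg.Geo.IsPlusTypeOn Q W) ∨
      (Odd k ∧ s = 2 ∧ ∃ U, NDeg B U ∧ finrank F U + 2 * k = Fintype.card ι ∧ (∀ u ∈ U, ∀ w ∈ W, B u w = 0) ∧
        Cfsg.Geo.IsPlusTypeOn Q U) := by
  classical
  obtain ⟨halt, key⟩ := sq_zero_rel C N hQ hTS
  set U := perpIn B ⊤ W with hUdef
  have S : Split Q B U W := split_of_ndeg C hW
  have hinvU : ∀ x ∈ U, N x ∈ U := fun x hx => by
    have h1 : x + N x ∈ U := (S.mem_U_iff C).2 fun w hw => by
      have hy : w - N w ∈ W := W.sub_mem hw (hinv w hw)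
      have hz := key (w - N w) x
      have h0 : B (w - N w) x = 0 := (S.mem_U_iff C).1 hx _ hy
      have e : N (w - N w) = N w := by rw [map_sub, hN2, sub_zero]
      rw [e, map_sub, LinearMap.sub_apply] at hz
      rw [map_sub, LinearMap.sub_apply] at h0
      rw [map_add]
      linear_combination hz + h0
    simpa using U.sub_mem h1 hx
  let NW : W →ₗ[F] W := N.restrict hinv
  let NU : U →ₗ[F] U := N.restrict hinvU
  have hnW := LinearMap.finrank_range_add_finrank_ker NW
  have hnU := LinearMap.finrank_range_add_finrank_ker NU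
  have hlW : LinearMap.range NW ≤ LinearMap.ker NW := by
    rintro _ ⟨x, rfl⟩; exact Subtype.ext (hN2 _)
  have hlU : LinearMap.range NU ≤ LinearMap.ker NU := by
    rintro _ ⟨x, rfl⟩; exact Subtype.ext (hN2 _)
  have hmW := Submodule.finrank_mono hlW
  have hmU := Submodule.finrank_mono hlU
  have hadd := S.finrank_add C
  have hsup : finrank F (LinearMap.range N) ≤ finrank F (LinearMap.range NU) + finrank F (LinearMap.range NW) := by
    have hle : LinearMap.range N ≤ (LinearMap.range NU).map U.subtype ⊔ (LinearMap.range NW).map W.subtype := by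
      rintro _ ⟨x, rfl⟩
      obtain ⟨a, ha, b, hb, rfl⟩ := S.parts C x
      rw [map_add]
      exact Submodule.add_mem_sup ⟨_, ⟨⟨a, ha⟩, rfl⟩, rfl⟩ ⟨_, ⟨⟨b, hb⟩, rfl⟩, rfl⟩
    refine (Submodule.finrank_mono hle).trans ((Submodule.finrank_add_le_finrank_add_finrank _ _).trans ?_)
    rw [Submodule.finrank_map_subtype_eq, Submodule.finrank_map_subtype_eq]
  obtain ⟨r', hr'⟩ : Even (finrank F (LinearMap.range NW)) := by
    have h := even_rank C N hW hinv (fun u _ => halt u)
    change Even (finrank F W - finrank F (LinearMap.ker NW)) at h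
    rwa [show finrank F W - finrank F (LinearMap.ker NW) = finrank F (LinearMap.range NW) by omega] at h
  obtain ⟨u', hu'⟩ : Even (finrank F (LinearMap.range NU)) := by
    have h := even_rank C N S.ndU hinvU (fun u _ => halt u)
    change Even (finrank F U - finrank F (LinearMap.ker NU)) at h
    rwa [show finrank F U - finrank F (LinearMap.ker NU) = finrank F (LinearMap.range NU) by omega] at h
  have plus : ∀ (X : Submodule F (ι → F)) (hX : ∀ x ∈ X, N x ∈ X),
      2 * finrank F (LinearMap.range (N.restrict hX)) = finrank F X → Cfsg.Geo.IsPlusTypeOn Q X := by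
    intro X hX h
    refine ⟨(LinearMap.range (N.restrict hX)).map X.subtype, Submodule.map_subtype_le _ _, ?_, ?_⟩
    · rintro _ ⟨_, ⟨x, rfl⟩, rfl⟩
      exact hTS _
    · rw [Submodule.finrank_map_subtype_eq]; exact h
  rw [hWd] at hnW
  by_cases hkr : finrank F (LinearMap.range NW) = k
  · exact Or.inl ⟨⟨r', by omega⟩, plus W hinv (by show 2 * finrank F (LinearMap.range NW) = _; omega)⟩
  · refine Or.inr ⟨⟨r', by omega⟩, by omega, U, S.ndU, by omega, fun u hu w hw => S.orth u hu w hw, plus U hinvU ?_⟩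
    show 2 * finrank F (LinearMap.range NU) = _
    omega

/-- The element `1 + N` lies in `Ω`. -/
theorem exists_one_add [Fintype F] (p : ℕ) [Fact p.Prime] [CharP F p] (C : Space Q B) {d : ℕ}
    (hn : Fintype.card ι = 2 * d) (hd : 3 ≤ d) (N : (ι → F) →ₗ[F] (ι → F)) (hN2 : ∀ u, N (N u) = 0)
    (hQ : ∀ u, Q (u + N u) = Q u) (hTS : ∀ u, Q (N u) = 0) (hN0 : N ≠ 0) :
    ∃ x : GL ι F, x ∈ Cfsg.Geo.omegaGL Q ∧ x ^ p = 1 ∧ (∀ v, (x : Matrix ι ι F) *ᵥ v = v + N v) ∧
      (∀ z : F, (x : Matrix ι ι F) ≠ z • (1 : Matrix ι ι F)) := by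
  classical
  have hp2 := (Fact.out : p.Prime).two_le
  let X := LinearMap.toMatrix' N
  have hX : ∀ v, (1 + X) *ᵥ v = v + N v := fun v => by
    rw [Matrix.add_mulVec, Matrix.one_mulVec, LinearMap.toMatrix'_mulVec]
  have hX2 : X ^ 2 = 0 := mat_ext fun v => by
    rw [pow_two, ← Matrix.mulVec_mulVec, LinearMap.toMatrix'_mulVec, LinearMap.toMatrix'_mulVec, hN2, Matrix.zero_mulVec]
  haveI : Nonempty ι := Fintype.card_pos_iff.1 (by omega)
  haveI : CharP (Matrix ι ι F) p := inferInstance
  have hpow : (1 + X) ^ p = 1 := by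
    rw [add_pow_char_of_commute (R := Matrix ι ι F) p (Commute.one_left X), one_pow, show p = 2 + (p - 2) by omega,
      pow_add, hX2, zero_mul, add_zero]
  let x : GL ι F := Units.ofPowEqOne (1 + X) p hpow (Fact.out : p.Prime).ne_zero
  have hxv : ∀ v, (x : Matrix ι ι F) *ᵥ v = v + N v := hX
  have hxI : x ∈ Cfsg.isometryGroup F Q := mem_iso.2 fun v => by rw [hxv, hQ]
  have hxp : x ^ p = 1 := Units.pow_ofPowEqOne hpow (Fact.out : p.Prime).ne_zero
  refine ⟨x, ?_, hxp, hxv, fun z hz => hN0 (LinearMap.ext fun v => ?_)⟩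
  · by_cases hp : p = 2
    · subst hp
      have h2 : (2 : F) = 0 := CharTwo.two_eq_zero
      refine (mem_omegaGL_iff_even C h2 (by omega) (hn ▸ even_two_mul d) (Or.inr (by omega)) hxI).2 ?_
      have hfix : fixSpace x = LinearMap.ker N := by
        ext v
        rw [mem_fixSpace, hxv, LinearMap.mem_ker, add_eq_left]
      have hev := even_rank C N C.ndeg_top (fun u _ => Submodule.mem_top) (fun u _ => (sq_zero_rel C N hQ hTS).1 u)
      rw [finrank_top, finrank_fintype_fun_eq_card, hn] at hev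
      have e : finrank F (LinearMap.ker (N.restrict (fun u (_ : u ∈ (⊤ : Submodule F (ι → F))) => Submodule.mem_top))) =
          finrank F (LinearMap.ker N) := by
        rw [LinearMap.restrict, LinearMap.ker_codRestrict, LinearMap.ker_domRestrict]
        exact (Submodule.comapSubtypeEquivOfLe le_top).finrank_eq
      rw [e] at hev
      rw [hfix]
      have := Submodule.finrank_le (LinearMap.ker N)
      rw [finrank_fintype_fun_eq_card, hn] at this
      obtain ⟨y, hy⟩ := hev
      exact ⟨d - y, by omega⟩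
    · exact mem_omegaGL_of_odd C (by omega) (Or.inr (by omega)) ((Fact.out : p.Prime).odd_of_ne_two hp)
        ⟨x, hxI⟩ (Subtype.ext hxp)
  · have h := hxv v
    rw [hz, Matrix.smul_mulVec, Matrix.one_mulVec] at h
    have hNv : N v = (z - 1) • v := by rw [sub_smul, one_smul, h]; abel
    have h4 := hN2 v
    rw [hNv, map_smul, hNv, smul_smul, smul_eq_zero] at h4
    rcases h4 with h4 | rfl
    · rw [hNv, show z - 1 = 0 by simpa using h4]; simp
    · simp

end Cfsg.Lib.Linear.NondegFix
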