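import Cfsg.Agent.Lib.Linear.NondegFix.AltUnip
import Cfsg.Agent.Lib.Linear.NondegFix.UnipEven

/-!
# Types of unipotent isometries of alternating forms on invariant subspaces
-/

set_option autoImplicit false

universe u v

namespace Cfsg.Lib.Linear.AltFix

open Module Cfsg.Lib.Linear.JordanForms
open scoped Matrix

variable {F : Type u} [Field F] {V : Type v} [AddCommGroup V] [Module F V] [FiniteDimensional F V]
  {B : LinearMap.BilinForm F V} {g : End F V}

/-- Blocks of odd size come in pairs. -/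
theorem parity_odd (H : Isom B g) (hunip : ∃ p, (g - 1) ^ p = 0) {j : ℕ} (hj : Odd j) : Even (mu (g - 1) j) := by
  obtain ⟨p, hp⟩ := hunip
  have hgu : IsUnit g := by
    have h := IsNilpotent.isUnit_one_add (⟨p, hp⟩ : IsNilpotent (g - 1))
    rwa [add_sub_cancel] at h
  obtain ⟨u, rfl⟩ := hgu
  obtain ⟨i, rfl⟩ := hj
  set a := u.val with ha
  set b := (u⁻¹ : (End F V)ˣ).val with hb
  have hab : ∀ x, a (b x) = x := fun x => by rw [← End.mul_apply, show a * b = 1 from Units.mul_inv u, End.one_apply]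
  have h3 : ∀ x y, B x (b y) = B (a x) y := fun x y => by conv_rhs => rw [← hab y, H.iso]
  have h4 : ∀ x y, B (b x) y = B x (a y) := fun x y => by conv_rhs => rw [← hab x, H.iso]
  set z : End F V := 1 + 1 - a - b with hzdef
  have hz : z = -b * (a - 1) ^ 2 := by
    rw [hzdef, one_add_one_eq_two]
    exact unit_sq_identity (Units.inv_mul u)
  have hsa : ∀ x y, B (z x) y = B x (z y) := fun x y => by
    simp only [hzdef, LinearMap.sub_apply, LinearMap.add_apply, End.one_apply, map_sub, map_add, h3, h4]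
    ring
  have hz1 : ∀ x, B x (z x) = 0 := fun x => by
    simp only [hzdef, LinearMap.sub_apply, LinearMap.add_apply, End.one_apply, map_sub, map_add, H.alt.self_eq_zero,
      h3]
    rw [show B (a x) x = -B x (a x) from (LinearMap.IsAlt.neg H.alt x (a x)).symm]
    ring
  have halt : ∀ k x, B x ((z ^ k) x) = 0 := by
    intro k
    induction k using Nat.twoStepInduction with
    | zero => exact fun x => H.alt.self_eq_zero x
    | one => simpa using hz1
    | more k ih _ =>
      intro x
      rw [show k + 1 + 1 = 1 + (k + 1) by omega, pow_add, pow_one, pow_succ, End.mul_apply, End.mul_apply, ← hsa]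
      exact ih (z x)
  have hcomm : Commute (-b) (a - 1) :=
    (((Commute.refl a).units_inv_left).sub_right (Commute.one_right _)).neg_left
  exact (parity B u H.nd H.alt.isRefl H.iso (j := 2 * i + 1) (by omega) ((-u⁻¹) ^ i)
    (by rw [Units.val_pow_eq_pow_val, Units.val_neg]; exact hcomm.pow_left i) (fun x _ => by
      rw [Units.val_pow_eq_pow_val, Units.val_neg, show 2 * i + 1 - 1 = 2 * i by omega, pow_mul,
        ← (hcomm.pow_right 2).mul_pow, ← hz]
      exact halt i x)).2

/-- The type on an invariant non-degenerate subspace. -/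
theorem sub_type (H : Isom B g) {p : ℕ} (hp : (g - 1) ^ p = 0) {μ : Multiset ℕ}
    (hpos : ∀ a ∈ μ, 0 < a ∧ a ≤ p) (hmu : ∀ j, 1 ≤ j → mu (g - 1) j = μ.count j) {W : Submodule F V}
    (P : Piece B g W) : ∃ ν : Multiset ℕ, ν ≤ μ ∧ ν.sum = finrank F W ∧ ∀ e, Odd e → Even (ν.count e) := by
  classical
  set N := g.restrict P.inv - 1
  have hN : N ^ p = 0 := restrict_pow_zero P.inv hp
  have hadd : ∀ j, 1 ≤ j → mu N j ≤ μ.count j := fun j hj => by
    rw [← hmu j hj, mu_add (g - 1) (P.isCompl H.alt) (sub_one_mem P.inv) (sub_one_mem (P.perp H).inv) hj,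
      restrict_sub_one P.inv]
    exact Nat.le_add_right _ _
  let ν : Multiset ℕ := ∑ j ∈ Finset.Icc 1 p, Multiset.replicate (mu N j) j
  have hcount : ∀ e, ν.count e = if e ∈ Finset.Icc 1 p then mu N e else 0 := fun e => by
    simp only [ν, Multiset.count_sum', Multiset.count_replicate]
    rw [Finset.sum_ite_eq']
  refine ⟨ν, Multiset.le_iff_count.2 fun e => ?_, ?_, fun e he => ?_⟩
  · rw [hcount]
    split_ifs with h
    · exact hadd e (Finset.mem_Icc.1 h).1
    · exact Nat.zero_le _
  · rw [← sum_mu_of_pow N hN]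
    show Multiset.sumAddMonoidHom (∑ j ∈ Finset.Icc 1 p, Multiset.replicate (mu N j) j) = _
    rw [map_sum, Finset.range_eq_Ico, ← Finset.Ico_add_one_right_eq_Icc,
      Finset.sum_eq_sum_Ico_succ_bot (show 0 < p + 1 by omega)]
    simp [mul_comm]
  · rw [hcount]
    split_ifs with h
    · exact parity_odd (P.toIsom H) ⟨p, hN⟩ he
    · exact Even.zero

theorem matrix_isom {m : ℕ} (M : Matrix.symplecticGroup (Fin m) F) :
    Isom (Symp.spB m F) (Matrix.toLinAlgEquiv' (M : Matrix (Fin m ⊕ Fin m) (Fin m ⊕ Fin m) F)) :=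
  ⟨Symp.spB_isAlt m F, Symp.spB_nondegenerate m F, fun x y => (Symp.mem_symplecticGroup_iff _).1 M.2 x y⟩

/-- An element with given type, and what it fixes. -/
theorem exists_type_elt (p : ℕ) [Fact p.Prime] [CharP F p] {m : ℕ} {μ : Multiset ℕ}
    (hpos : ∀ a ∈ μ, 0 < a ∧ a ≤ p) (hodd : ∀ a, Odd a → Even (μ.count a)) (hsum : μ.sum = 2 * m)
    (hbig : ∃ a ∈ μ, 2 ≤ a) :
    ∃ x : Matrix.symplecticGroup (Fin m) F, x ^ p = 1 ∧
      (∀ z : F, (x : Matrix (Fin m ⊕ Fin m) (Fin m ⊕ Fin m) F) ≠ z • (1 : Matrix (Fin m ⊕ Fin m) (Fin m ⊕ Fin m) F)) ∧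
      ∀ W, Piece (Symp.spB m F) (Matrix.toLinAlgEquiv' (x : Matrix (Fin m ⊕ Fin m) (Fin m ⊕ Fin m) F)) W →
        ∃ ν : Multiset ℕ, ν ≤ μ ∧ ν.sum = finrank F W ∧ ∀ e, Odd e → Even (ν.count e) := by
  classical
  set l := μ.toList
  let d : Fin l.length → ℕ := fun k => l.get k
  have hd : Finset.univ.val.map d = μ := by rw [Fin.univ_val_map, List.ofFn_get, Multiset.coe_toList]
  have hd1 : ∀ k, 1 ≤ d k := fun k => (hpos _ (Multiset.mem_toList.1 (List.get_mem _ _))).1
  have hds : ∑ k, d k = 2 * m := by rw [← hsum, ← hd]; rfl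
  have hcnt : ∀ j, (Finset.univ.filter fun k => d k = j).card = μ.count j := fun j => by
    rw [← hd, Multiset.count_map]
    exact congrArg Multiset.card (by rw [Finset.filter_val]; exact Multiset.filter_congr fun k _ => eq_comm)
  obtain ⟨e, M, hM⟩ := symplectic_of_parity (F := F) d hd1 hds fun j hj => by rw [hcnt]; exact hodd j hj
  set g : End F (Fin m ⊕ Fin m → F) := Matrix.toLinAlgEquiv' (M : Matrix (Fin m ⊕ Fin m) (Fin m ⊕ Fin m) F)
  have hmu : ∀ j, 1 ≤ j → mu (g - 1) j = μ.count j := fun j hj => by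
    rw [← hcnt, mu]
    have key : ∀ k, (d k - (j - 1)) + (d k - (j + 1)) = 2 * (d k - j) + if d k = j then 1 else 0 := fun k => by
      split_ifs <;> omega
    have h1 : ∑ k, (d k - (j - 1)) + ∑ k, (d k - (j + 1)) =
        2 * ∑ k, (d k - j) + (Finset.univ.filter (fun k => d k = j)).card := by
      rw [← Finset.sum_add_distrib, Finset.sum_congr rfl fun k _ => key k, Finset.sum_add_distrib, Finset.mul_sum,
        Finset.card_filter]
    have h2 : kd (g - 1) (j - 1) + _ = _ := kd_of_isConj d e hM (j - 1)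
    have h3 : kd (g - 1) j + _ = _ := kd_of_isConj d e hM j
    have h4 : kd (g - 1) (j + 1) + _ = _ := kd_of_isConj d e hM (j + 1)
    omega
  have hfr : finrank F (Fin m ⊕ Fin m → F) = 2 * m := by simp; omega
  have hgp : (g - 1) ^ p = 0 := pow_eq_zero_of_sum _ (by
    rw [hfr, ← hsum, Finset.sum_multiset_count_of_subset μ (Finset.range (p + 1))
      fun a ha => Finset.mem_range.2 (Nat.lt_succ_of_le (hpos a (Multiset.mem_toFinset.1 ha)).2)]
    refine Finset.sum_congr rfl fun j _ => ?_
    rcases Nat.eq_zero_or_pos j with rfl | hj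
    · simp
    · rw [hmu j hj, smul_eq_mul, mul_comm])
  obtain ⟨a, ha, ha2⟩ := hbig
  have hne : Nonempty (Fin m ⊕ Fin m) := by
    have hm : 2 * m ≠ 0 := fun h => by
      have := Multiset.le_sum_of_mem ha
      omega
    exact ⟨Sum.inl ⟨0, by omega⟩⟩
  haveI : CharP (Matrix (Fin m ⊕ Fin m) (Fin m ⊕ Fin m) F) p := inferInstance
  have hpow : (M : Matrix (Fin m ⊕ Fin m) (Fin m ⊕ Fin m) F) ^ p = 1 := by
    have h1 : ((M : Matrix (Fin m ⊕ Fin m) (Fin m ⊕ Fin m) F) - 1) ^ p = 0 := by
      apply Matrix.toLinAlgEquiv'.injective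
      rw [map_pow, map_sub, map_one, map_zero]
      exact hgp
    rw [sub_pow_char_of_commute (R := Matrix (Fin m ⊕ Fin m) (Fin m ⊕ Fin m) F) p (Commute.one_right _), one_pow,
      sub_eq_zero] at h1
    exact h1
  refine ⟨M, Subtype.ext (by rw [SubmonoidClass.coe_pow]; exact hpow), fun z hz => ?_,
    fun W P => sub_type (matrix_isom M) hgp hpos hmu P⟩
  have h1 := hpow
  rw [hz, _root_.smul_pow, one_pow] at h1
  have hz1 : z ^ p = 1 := by
    have h3 := congrFun (congrFun h1 (Classical.arbitrary _)) (Classical.arbitrary _)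
    simpa using h3
  have hz2 : z = 1 := by
    have h3 : (z - 1) ^ p = 0 := by rw [sub_pow_char, hz1, one_pow, sub_self]
    exact sub_eq_zero.1 (pow_eq_zero_iff (Fact.out : p.Prime).ne_zero |>.1 h3)
  have hg1 : g - 1 = 0 := by
    show Matrix.toLinAlgEquiv' (M : Matrix (Fin m ⊕ Fin m) (Fin m ⊕ Fin m) F) - 1 = 0
    rw [hz, hz2, one_smul, map_one, sub_self]
  have h4 := hmu a (by omega)
  have h5 := Multiset.count_pos.2 ha
  have k := fun i (hi : 1 ≤ i) => kd_eq_of_pow_eq_zero (g - 1) (i := i) (by rw [hg1, zero_pow (by omega)])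
  rw [mu, k a (by omega), k (a - 1) (by omega), k (a + 1) (by omega)] at h4
  omega

/-- In characteristic two, some element fixes non-degenerate subspaces of dimension divisible by four only. -/
theorem two_counter [CharP F 2] {d : ℕ} (hd : Even d) (hd0 : 0 < d) :
    ∃ x : Matrix.symplecticGroup (Fin d) F, x ^ 2 = 1 ∧
      (∀ z : F, (x : Matrix (Fin d ⊕ Fin d) (Fin d ⊕ Fin d) F) ≠ z • (1 : Matrix (Fin d ⊕ Fin d) (Fin d ⊕ Fin d) F)) ∧
      ∀ W, Piece (Symp.spB d F) (Matrix.toLinAlgEquiv' (x : Matrix (Fin d ⊕ Fin d) (Fin d ⊕ Fin d) F)) W →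
        4 ∣ finrank F W := by
  classical
  set N := NondegFix.nilpP F d
  have hB : ∀ u v, Symp.spB d F u v = QuadraticMap.polar (Cfsg.quadFormPlus d F) u v := fun u v => by
    rw [Symp.spB_apply]
    simp [Cfsg.sympForm, Cfsg.quadFormPlus, QuadraticMap.polar, Matrix.J, Matrix.fromBlocks_mulVec, dotProduct,
      Fintype.sum_sum_type, CharTwo.neg_eq, Matrix.neg_mulVec, Matrix.one_mulVec, add_mul, mul_add, Finset.sum_add_distrib, CharTwo.sub_eq_add]
    rw [Finset.sum_congr rfl fun i _ => mul_comm (u (Sum.inr i)) (v (Sum.inl i))]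
    ring_nf
    simp [CharTwo.two_eq_zero]
  have hN2 : ∀ u, N (N u) = 0 := NondegFix.nilpP_sq
  have hiso : ∀ u v, Symp.spB d F (u + N u) (v + N v) = Symp.spB d F u v := fun u v => by
    rw [hB, hB, QuadraticMap.polar, QuadraticMap.polar, NondegFix.nilpP_iso, NondegFix.nilpP_iso,
      show u + N u + (v + N v) = (u + v) + N (u + v) by rw [map_add]; abel, NondegFix.nilpP_iso]
  have hdiag : ∀ u, Symp.spB d F (N u) u = 0 := fun u => by
    rw [hB, QuadraticMap.polar, add_comm (N u), NondegFix.nilpP_iso, NondegFix.nilpP_ts, sub_zero, sub_self]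
  set M := LinearMap.toMatrix' (1 + N)
  have hact : ∀ v, M *ᵥ v = v + N v := fun v => LinearMap.toMatrix'_mulVec (1 + N) v
  have hmem : M ∈ Matrix.symplecticGroup (Fin d) F :=
    (Symp.mem_symplecticGroup_iff _).2 fun u v => by rw [hact, hact, hiso]
  have hrk := NondegFix.nilpP_rank (F := F) (d := d)
  rw [Nat.even_iff.1 hd, Nat.sub_zero] at hrk
  refine ⟨⟨M, hmem⟩, Subtype.ext ?_, fun z hz => ?_, fun W P => ?_⟩
  · rw [SubmonoidClass.coe_pow]
    refine Matrix.ext_iff_mulVec.2 fun v => ?_
    show (M ^ 2) *ᵥ v = (1 : Matrix (Fin d ⊕ Fin d) (Fin d ⊕ Fin d) F) *ᵥ v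
    rw [pow_two, ← Matrix.mulVec_mulVec, hact, hact, map_add, hN2, add_zero, add_assoc,
      show N v + N v = 0 from funext fun i => CharTwo.add_self_eq_zero _, add_zero, Matrix.one_mulVec]
  · change M = z • 1 at hz
    have h0 : N = 0 := LinearMap.ext fun v => by
      have h := hact v
      rw [hz, Matrix.smul_mulVec, Matrix.one_mulVec] at h
      have h' := congrArg N h
      rw [map_smul, map_add, hN2, add_zero] at h'
      by_contra hne
      have : z = 1 := by
        by_contra hz1
        refine hne ?_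
        have h'' : (z - 1) • N v = 0 := by rw [sub_smul, one_smul, h', sub_self]
        exact (smul_eq_zero.1 h'').resolve_left (sub_ne_zero.2 hz1)
      rw [this, one_smul, left_eq_add] at h
      exact hne h
    rw [show NondegFix.nilpP F d = N from rfl, h0, LinearMap.range_zero, finrank_bot] at hrk
    omega
  · set g : End F (Fin d ⊕ Fin d → F) := Matrix.toLinAlgEquiv' M
    have hg : g - 1 = N := LinearMap.ext fun v => by
      show M *ᵥ v - v = N v
      rw [hact, add_sub_cancel_left]
    have H : Isom (Symp.spB d F) g := matrix_isom ⟨M, hmem⟩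
    have hker : ∀ (U : Submodule F (Fin d ⊕ Fin d → F)), Piece (Symp.spB d F) g U →
        finrank F (U.map N) ≤ finrank F ↥(U ⊓ LinearMap.ker N) ∧
          finrank F (U.map N) + finrank F ↥(U ⊓ LinearMap.ker N) = finrank F U ∧ Even (finrank F (U.map N)) := by
      intro U Q
      have hNU : ∀ x ∈ U, N x ∈ U := fun x hx => hg ▸ sub_one_mem Q.inv x hx
      have hk : finrank F (U.map N) + finrank F ↥(U ⊓ LinearMap.ker N) = finrank F U := by
        have h := LinearMap.finrank_range_add_finrank_ker (N.domRestrict U)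
        rw [LinearMap.range_domRestrict, LinearMap.ker_domRestrict] at h
        rw [inf_comm, ← h]
        congr 1
        rw [← Submodule.finrank_map_subtype_eq, Submodule.map_comap_subtype, inf_comm]
      refine ⟨Submodule.finrank_mono ?_, hk, ?_⟩
      · rintro _ ⟨x, hx, rfl⟩
        exact ⟨hNU x hx, hN2 x⟩
      · obtain ⟨X', hX'⟩ := Submodule.exists_isCompl (U ⊓ LinearMap.ker N)
        set X := X' ⊓ U
        have hsup : (U ⊓ LinearMap.ker N) ⊔ X = U := by
          rw [← sup_inf_assoc_of_le X' inf_le_left, hX'.sup_eq_top, top_inf_eq]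
        have hdis : (U ⊓ LinearMap.ker N) ⊓ X = ⊥ := eq_bot_iff.2 fun x hx => by
          rw [← hX'.inf_eq_bot]; exact ⟨hx.1, hx.2.1⟩
        have hX : finrank F X + finrank F ↥(U ⊓ LinearMap.ker N) = finrank F U := by
          have h := Submodule.finrank_sup_add_finrank_inf_eq (U ⊓ LinearMap.ker N) X
          rw [hsup, hdis, finrank_bot] at h
          omega
        rw [show finrank F (U.map N) = finrank F X by omega]
        refine SympInv.even_finrank ((Symp.spB d F).comp N LinearMap.id) _ X le_rfl (fun w _ => hdiag w)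
          fun x hx hx0 => ?_
        by_contra h
        push Not at h
        have hzero : N x = 0 := by
          by_contra hne
          obtain ⟨y, hy, hxy⟩ := Q.nd (N x) (hNU x hx.2) hne
          rw [← hsup] at hy
          obtain ⟨k, hk', y', hy', rfl⟩ := Submodule.mem_sup.1 hy
          refine hxy ?_
          have h1 : Symp.spB d F (N x) k = 0 := by
            have h2 := pow_adjoint H (a := 1) (by rw [hg]; exact LinearMap.ext hN2) x k
            rwa [pow_one, pow_one, hg, show N k = 0 from hk'.2, map_zero, mul_zero] at h2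
          rw [map_add, h1, zero_add]
          exact h y' hy'
        exact hx0 (by
          have : x ∈ (⊥ : Submodule F (Fin d ⊕ Fin d → F)) := hdis ▸ ⟨⟨hx.2, hzero⟩, hx⟩
          exact (Submodule.mem_bot F).1 this)
    have hP := P.perp H
    obtain ⟨a1, a2, a3⟩ := hker W P
    obtain ⟨b1, b2, -⟩ := hker _ hP
    have hr : finrank F (LinearMap.range N) ≤ finrank F (W.map N) + finrank F (((Symp.spB d F).orthogonal W).map N) := by
      rw [LinearMap.range_eq_map, ← (P.isCompl H.alt).sup_eq_top, Submodule.map_sup]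
      exact Submodule.finrank_add_le_finrank_add_finrank _ _
    have hdim := P.finrank_perp H
    rw [finrank_fintype_fun_eq_card, Fintype.card_sum, Fintype.card_fin] at hdim
    rw [Nat.even_iff] at a3
    have hrk' : d ≤ finrank F (LinearMap.range N) := hrk
    omega

end Cfsg.Lib.Linear.AltFix
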