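import Cfsg.Agent.Lib.Linear.NondegFix.AltPieces

/-!
# Non-degenerate subspaces fixed by unipotent and involutory isometries of alternating forms
-/

set_option autoImplicit false

universe u v

namespace Cfsg.Lib.Linear.AltFix

open Module Cfsg.Lib.Linear.JordanForms

variable {F : Type u} [Field F]

section

variable {V : Type v} [AddCommGroup V] [Module F V] [FiniteDimensional F V] {B : LinearMap.BilinForm F V} {g : End F V}

theorem restrict_sub_one {W : Submodule F V} (hi : ∀ x ∈ W, g x ∈ W) (hN : ∀ x ∈ W, (g - 1) x ∈ W) :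
    (g - 1).restrict hN = g.restrict hi - 1 :=
  LinearMap.ext fun _ => Subtype.ext rfl

theorem sub_one_mem {W : Submodule F V} (hi : ∀ x ∈ W, g x ∈ W) (x : V) (hx : x ∈ W) : (g - 1) x ∈ W :=
  W.sub_mem (hi x hx) hx

theorem restrict_pow_zero {W : Submodule F V} (hi : ∀ x ∈ W, g x ∈ W) {p : ℕ} (hp : (g - 1) ^ p = 0) :
    (g.restrict hi - 1) ^ p = 0 := by
  rw [← restrict_sub_one hi (sub_one_mem hi), End.pow_restrict]
  refine LinearMap.ext fun x => Subtype.ext ?_
  show ((g - 1) ^ p) (x : V) = 0
  rw [hp, LinearMap.zero_apply]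

/-- A nonzero form with `β x y = β y x` has an anisotropic vector when `2 ≠ 0`. -/
theorem exists_aniso (h2 : (2 : F) ≠ 0) (β : V → V → F) (hadd : ∀ x y, β (x + y) (x + y) = β x x + β x y + β y x + β y y)
    (hs : ∀ x y, β x y = β y x) {a b : V} (hab : β a b ≠ 0) : ∃ x, β x x ≠ 0 := by
  by_contra h
  push Not at h
  have h1 := hadd a b
  rw [h, h, h, hs b a, zero_add, add_zero, ← two_mul, eq_comm, mul_eq_zero] at h1
  exact hab (h1.resolve_left h2)

/-- An invariant plane when the fixed space is not totally isotropic. -/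
theorem plane_of_fixed (H : Isom B g) {x y : V} (hx : g x = x) (hy : g y = y) (hxy : B x y ≠ 0) :
    ∃ W, Piece B g W ∧ finrank F W = 2 := by
  have hyx : B y x ≠ 0 := fun h => hxy (H.alt.isRefl _ _ h)
  obtain ⟨W, -, P, hW, -⟩ := chain_two (e := 1) H le_rfl (x := x) (y := y) (by simp [pow_one, hx])
    (by simp [pow_one, hy]) (by simp [H.alt.self_eq_zero]) (by simp [H.alt.self_eq_zero]) (by simpa using hxy)
    (by simpa using hyx)
  exact ⟨W, P, by simpa using hW⟩

end

/-- Odd characteristic: every admissible sub-type of a unipotent isometry is realised on a piece. -/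
theorem sub_exists (h2 : (2 : F) ≠ 0) (n : ℕ) : ∀ {V : Type v} [AddCommGroup V] [Module F V] [FiniteDimensional F V]
    (B : LinearMap.BilinForm F V) (g : End F V), finrank F V = n → Isom B g → (∃ p, (g - 1) ^ p = 0) →
    ∀ ν : Multiset ℕ, 0 ∉ ν → (∀ j, 1 ≤ j → ν.count j ≤ mu (g - 1) j) → (∀ j, Odd j → Even (ν.count j)) →
    ∃ W, Piece B g W ∧ finrank F W = ν.sum := by
  induction n using Nat.strong_induction_on with
  | _ n ih =>
  intro V _ _ _ B g hn H hunip ν h0 hle hpar
  classical
  rcases Multiset.empty_or_exists_mem ν with rfl | ⟨a, ha⟩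
  · exact ⟨⊥, piece_bot, by simp⟩
  have hap : 1 ≤ a := Nat.pos_of_ne_zero fun h => h0 (h ▸ ha)
  let e := Nat.find hunip
  have hep : (g - 1) ^ e = 0 := Nat.find_spec hunip
  have he1 : 1 ≤ e := by
    by_contra h
    rw [show e = 0 by omega, pow_zero] at hep
    have h3 : ∀ i, kd (g - 1) i = 0 := fun i => by
      have := kd_le (g - 1) i
      have hsub : finrank F V = 0 := by
        rw [← finrank_top, show (⊤ : Submodule F V) = ⊥ from eq_bot_iff.2 fun x _ => by
          rw [Submodule.mem_bot, show x = (1 : End F V) x from rfl, hep, LinearMap.zero_apply], finrank_bot]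
      omega
    have h4 := hle a hap
    have h5 := Multiset.count_pos.2 ha
    rw [mu, h3, h3, h3] at h4
    omega
  obtain ⟨f, hf⟩ : ∃ f, e = f + 1 := ⟨e - 1, by omega⟩
  have hne : (g - 1) ^ f ≠ 0 := Nat.find_min hunip (show f < e by omega)
  have hef : (g - 1) ^ (f + 1) = 0 := hf ▸ hep
  obtain ⟨x₀, hx₀⟩ : ∃ x, ((g - 1) ^ f) x ≠ 0 := by
    by_contra h
    push Not at h
    exact hne (LinearMap.ext h)
  obtain ⟨y₀, hy₀⟩ := ne_zero_exists H hx₀
  have hsk : ∀ x y, B y x = -B x y := fun x y => (LinearMap.IsAlt.neg H.alt x y).symm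
  -- a piece made of blocks of the largest size
  obtain ⟨t, W, hN, P, hW, hmu, ht, hte⟩ : ∃ (t : ℕ) (W : Submodule F V) (hN : ∀ x ∈ W, (g - 1) x ∈ W),
      Piece B g W ∧ finrank F W = t * (f + 1) ∧
      (∀ j, 1 ≤ j → mu ((g - 1).restrict hN) j = if j = f + 1 then t else 0) ∧
      1 ≤ t ∧ (t = 1 ∨ t = 2 ∧ Odd (f + 1)) := by
    rcases Nat.even_or_odd f with hfe | hfo
    · have hsym : ∀ x y, B (((g - 1) ^ f) y) x = -B (((g - 1) ^ f) x) y := fun x y => by
        rw [pow_adjoint H hef y x, hfe.neg_one_pow, one_mul, hsk]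
      have hz : ∀ x, B (((g - 1) ^ f) x) x = 0 := fun x => by
        have h := hsym x x
        exact (mul_eq_zero.1 (show (2 : F) * B (((g - 1) ^ f) x) x = 0 by linear_combination h)).resolve_left h2
      obtain ⟨W, hN, P, hW, hmu⟩ := chain_two (e := f + 1) H (by omega) (x := x₀) (y := y₀)
        (by rw [hef]; rfl) (by rw [hef]; rfl) (by simpa using hz x₀) (by simpa using hz y₀) (by simpa using hy₀)
        (by simpa [hsym x₀ y₀] using hy₀)
      exact ⟨2, W, hN, P, hW, hmu, by omega, Or.inr ⟨rfl, hfe.add_one⟩⟩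
    · have hsym : ∀ x y, B (((g - 1) ^ f) x) y = B (((g - 1) ^ f) y) x := fun x y => by
        rw [pow_adjoint H hef x y, hfo.neg_one_pow, hsk]; ring
      obtain ⟨x, hx⟩ := exists_aniso h2 (fun x y => B (((g - 1) ^ f) x) y) (fun x y => by
        simp only [map_add, LinearMap.add_apply]; ring) hsym hy₀
      obtain ⟨W, hN, P, hW, hmu⟩ := chain_one (e := f + 1) H (by omega) (x := x) (by rw [hef]; rfl)
        (by simpa using hx)
      exact ⟨1, W, hN, P, by rw [hW, one_mul], hmu, le_rfl, Or.inl rfl⟩
  have hU := P.perp H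
  have hWU := P.finrank_perp H
  have hUp : (g.restrict hU.inv - 1) ^ (f + 1) = 0 := restrict_pow_zero hU.inv hef
  have hsum : ∀ j, 1 ≤ j → mu (g - 1) j = (if j = f + 1 then t else 0) + mu (g.restrict hU.inv - 1) j := fun j hj => by
    rw [mu_add (g - 1) (P.isCompl H.alt) hN (sub_one_mem hU.inv) hj, hmu j hj, restrict_sub_one hU.inv]
  have hlt : finrank F ↥(B.orthogonal W) < n := by
    have : 0 < t * (f + 1) := Nat.mul_pos (by omega) (by omega)
    omega
  by_cases hc : t ≤ ν.count (f + 1)
  · -- use the piece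
    have hle' : Multiset.replicate t (f + 1) ≤ ν := Multiset.le_count_iff_replicate_le.1 hc
    obtain ⟨X, hX, hXd⟩ := ih _ hlt _ _ rfl (P.perp H |>.toIsom H) ⟨_, hUp⟩ (ν - Multiset.replicate t (f + 1))
      (fun h => h0 (Multiset.mem_of_le (Multiset.sub_le_self _ _) h)) (fun j hj => by
        have h1 := hle j hj
        rw [hsum j hj] at h1
        rw [Multiset.count_sub, Multiset.count_replicate]
        rcases eq_or_ne j (f + 1) with rfl | hne
        · rw [if_pos rfl] at h1 ⊢; omega
        · rw [if_neg hne] at h1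
          rw [if_neg (Ne.symm hne)]
          omega) (fun j hj => by
        rw [Multiset.count_sub, Multiset.count_replicate]
        split_ifs with hj'
        · rcases hte with rfl | ⟨rfl, -⟩
          · subst hj'
            exfalso
            rcases Nat.even_or_odd f with hfe | hfo
            · have hEven := P.finrank_even H
              rw [hW, one_mul] at hEven
              exact Nat.not_even_iff_odd.2 hfe.add_one hEven
            · exact Nat.not_even_iff_odd.2 hj hfo.add_one
          · have h3 := hpar j hj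
            rw [Nat.even_iff] at h3 ⊢
            subst hj'
            omega
        · simpa using hpar j hj)
    obtain ⟨Z, hZ, hZd⟩ := P.extend H hX
    refine ⟨Z, hZ, ?_⟩
    rw [hZd, hXd, hW]
    rw [show ν.sum = (Multiset.replicate t (f + 1)).sum + (ν - Multiset.replicate t (f + 1)).sum by
      rw [← Multiset.sum_add, add_tsub_cancel_of_le hle'], Multiset.sum_replicate, smul_eq_mul]
  · obtain ⟨X, hX, hXd⟩ := ih _ hlt _ _ rfl (P.perp H |>.toIsom H) ⟨_, hUp⟩ ν h0 (fun j hj => by
      have h1 := hle j hj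
      rw [hsum j hj] at h1
      rcases eq_or_ne j (f + 1) with rfl | hne
      · have : ν.count (f + 1) = 0 := by
          rcases hte with rfl | ⟨rfl, ho⟩
          · omega
          · have h3 := hpar _ ho
            rw [Nat.even_iff] at h3
            omega
        omega
      · rwa [if_neg hne, zero_add] at h1) hpar
    exact ⟨_, Piece.push hU.inv hX, by rw [Submodule.finrank_map_subtype_eq, hXd]⟩

/-- Characteristic two: square-zero `g - 1`. -/
theorem two_sub (d : ℕ) : ∀ {V : Type v} [AddCommGroup V] [Module F V] [FiniteDimensional F V]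
    (B : LinearMap.BilinForm F V) (g : End F V), finrank F V = 2 * d → Isom B g → (g - 1) ^ 2 = 0 →
    ∀ k, k ≤ d → (Odd d ∨ Even k) → ∃ W, Piece B g W ∧ finrank F W = 2 * k := by
  induction d using Nat.strong_induction_on with
  | _ d ih =>
  intro V _ _ _ B g hn H hN k hk hcond
  rcases Nat.eq_zero_or_pos k with rfl | hk0
  · exact ⟨⊥, piece_bot, by simp⟩
  rcases eq_or_lt_of_le hk with rfl | hkd
  · exact ⟨⊤, piece_top H, by rw [finrank_top, hn]⟩
  have use : ∀ {s : ℕ} (W : Submodule F V) (P : Piece B g W), 1 ≤ s → finrank F W = 2 * s → ∀ k', k' + s ≤ d →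
      (Odd (d - s) ∨ Even k') → ∃ X : Submodule F ↥(B.orthogonal W),
        Piece (B.restrict (B.orthogonal W)) (g.restrict (P.perp H).inv) X ∧ finrank F X = 2 * k' := by
    intro s W P hs hW k' hk' hc'
    have h := P.finrank_perp H
    exact ih (d - s) (by omega) _ _ (by omega) ((P.perp H).toIsom H) (restrict_pow_zero _ hN) k' (by omega) hc'
  have hsk : ∀ x y, B y x = -B x y := fun x y => (LinearMap.IsAlt.neg H.alt x y).symm
  by_cases hpl : ∃ W, Piece B g W ∧ finrank F W = 2
  · obtain ⟨W, P, hW⟩ := hpl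
    rcases Nat.even_or_odd k with hke | hko
    · obtain ⟨X, hX, hXd⟩ := use (s := 1) W P le_rfl hW k (by omega) (Or.inr hke)
      exact ⟨_, Piece.push _ hX, by rw [Submodule.finrank_map_subtype_eq, hXd]⟩
    · obtain ⟨X, hX, hXd⟩ := use (s := 1) W P le_rfl hW (k - 1) (by omega)
        (Or.inr (by rw [Nat.odd_iff] at hko; rw [Nat.even_iff]; omega))
      obtain ⟨Z, hZ, hZd⟩ := P.extend H hX
      exact ⟨Z, hZ, by omega⟩
  -- no invariant plane
  obtain ⟨x, hx⟩ : ∃ x, (g - 1) x ≠ 0 := by
    by_contra h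
    push Not at h
    have hfix : ∀ x, g x = x := fun x => sub_eq_zero.1 (h x)
    have : Nontrivial V := Module.nontrivial_of_finrank_pos (R := F) (by omega)
    obtain ⟨a, ha⟩ := exists_ne (0 : V)
    obtain ⟨b, hb⟩ := ne_zero_exists H ha
    exact hpl (plane_of_fixed H (hfix a) (hfix b) hb)
  obtain ⟨y, hy⟩ := ne_zero_exists H hx
  have hdiag : ∀ z, B ((g - 1) z) z = 0 := fun z => by
    by_contra h
    obtain ⟨W, -, P, hW, -⟩ := chain_one (e := 2) H (by omega) (x := z) (by rw [hN]; rfl) (by simpa using h)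
    exact hpl ⟨W, P, hW⟩
  have hyx : B ((g - 1) y) x ≠ 0 := by
    have := pow_adjoint H (a := 1) hN y x
    rw [pow_one, pow_one] at this
    rw [this, hsk, neg_mul, one_mul, neg_neg]
    exact hy
  obtain ⟨W, -, P, hW, -⟩ := chain_two (e := 2) H (by omega) (x := x) (y := y) (by rw [hN]; rfl) (by rw [hN]; rfl)
    (by simpa using hdiag x) (by simpa using hdiag y) (by simpa using hy) (by simpa using hyx)
  rcases Nat.even_or_odd k with hke | hko
  · obtain ⟨X, hX, hXd⟩ := use (s := 2) W P (by omega) hW (k - 2) (by rw [Nat.even_iff] at hke; omega)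
      (Or.inr (by rw [Nat.even_iff] at hke ⊢; omega))
    obtain ⟨Z, hZ, hZd⟩ := P.extend H hX
    exact ⟨Z, hZ, by rw [Nat.even_iff] at hke; omega⟩
  · have hdo := hcond.resolve_right (Nat.not_even_iff_odd.2 hko)
    rw [Nat.odd_iff] at hdo hko
    obtain ⟨X, hX, hXd⟩ := use (s := 2) W P (by omega) hW k (by omega) (Or.inl (by rw [Nat.odd_iff]; omega))
    exact ⟨_, Piece.push _ hX, by rw [Submodule.finrank_map_subtype_eq, hXd]⟩

/-- Plane at a time, for isometries with an invariant plane in every piece. -/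
theorem planes (Good : ∀ {V : Type v} [AddCommGroup V] [Module F V], End F V → Prop)
    (hres : ∀ {V : Type v} [AddCommGroup V] [Module F V] (g : End F V) (W : Submodule F V)
      (hi : ∀ x ∈ W, g x ∈ W), Good g → Good (g.restrict hi))
    (hplane : ∀ {V : Type v} [AddCommGroup V] [Module F V] [FiniteDimensional F V] (B : LinearMap.BilinForm F V)
      (g : End F V), Isom B g → Good g → 0 < finrank F V → ∃ W, Piece B g W ∧ finrank F W = 2)
    (k : ℕ) : ∀ {V : Type v} [AddCommGroup V] [Module F V] [FiniteDimensional F V]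
    (B : LinearMap.BilinForm F V) (g : End F V), Isom B g → Good g → 2 * k ≤ finrank F V →
      ∃ W, Piece B g W ∧ finrank F W = 2 * k := by
  induction k with
  | zero => intro V _ _ _ B g _ _ _; exact ⟨⊥, piece_bot, by simp⟩
  | succ k ih =>
    intro V _ _ _ B g H hg hk
    obtain ⟨W, P, hW⟩ := hplane B g H hg (by omega)
    have h := P.finrank_perp H
    obtain ⟨X, hX, hXd⟩ := ih _ _ ((P.perp H).toIsom H) (hres g _ _ hg) (by omega)
    obtain ⟨Z, hZ, hZd⟩ := P.extend H hX
    exact ⟨Z, hZ, by omega⟩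

/-- An isometry squaring to `±1` in odd characteristic fixes a piece of every even dimension. -/
theorem invol_sub (h2 : (2 : F) ≠ 0) {z : F} (hz : z = 1 ∨ z = -1) (k : ℕ) {V : Type v} [AddCommGroup V]
    [Module F V] [FiniteDimensional F V] (B : LinearMap.BilinForm F V) (g : End F V) (H : Isom B g)
    (hg : ∀ v, g (g v) = z • v) (hk : 2 * k ≤ finrank F V) : ∃ W, Piece B g W ∧ finrank F W = 2 * k := by
  refine planes (fun {V} _ _ g => ∀ v, g (g v) = z • v) (fun g W hi h v => Subtype.ext (by simpa using h v)) ?_ k B g H hg hk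
  intro V _ _ _ B g H hg hpos
  have : Nontrivial V := Module.nontrivial_of_finrank_pos (R := F) hpos
  obtain ⟨a, ha⟩ := exists_ne (0 : V)
  have hsk : ∀ x y, B y x = -B x y := fun x y => (LinearMap.IsAlt.neg H.alt x y).symm
  -- two vectors spanning an invariant plane
  suffices hs : ∃ u w, B u w ≠ 0 ∧ g u ∈ Submodule.span F {u, w} ∧ g w ∈ Submodule.span F {u, w} by
    obtain ⟨u, w, huw, hu, hw⟩ := hs
    have hwu : B w u ≠ 0 := fun h => huw (H.alt.isRefl _ _ h)
    refine ⟨Submodule.span F {u, w}, ⟨fun x hx hx0 => ?_, fun x hx => ?_⟩, ?_⟩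
    · obtain ⟨s, t, rfl⟩ := Submodule.mem_span_pair.1 hx
      by_cases hs : s = 0
      · refine ⟨u, Submodule.subset_span (by simp), ?_⟩
        have ht : t ≠ 0 := fun ht => hx0 (by rw [hs, ht, zero_smul, zero_smul, add_zero])
        simp [hs, ht, hwu]
      · refine ⟨w, Submodule.subset_span (by simp), ?_⟩
        simp [hs, huw, H.alt.self_eq_zero]
    · obtain ⟨s, t, rfl⟩ := Submodule.mem_span_pair.1 hx
      rw [map_add, map_smul, map_smul]
      exact Submodule.add_mem _ (Submodule.smul_mem _ _ hu) (Submodule.smul_mem _ _ hw)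
    · rw [← Matrix.range_cons_cons_empty u w Matrix.vecEmpty]
      refine finrank_span_eq_card (LinearIndependent.pair_iff.2 fun s t hst => ?_) |>.trans (Fintype.card_fin 2)
      have h1 := congrArg (fun x => B x w) hst
      have h3 := congrArg (fun x => B x u) hst
      simp [H.alt.self_eq_zero] at h1 h3
      exact ⟨h1.resolve_right huw, h3.resolve_right hwu⟩
  rcases hz with rfl | rfl
  · simp only [one_smul] at hg
    have hp : ∀ x, g (g x + x) = g x + x := fun x => by rw [map_add, hg, add_comm]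
    have hm : ∀ x, g (x - g x) = -(x - g x) := fun x => by rw [map_sub, hg, neg_sub]
    obtain ⟨u, hu0, s, hus⟩ : ∃ u, u ≠ 0 ∧ ∃ s : F, g u = s • u := by
      by_cases h : g a + a = 0
      · exact ⟨a, ha, -1, by rw [neg_one_smul]; exact eq_neg_of_add_eq_zero_left h⟩
      · exact ⟨_, h, 1, by rw [one_smul, hp]⟩
    obtain ⟨w, hw⟩ := ne_zero_exists H hu0
    have hu : ∀ {b}, g u ∈ Submodule.span F {u, b} := fun {b} => by
      rw [hus]; exact Submodule.smul_mem _ _ (Submodule.subset_span (by simp))
    by_cases h : B u (g w + w) = 0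
    · refine ⟨u, w - g w, ?_, hu, ?_⟩
      · intro h'
        rw [map_add] at h
        rw [map_sub] at h'
        exact hw ((mul_eq_zero.1 (show (2 : F) * B u w = 0 by linear_combination h + h')).resolve_left h2)
      · rw [hm]; exact Submodule.neg_mem _ (Submodule.subset_span (by simp))
    · exact ⟨u, _, h, hu, by rw [hp]; exact Submodule.subset_span (by simp)⟩
  · simp only [neg_one_smul] at hg
    have hs : ∀ x y, B x (g y) = B y (g x) := fun x y => by
      rw [← H.iso x (g y), hg, map_neg, ← hsk (g x) y]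
    obtain ⟨u, hu⟩ : ∃ x, B x (g x) ≠ 0 := by
      obtain ⟨b, hb⟩ := ne_zero_exists H ha
      refine exists_aniso h2 (fun x y => B x (g y)) (fun x y => by simp only [map_add, LinearMap.add_apply]; ring) hs
        (a := a) (b := -g b) ?_
      rwa [map_neg, hg, neg_neg]
    refine ⟨u, g u, hu, Submodule.subset_span (by simp), ?_⟩
    rw [hg]
    exact Submodule.neg_mem _ (Submodule.subset_span (by simp))

/-- Non-degenerate subspaces of every even dimension. -/
theorem exists_nd_sub (k : ℕ) {V : Type v} [AddCommGroup V] [Module F V] [FiniteDimensional F V]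
    (B : LinearMap.BilinForm F V) (H : Isom B (1 : End F V)) (hk : 2 * k ≤ finrank F V) :
    ∃ W, Piece B (1 : End F V) W ∧ finrank F W = 2 * k := by
  refine planes (fun {V} _ _ g => ∀ v, g v = v) (fun g W hi h v => Subtype.ext (h v)) ?_ k B 1 H (fun v => rfl) hk
  intro V _ _ _ B g H hg hpos
  have : Nontrivial V := Module.nontrivial_of_finrank_pos (R := F) hpos
  obtain ⟨a, ha⟩ := exists_ne (0 : V)
  obtain ⟨b, hb⟩ := ne_zero_exists H ha
  exact plane_of_fixed H (hg a) (hg b) hb

end Cfsg.Lib.Linear.AltFix
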