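import Cfsg.Agent.Lib.Linear.IsotropicFix.OrthReduce
import Cfsg.Agent.Lib.Linear.OrthSum

/-!
# Orthogonal elements of prime order fixing non-degenerate subspaces

A space written as an orthogonal sum `Q₁ ⊥ Q₂`: an element of odd order `r` fixes a subspace isometric
to `Q₁` iff its multiplicities split into a part realised by `Q₁` and a part realised by `Q₂`.
-/

set_option autoImplicit false

universe u

namespace Cfsg.Lib.Linear.NondegFix

open Module Polynomial Cfsg.Agent.Lib.Linear.PrimeClasses Cfsg.Lib.Linear.Orth Cfsg.Lib.Linear.IsoFix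
open scoped Matrix

variable {F : Type u} [Field F] {ι κ κ' : Type} [Fintype ι] [DecidableEq ι] [Fintype κ] [DecidableEq κ]
  [Fintype κ'] [DecidableEq κ'] {Q : (ι → F) → F} {B : LinearMap.BilinForm F (ι → F)} {R : (κ → F) → F}
  {D : LinearMap.BilinForm F (κ → F)} {R' : (κ' → F) → F} {D' : LinearMap.BilinForm F (κ' → F)}

/-- An invariant subspace isometric to `R`. -/
def FixesR (Q : (ι → F) → F) (R : (κ → F) → F) (M : Matrix ι ι F) : Prop :=
  ∃ E : (κ → F) →ₗ[F] (ι → F), (∀ v, Q (E v) = R v) ∧ ∀ v, ∃ w, M *ᵥ E v = E w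

/-- An orthogonal decomposition of a space. -/
def IsSum (Q : (ι → F) → F) (R : (κ → F) → F) (R' : (κ' → F) → F)
    (ψ : (ι → F) ≃ₗ[F] (κ ⊕ κ' → F)) : Prop :=
  ∀ v, Q v = sumQ R R' (ψ v)

variable {ψ : (ι → F) ≃ₗ[F] (κ ⊕ κ' → F)}

/-- The first summand. -/
noncomputable def inE (ψ : (ι → F) ≃ₗ[F] (κ ⊕ κ' → F)) : (κ → F) →ₗ[F] (ι → F) :=
  (ψ.symm : (κ ⊕ κ' → F) →ₗ[F] (ι → F)).comp
    ({ toFun := fun v => Sum.elim v 0
       map_add' := fun a b => by ext (i | i) <;> simp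
       map_smul' := fun c a => by ext (i | i) <;> simp } : (κ → F) →ₗ[F] (κ ⊕ κ' → F))

theorem psi_inE (v : κ → F) : ψ (inE ψ v) = Sum.elim v 0 := by
  simp [inE]

theorem IsSum.Q_inE (S : IsSum Q R R' ψ) (C' : Space R' D') (v : κ → F) : Q (inE ψ v) = R v := by
  rw [S, psi_inE, sumQ]
  simp [C'.zero]

theorem embed_injective (C : Space Q B) (CR : Space R D) {E : (κ → F) →ₗ[F] (ι → F)} (hE : ∀ v, Q (E v) = R v) :
    Function.Injective E := by
  rw [injective_iff_map_eq_zero]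
  intro v hv
  refine CR.nondeg _ fun u => ?_
  rw [← CR.polar, QuadraticMap.polar, ← hE, ← hE, ← hE, map_add, hv, add_zero, C.zero, sub_zero, sub_self]

theorem finrank_embed (C : Space Q B) (CR : Space R D) {E : (κ → F) →ₗ[F] (ι → F)} (hE : ∀ v, Q (E v) = R v) :
    finrank F (LinearMap.range E) = Fintype.card κ := by
  rw [LinearMap.finrank_range_of_inj (embed_injective C CR hE), finrank_fintype_fun_eq_card]

theorem IsSum.bilin (S : IsSum Q R R' ψ) (C : Space Q B) (CR : Space R D) (C' : Space R' D') (u v : ι → F) :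
    B u v = D (ψ u ∘ Sum.inl) (ψ v ∘ Sum.inl) + D' (ψ u ∘ Sum.inr) (ψ v ∘ Sum.inr) := by
  rw [← C.polar, ← CR.polar, ← C'.polar, QuadraticMap.polar, QuadraticMap.polar, QuadraticMap.polar, S, S, S,
    map_add, sumQ, sumQ, sumQ]
  rw [show (ψ u + ψ v) ∘ Sum.inl = ψ u ∘ Sum.inl + ψ v ∘ Sum.inl from rfl,
    show (ψ u + ψ v) ∘ Sum.inr = ψ u ∘ Sum.inr + ψ v ∘ Sum.inr from rfl]
  ring

/-- An isometry stabilising the first summand is block diagonal. -/
theorem exists_blocks (C : Space Q B) (CR : Space R D) (C' : Space R' D') (S : IsSum Q R R' ψ) {r : ℕ}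
    (hr : 1 ≤ r) (g : ↥(Cfsg.isometryGroup F Q)) (hg : g ^ r = 1)
    (hinv : ∀ v, ∃ w, (g : GL ι F).val *ᵥ inE ψ v = inE ψ w) :
    ∃ (g₁ : ↥(Cfsg.isometryGroup F R)) (g₂ : ↥(Cfsg.isometryGroup F R')), g₁ ^ r = 1 ∧ g₂ ^ r = 1 ∧
      ((g : GL ι F) : Matrix ι ι F).charpoly =
        ((g₁ : GL κ F) : Matrix κ κ F).charpoly * ((g₂ : GL κ' F) : Matrix κ' κ' F).charpoly := by
  classical
  let T : (κ ⊕ κ' → F) →ₗ[F] (κ ⊕ κ' → F) :=
    (ψ : (ι → F) →ₗ[F] _) ∘ₗ Matrix.toLin' ((g : GL ι F) : Matrix ι ι F) ∘ₗ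
      (ψ.symm : (κ ⊕ κ' → F) →ₗ[F] _)
  let M := LinearMap.toMatrix' T
  have hT : ∀ x, M *ᵥ x = ψ ((g : GL ι F).val *ᵥ ψ.symm x) := fun x => by
    rw [LinearMap.toMatrix'_mulVec]; rfl
  have hcp : M.charpoly = ((g : GL ι F) : Matrix ι ι F).charpoly := by
    rw [← LinearMap.charpoly_toMatrix T (Pi.basisFun F _) |>.trans (LinearEquiv.charpoly_conj ψ (Matrix.toLin' ((g : GL ι F) : Matrix ι ι F)))
      |>.trans (Matrix.charpoly_toLin' _)]
    rfl
  have hpow : M ^ r = 1 := by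
    have h1 : ∀ (k : ℕ) x, (M ^ k) *ᵥ x = ψ (((g : GL ι F).val ^ k) *ᵥ ψ.symm x) := fun k => by
      induction k with
      | zero => intro x; simp
      | succ k ih =>
        intro x
        rw [pow_succ', ← Matrix.mulVec_mulVec, ih, hT, LinearEquiv.symm_apply_apply, Matrix.mulVec_mulVec,
          pow_succ']
    refine mat_ext fun x => ?_
    rw [h1, ← Units.val_pow_eq_pow_val, ← SubmonoidClass.coe_pow, hg]
    simp
  have hB : ∀ x y, D ((M *ᵥ x) ∘ Sum.inl) ((M *ᵥ y) ∘ Sum.inl) + D' ((M *ᵥ x) ∘ Sum.inr) ((M *ᵥ y) ∘ Sum.inr) =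
      D (x ∘ Sum.inl) (y ∘ Sum.inl) + D' (x ∘ Sum.inr) (y ∘ Sum.inr) := fun x y => by
    have h1 := S.bilin C CR C' ((g : GL ι F).val *ᵥ ψ.symm x) ((g : GL ι F).val *ᵥ ψ.symm y)
    rw [C.B_act g.2, S.bilin C CR C', LinearEquiv.apply_symm_apply, LinearEquiv.apply_symm_apply, ← hT, ← hT] at h1
    exact h1.symm
  let A : Matrix κ κ F := M.toBlocks₁₁
  let X : Matrix κ κ' F := M.toBlocks₁₂
  let G : Matrix κ' κ' F := M.toBlocks₂₂
  have hlow : M.toBlocks₂₁ = 0 := Matrix.ext fun i j => by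
    obtain ⟨w, hw⟩ := hinv (Pi.single j 1)
    have h1 := hT (ψ (inE ψ (Pi.single j 1)))
    rw [LinearEquiv.symm_apply_apply, hw, psi_inE, psi_inE] at h1
    have h3 : Sum.elim (Pi.single j (1 : F)) (0 : κ' → F) = Pi.single (Sum.inl j) 1 := by
      ext (t | t) <;> simp [Pi.single_apply]
    rw [h3, Matrix.mulVec_single_one] at h1
    exact congrFun h1 (Sum.inr i)
  have hM : M = Matrix.fromBlocks A X 0 G := by rw [← hlow]; exact (Matrix.fromBlocks_toBlocks M).symm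
  -- the first block is an isometry
  have hA : ∀ x, R (A *ᵥ x) = R x := fun x => by
    have h := mem_iso.1 g.2 (inE ψ x)
    rw [S, S] at h
    have h1 : ψ ((g : GL ι F).val *ᵥ inE ψ x) = M *ᵥ Sum.elim x 0 := by
      rw [hT, ← psi_inE (ψ := ψ), LinearEquiv.symm_apply_apply]
    rw [h1, psi_inE, hM, Matrix.fromBlocks_mulVec] at h
    simpa [sumQ, C'.zero] using h
  have hAr : A ^ r = 1 ∧ G ^ r = 1 := by
    obtain ⟨X', hX'⟩ := fromBlocks_upper_pow A X G r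
    have h := hpow
    rw [hM, hX', ← Matrix.fromBlocks_one, Matrix.fromBlocks_inj] at h
    exact ⟨h.1, h.2.2.2⟩
  have hX : X = 0 := by
    have hsurj : ∀ u : κ → F, ∃ v, A *ᵥ v = u := fun u => ⟨(A ^ (r - 1)) *ᵥ u, by
      rw [Matrix.mulVec_mulVec, ← pow_succ', Nat.sub_add_cancel hr, hAr.1, Matrix.one_mulVec]⟩
    refine Matrix.ext_iff_mulVec.mpr fun y => ?_
    rw [Matrix.zero_mulVec]
    refine CR.nondeg _ fun u => ?_
    obtain ⟨v, rfl⟩ := hsurj u
    have h := hB (Sum.elim v 0) (Sum.elim 0 y)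
    rw [hM, Matrix.fromBlocks_mulVec, Matrix.fromBlocks_mulVec] at h
    simpa using h
  have hG : ∀ y, R' (G *ᵥ y) = R' y := fun y => by
    have h := mem_iso.1 g.2 (ψ.symm (Sum.elim 0 y))
    rw [S, S, LinearEquiv.apply_symm_apply] at h
    rw [← hT, hM, hX, Matrix.fromBlocks_mulVec] at h
    simpa [sumQ, CR.zero] using h
  refine ⟨⟨Units.ofPowEqOne A r hAr.1 (by omega), mem_iso.2 hA⟩, ⟨Units.ofPowEqOne G r hAr.2 (by omega), mem_iso.2 hG⟩,
    Subtype.ext (Units.pow_ofPowEqOne hAr.1 (by omega)), Subtype.ext (Units.pow_ofPowEqOne hAr.2 (by omega)), ?_⟩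
  show _ = A.charpoly * G.charpoly
  rw [← hcp, hM, Matrix.charpoly_fromBlocks_zero₂₁]

theorem exists_move [Finite F] (C : Space Q B) (CR : Space R D) {E E' : (κ → F) →ₗ[F] (ι → F)}
    (hE : ∀ v, Q (E v) = R v) (hE' : ∀ v, Q (E' v) = R v) :
    ∃ h : ↥(Cfsg.isometryGroup F Q), ∀ v, (h : GL ι F).val *ᵥ E v = E' v := by
  let e : LinearMap.range E ≃ₗ[F] LinearMap.range E' :=
    (LinearEquiv.ofInjective E (embed_injective C CR hE)).symm.trans
      (LinearEquiv.ofInjective E' (embed_injective C CR hE'))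
  have he : ∀ v, e (LinearEquiv.ofInjective E (embed_injective C CR hE) v) =
      LinearEquiv.ofInjective E' (embed_injective C CR hE') v := fun v => by simp [e]
  obtain ⟨h, -, hh⟩ := Cfsg.Lib.H3.exists_img_eq C e fun u => by
    obtain ⟨v, rfl⟩ := (LinearEquiv.ofInjective E (embed_injective C CR hE)).surjective u
    rw [he, LinearEquiv.ofInjective_apply, LinearEquiv.ofInjective_apply, hE, hE']
  refine ⟨h, fun v => ?_⟩
  have h1 := hh (LinearEquiv.ofInjective E (embed_injective C CR hE) v)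
  rwa [he, LinearEquiv.ofInjective_apply, LinearEquiv.ofInjective_apply] at h1

variable [Fintype F] {L : Type u} [Field L] [Algebra F L] [IsAlgClosed L] {r : ℕ} [Fact r.Prime] {ζ : L}

/-- When an isometry of order dividing `r` fixes a subspace isometric to the first summand. -/
theorem fixesR_iff (C : Space Q B) (CR : Space R D) (C' : Space R' D') (S : IsSum Q R R' ψ)
    (hζ : IsPrimitiveRoot ζ r) (hrL : (r : L) ≠ 0) (hrF : (r : F) ≠ 0) (hr2 : r ≠ 2) {uq : (ZMod r)ˣ}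
    (huq : (uq : ZMod r) = (Fintype.card F : ZMod r)) (w : (ZMod r)ˣ)
    (hw : (w : ZMod r) = (uq : ZMod r) ∨ (w : ZMod r) = -(uq : ZMod r)) (g : ↥(Cfsg.isometryGroup F Q))
    (hg : g ^ r = 1) {f : ZMod r → ℕ} (hf : ((g : GL ι F) : Matrix ι ι F).charpoly.map (algebraMap F L) = Pm ζ f) :
    FixesR Q R ((g : GL ι F) : Matrix ι ι F) ↔
      ∃ μ : ZMod r → ℕ, Inv w (Fintype.card κ) μ ∧ (∀ x, μ x ≤ f x) ∧
        (∃ g₁ : ↥(Cfsg.isometryGroup F R), g₁ ^ r = 1 ∧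
          ((g₁ : GL κ F) : Matrix κ κ F).charpoly.map (algebraMap F L) = Pm ζ μ) ∧
        ∃ g₂ : ↥(Cfsg.isometryGroup F R'), g₂ ^ r = 1 ∧
          ((g₂ : GL κ' F) : Matrix κ' κ' F).charpoly.map (algebraMap F L) = Pm ζ fun x => f x - μ x := by
  classical
  have hr : 1 ≤ r := (Fact.out : r.Prime).one_le
  constructor
  · rintro ⟨E, hE, hinv⟩
    obtain ⟨h, hh⟩ := exists_move C CR (S.Q_inE C') hE
    have hstab : ∀ v, ∃ u, ((h⁻¹ * g * h : ↥(Cfsg.isometryGroup F Q)) : GL ι F).val *ᵥ inE ψ v = inE ψ u := by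
      intro v
      obtain ⟨u, hu⟩ := hinv v
      refine ⟨u, ?_⟩
      rw [Subgroup.coe_mul, Subgroup.coe_mul, mul_act, mul_act, hh, hu, ← hh, Subgroup.coe_inv, inv_act]
    obtain ⟨g₁, g₂, hg₁, hg₂, hcp⟩ := exists_blocks C CR C' S hr (h⁻¹ * g * h)
      (by rw [show h⁻¹ * g * h = h⁻¹ * g * (h⁻¹)⁻¹ by rw [inv_inv], conj_pow, hg, mul_one, mul_inv_cancel]) hstab
    rw [Subgroup.coe_mul, Subgroup.coe_mul, Units.val_mul, Units.val_mul, Matrix.charpoly_mul_comm,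
      ← Matrix.mul_assoc, ← Units.val_mul, ← Subgroup.coe_mul, mul_inv_cancel, Subgroup.coe_one,
      Units.val_one, Matrix.one_mul] at hcp
    obtain ⟨μ, hμ, hμi⟩ := exists_mult_orth CR hζ hrL huq w hw g₁ hg₁
    obtain ⟨ρ, hρ, -⟩ := exists_mult_orth C' hζ hrL huq w hw g₂ hg₂
    rw [hcp, Polynomial.map_mul, hμ, hρ, ← Pm_add] at hf
    have he := Pm_inj hζ hf
    refine ⟨μ, hμi, fun x => ?_, ⟨g₁, hg₁, hμ⟩, g₂, hg₂, ?_⟩
    · rw [← he]
      exact Nat.le_add_right _ _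
    · rw [hρ]
      congr 1
      funext x
      rw [← he, Pi.add_apply, Nat.add_sub_cancel_left]
  · rintro ⟨μ, -, hle, ⟨g₁, hg₁, hp₁⟩, g₂, hg₂, hp₂⟩
    let M : Matrix (κ ⊕ κ') (κ ⊕ κ') F :=
      Matrix.fromBlocks (g₁ : GL κ F).val 0 0 (g₂ : GL κ' F).val
    let T : (ι → F) →ₗ[F] (ι → F) :=
      (ψ.symm : (κ ⊕ κ' → F) →ₗ[F] _) ∘ₗ Matrix.toLin' M ∘ₗ (ψ : (ι → F) →ₗ[F] _)
    let N := LinearMap.toMatrix' T
    have hN : ∀ v, ψ (N *ᵥ v) = M *ᵥ ψ v := fun v => by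
      rw [LinearMap.toMatrix'_mulVec]; simp [T]
    have hMr : M ^ r = 1 := by
      rw [Matrix.fromBlocks_diagonal_pow, ← Units.val_pow_eq_pow_val, ← Units.val_pow_eq_pow_val,
        ← SubmonoidClass.coe_pow, ← SubmonoidClass.coe_pow, hg₁, hg₂, Subgroup.coe_one, Subgroup.coe_one,
        Units.val_one, Units.val_one, Matrix.fromBlocks_one]
    have hNr : N ^ r = 1 := by
      have h1 : ∀ (k : ℕ) v, ψ ((N ^ k) *ᵥ v) = (M ^ k) *ᵥ ψ v := fun k => by
        induction k with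
        | zero => intro v; simp
        | succ k ih => intro v; rw [pow_succ', pow_succ', ← Matrix.mulVec_mulVec, hN, ih, Matrix.mulVec_mulVec]
      refine mat_ext fun v => ψ.injective ?_
      rw [h1, hMr, Matrix.one_mulVec, Matrix.one_mulVec]
    let gN : GL ι F := Units.ofPowEqOne N r hNr (Fact.out : r.Prime).ne_zero
    have hgN : gN ∈ Cfsg.isometryGroup F Q := mem_iso.2 fun v => by
      show Q (N *ᵥ v) = Q v
      rw [S, S, hN]
      simp only [M, sumQ, Matrix.fromBlocks_mulVec, Sum.elim_comp_inl, Sum.elim_comp_inr, Matrix.zero_mulVec,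
        add_zero, zero_add]
      rw [mem_iso.1 g₁.2, mem_iso.1 g₂.2]
    have hcpN : N.charpoly = M.charpoly := by
      rw [← LinearMap.charpoly_toMatrix T (Pi.basisFun F _) |>.trans (LinearEquiv.charpoly_conj ψ.symm (Matrix.toLin' M))
        |>.trans (Matrix.charpoly_toLin' M)]
      rfl
    have hgp : N.charpoly.map (algebraMap F L) = Pm ζ f := by
      rw [hcpN, Matrix.charpoly_fromBlocks_zero₁₂, Polynomial.map_mul, hp₁, hp₂, ← Pm_add]
      congr 1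
      funext x
      exact Nat.add_sub_cancel' (hle x)
    obtain ⟨a, ha⟩ := isConj_iff.1 (isConj_of_charpoly C hrF ((Fact.out : r.Prime).odd_of_ne_two hr2) ⟨gN, hgN⟩ g
      (Subtype.ext (Units.pow_ofPowEqOne hNr (Fact.out : r.Prime).ne_zero)) hg
      (Polynomial.map_injective _ (algebraMap F L).injective (hgp.trans hf.symm)))
    refine ⟨(Matrix.mulVecLin (a : GL ι F).val).comp (inE ψ), fun v => ?_, fun v => ⟨(g₁ : GL κ F).val *ᵥ v, ?_⟩⟩
    · rw [LinearMap.comp_apply, Matrix.mulVecLin_apply, mem_iso.1 a.2, S.Q_inE C']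
    · rw [LinearMap.comp_apply, LinearMap.comp_apply, Matrix.mulVecLin_apply, Matrix.mulVecLin_apply, ← ha,
        Subgroup.coe_mul, Subgroup.coe_mul, mul_act, mul_act, Subgroup.coe_inv, inv_act]
      congr 1
      refine ψ.injective ?_
      show ψ (N *ᵥ inE ψ v) = _
      rw [hN, psi_inE, psi_inE]
      simp [M, Matrix.fromBlocks_mulVec]

/-- All isometries of order dividing `r` fix such subspaces iff every multiplicity function splits. -/
theorem all_fixesR_iff (C : Space Q B) (CR : Space R D) (C' : Space R' D') (S : IsSum Q R R' ψ)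
    (hζ : IsPrimitiveRoot ζ r) (hrL : (r : L) ≠ 0) (hrF : (r : F) ≠ 0) (hr2 : r ≠ 2) {uq : (ZMod r)ˣ}
    (huq : (uq : ZMod r) = (Fintype.card F : ZMod r)) (w : (ZMod r)ˣ)
    (hw : (w : ZMod r) = (uq : ZMod r) ∨ (w : ZMod r) = -(uq : ZMod r)) {n m n' : ℕ}
    (hn : Fintype.card ι = n) (hm : Fintype.card κ = m) (hn' : n' + m = n) (Ok Ok₁ Ok₂ : (ZMod r → ℕ) → Prop)
    (hreal : ∀ f, Inv w n f → (Ok f ↔ ∃ g : ↥(Cfsg.isometryGroup F Q), g ^ r = 1 ∧
      ((g : GL ι F) : Matrix ι ι F).charpoly.map (algebraMap F L) = Pm ζ f))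
    (hreal₁ : ∀ f, Inv w m f → (Ok₁ f ↔ ∃ g : ↥(Cfsg.isometryGroup F R), g ^ r = 1 ∧
      ((g : GL κ F) : Matrix κ κ F).charpoly.map (algebraMap F L) = Pm ζ f))
    (hreal₂ : ∀ f, Inv w n' f → (Ok₂ f ↔ ∃ g : ↥(Cfsg.isometryGroup F R'), g ^ r = 1 ∧
      ((g : GL κ' F) : Matrix κ' κ' F).charpoly.map (algebraMap F L) = Pm ζ f)) :
    (∀ g : ↥(Cfsg.isometryGroup F Q), g ^ r = 1 → FixesR Q R ((g : GL ι F) : Matrix ι ι F)) ↔
      ∀ f, Inv w n f → Ok f → ∃ μ : ZMod r → ℕ, Inv w m μ ∧ (∀ x, μ x ≤ f x) ∧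
        Ok₁ μ ∧ Ok₂ fun x => f x - μ x := by
  subst hn hm
  have hinv : ∀ (f μ : ZMod r → ℕ), Inv w (Fintype.card ι) f → Inv w (Fintype.card κ) μ → (∀ x, μ x ≤ f x) →
      Inv w n' fun x => f x - μ x := fun f μ hf hμ hle => by
    refine ⟨?_, fun x => ?_⟩
    · rw [Finset.sum_tsub_distrib _ fun x _ => hle x, hf.1, hμ.1]
      omega
    · show f _ - μ _ = f x - μ x
      rw [hf.2, hμ.2]
  constructor
  · intro hall f hf hok
    obtain ⟨g, hg, hgp⟩ := (hreal f hf).1 hok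
    obtain ⟨μ, hμ, hle, h1, h2⟩ := (fixesR_iff C CR C' S hζ hrL hrF hr2 huq w hw g hg hgp).1 (hall g hg)
    exact ⟨μ, hμ, hle, (hreal₁ _ hμ).2 h1, (hreal₂ _ (hinv f μ hf hμ hle)).2 h2⟩
  · intro hall g hg
    obtain ⟨f, hgp, hf⟩ := exists_mult_orth C hζ hrL huq w hw g hg
    obtain ⟨μ, hμ, hle, hok₁, hok₂⟩ := hall f hf ((hreal f hf).2 ⟨g, hg, hgp⟩)
    exact (fixesR_iff C CR C' S hζ hrL hrF hr2 huq w hw g hg hgp).2
      ⟨μ, hμ, hle, (hreal₁ _ hμ).1 hok₁, (hreal₂ _ (hinv f μ hf hμ hle)).1 hok₂⟩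

/-- Elements of order exactly `r`. -/
theorem order_iff [Fintype F] (C : Space Q B) (hn : 2 ≤ Fintype.card ι)
    (h : Fintype.card F ≠ 2 ∨ Fintype.card ι ≠ 4) (hr2 : r ≠ 2) (P : Matrix ι ι F → Prop) (h1 : P 1) :
    (∀ x : GL ι F, x ∈ Cfsg.Geo.omegaGL Q → orderOf x = r → P (x : Matrix ι ι F)) ↔
    ∀ g : ↥(Cfsg.isometryGroup F Q), g ^ r = 1 → P ((g : GL ι F) : Matrix ι ι F) := by
  have hr : r.Prime := Fact.out
  constructor
  · intro hall g hg
    by_cases hg1 : (g : GL ι F) = 1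
    · rw [hg1, Units.val_one]; exact h1
    · exact hall g (mem_omegaGL_of_odd C hn h (hr.odd_of_ne_two hr2) g hg)
        (orderOf_eq_prime (by rw [← SubmonoidClass.coe_pow, hg]; rfl) hg1)
  · intro hall x hx hord
    have hxI : x ∈ Cfsg.isometryGroup F Q := by
      obtain ⟨y, -, rfl⟩ := hx
      exact y.2
    exact hall ⟨x, hxI⟩ (Subtype.ext (by rw [SubmonoidClass.coe_pow, ← hord]; exact pow_orderOf_eq_one x))

end Cfsg.Lib.Linear.NondegFix
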