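import Cfsg.Agent.Lib.Linear.IsotropicFix.Comb

/-!
# Arithmetic of multiplicity functions for non-degenerate subspaces, even dimension
-/

set_option autoImplicit false

namespace Cfsg.Lib.Linear.NondegFix

open Cfsg.Agent.Lib.Linear.PrimeClasses Cfsg.Agent.S5961 Cfsg.Lib.Linear.IsoFix

variable {r : ℕ} [Fact r.Prime]

/-- What has to hold for the numbers of moved orbits. -/
def NCond (n c m : ℕ) (P P₁ P₂ : ℕ → Prop) : Prop :=
  ∀ K, c * K ≤ n → (c * K < n ∨ P K) →
    ∃ J, J ≤ K ∧ c * J ≤ m ∧ m - c * J ≤ n - c * K ∧ (c * J < m ∨ P₁ J) ∧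
      (m - c * J < n - c * K ∨ P₂ (K - J))

/-- From multiplicity functions to numbers. -/
theorem comb_nondeg {w : (ZMod r)ˣ} {c n m : ℕ} (hwc : orderOf w = c) (hmn : m ≤ n) (P P₁ P₂ : ℕ → Prop) :
    (∀ f : ZMod r → ℕ, Inv w n f → (f 0 ≠ 0 ∨ P (n / c)) → ∃ μ : ZMod r → ℕ, Inv w m μ ∧ (∀ x, μ x ≤ f x) ∧
      (μ 0 ≠ 0 ∨ P₁ (m / c)) ∧ (f 0 - μ 0 ≠ 0 ∨ P₂ ((n - m) / c))) ↔ NCond n c m P P₁ P₂ := by
  classical
  have hc0 : 0 < c := hwc ▸ orderOf_pos w
  constructor
  · intro hall K hK hok
    obtain ⟨μ, hμ, hle, hT₁, hT₂⟩ := hall (fun x => (if x = 0 then n - c * K else 0) +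
        K * (if x ∈ orbit w 1 then 1 else 0))
      ⟨by rw [Finset.sum_add_distrib, Finset.sum_ite_eq', if_pos (Finset.mem_univ _), ← Finset.mul_sum,
            sum_orbit_one, hwc, mul_comm K, Nat.sub_add_cancel hK],
        fun x => congrArg₂ (· + ·) (if_congr (by simp) rfl rfl)
          (congrArg (K * ·) (if_congr (orbit_indicator w 1 x) rfl rfl))⟩
      (by
        rw [if_pos rfl, if_neg (zero_notMem_orbit w), mul_zero, add_zero]
        rcases Nat.lt_or_ge (c * K) n with h | h
        · exact Or.inl (by omega)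
        · refine Or.inr ?_
          rw [show n = c * K by omega, Nat.mul_div_cancel_left K hc0]
          exact hok.resolve_left (by omega))
    have h0 := hle 0
    rw [if_pos rfl, if_neg (zero_notMem_orbit w), mul_zero, add_zero] at h0
    rw [if_pos rfl, if_neg (zero_notMem_orbit w), mul_zero, add_zero] at hT₂
    obtain ⟨J, hJ⟩ := dvd_sum_erase w hwc _ _ hμ
    have hμ0 : μ 0 ≤ m :=
      hμ.1 ▸ Finset.single_le_sum (f := μ) (fun y _ => Nat.zero_le _) (Finset.mem_univ (0 : ZMod r))
    have hJK : c * J ≤ c * K := by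
      have h1 : ∑ x ∈ Finset.univ.erase (0 : ZMod r), μ x ≤
          ∑ x ∈ Finset.univ.erase (0 : ZMod r), K * (if x ∈ orbit w 1 then 1 else 0) :=
        Finset.sum_le_sum fun x hx => by
          have := hle x
          rwa [if_neg (Finset.ne_of_mem_erase hx), zero_add] at this
      have h3 := sum_split μ
      rw [hμ.1] at h3
      have h4 : ∑ x ∈ Finset.univ.erase (0 : ZMod r), K * (if x ∈ orbit w 1 then 1 else 0) ≤ c * K := by
        refine (Finset.sum_le_sum_of_subset (Finset.erase_subset _ _)).trans ?_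
        rw [← Finset.mul_sum, sum_orbit_one, hwc, mul_comm]
      omega
    refine ⟨J, Nat.le_of_mul_le_mul_left hJK hc0, by omega, by omega, ?_, ?_⟩
    · rcases hT₁ with h | h
      · exact Or.inl (by omega)
      · rcases Nat.lt_or_ge (c * J) m with h' | h'
        · exact Or.inl h'
        · refine Or.inr ?_
          rwa [show m = c * J by omega, Nat.mul_div_cancel_left J hc0] at h
    · rcases Nat.lt_or_ge (m - c * J) (n - c * K) with h' | h'
      · exact Or.inl h'
      · refine Or.inr ?_
        have h := hT₂.resolve_left (by omega)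
        rwa [show n - m = c * (K - J) by rw [Nat.mul_sub]; omega, Nat.mul_div_cancel_left _ hc0] at h
  · intro hcond f hf hok
    set K := (n - f 0) / c with hK
    have hKe : c * K = n - f 0 := Nat.mul_div_cancel' (dvd_sum_erase w hwc _ _ hf)
    have hf0 : f 0 ≤ n :=
      hf.1 ▸ Finset.single_le_sum (f := f) (fun y _ => Nat.zero_le _) (Finset.mem_univ (0 : ZMod r))
    obtain ⟨J, hJK, hJm, hle, h₁, h₂⟩ := hcond K (by omega) (by
      rcases hok with h | h
      · exact Or.inl (by omega)
      · by_cases h0 : f 0 = 0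
        · refine Or.inr ?_
          rwa [hK, h0, Nat.sub_zero]
        · exact Or.inl (by omega))
    have hmul := Nat.mul_le_mul_left c hJK
    obtain ⟨g, hg, hg0, hgi⟩ := exists_sub_orbits w hwc J _ f hf (by rw [mul_comm J]; omega)
    refine ⟨g + Pi.single (0 : ZMod r) (m - c * J), ⟨?_, fun x => ?_⟩, fun x => ?_, ?_, ?_⟩
    · simp only [Pi.add_apply, Finset.sum_add_distrib, Finset.sum_pi_single', Finset.mem_univ, if_true]
      rw [hgi.1, mul_comm J]
      omega
    · simp only [Pi.add_apply]
      rw [hgi.2, Pi.single_apply, Pi.single_apply, if_congr (mul_eq_zero.trans (or_iff_right w.ne_zero)) rfl rfl]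
    · rw [Pi.add_apply, Pi.single_apply]
      by_cases hx : x = 0
      · subst hx
        rw [hg0, if_pos rfl, zero_add]
        omega
      · rw [if_neg hx, add_zero]; exact hg x
    · rw [Pi.add_apply, hg0, Pi.single_eq_same, zero_add]
      rcases h₁ with h | h
      · exact Or.inl (by omega)
      · by_cases hz : m - c * J = 0
        · refine Or.inr ?_
          rwa [show m = c * J by omega, Nat.mul_div_cancel_left J hc0]
        · exact Or.inl hz
    · rw [Pi.add_apply, hg0, Pi.single_eq_same, zero_add]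
      rcases h₂ with h | h
      · exact Or.inl (by omega)
      · by_cases hz : f 0 - (m - c * J) = 0
        · refine Or.inr ?_
          rwa [show n - m = c * (K - J) by rw [Nat.mul_sub]; omega, Nat.mul_div_cancel_left _ hc0]
        · exact Or.inl hz

/-- The condition in terms of `n mod c` and `m mod c`. -/
theorem ncond_iff {n c m : ℕ} (hc : 0 < c) (hm0 : 0 < m) (hmn : m < n) (P P₁ P₂ : ℕ → Prop)
    (hflip : ¬ P (n / c) → P₁ (m / c) ∨ P₂ (n / c - m / c))
    (hsum : P (n / c) → P₁ (m / c) → P₂ (n / c - m / c)) :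
    NCond n c m P P₁ P₂ ↔
      ((0 < n % c ∧ m % c ≤ n % c ∧ (0 < m % c ∨ P₁ (m / c)) ∧ (m % c < n % c ∨ P₂ (n / c - m / c))) ∨
        (n % c = 0 ∧ (¬ P (n / c) ∨ (m % c = 0 ∧ P₁ (m / c))))) := by
  have hn := Nat.div_add_mod n c
  have hm := Nat.div_add_mod m c
  have hklt : n % c < c := Nat.mod_lt _ hc
  have hllt : m % c < c := Nat.mod_lt _ hc
  constructor
  · intro hcond
    rcases Nat.eq_zero_or_pos (n % c) with hk | hk
    · refine Or.inr ⟨hk, ?_⟩
      by_cases hP : P (n / c)
      · obtain ⟨J, -, hJm, hle, h₁, -⟩ := hcond (n / c) (Nat.mul_div_le _ _) (Or.inr hP)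
        have hJ : m / c = J := Nat.div_eq_of_lt_le (by rw [mul_comm]; omega) (by rw [Nat.succ_mul, mul_comm J]; omega)
        subst hJ
        exact Or.inr ⟨by omega, h₁.resolve_left (by omega)⟩
      · exact Or.inl hP
    · refine Or.inl ⟨hk, ?_⟩
      obtain ⟨J, -, hJm, hle, h₁, h₂⟩ := hcond (n / c) (Nat.mul_div_le _ _) (Or.inl (by omega))
      have hJ : m / c = J := Nat.div_eq_of_lt_le (by rw [mul_comm]; omega) (by rw [Nat.succ_mul, mul_comm J]; omega)
      subst hJ
      refine ⟨by omega, h₁.imp_left (fun h => by omega), h₂.imp_left (fun h => by omega)⟩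
  · intro h K hK hok
    have hKn : K ≤ n / c := (Nat.le_div_iff_mul_le hc).2 (by rw [mul_comm]; exact hK)
    have hcK := Nat.mul_le_mul_left c hKn
    rcases Nat.lt_or_ge K (m / c) with hlt | hge
    · -- few orbits
      have h1 := Nat.mul_le_mul_left c (Nat.succ_le_of_lt hlt)
      rw [Nat.mul_succ] at h1
      exact ⟨K, le_rfl, by omega, by omega, Or.inl (by omega), Or.inl (by omega)⟩
    have h1 := Nat.mul_le_mul_left c hge
    rcases h with ⟨hk, hlk, h₁, h₂⟩ | ⟨hk, h⟩
    · refine ⟨m / c, hge, by omega, by omega, h₁.imp_left (fun h => by omega), ?_⟩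
      rcases hKn.lt_or_eq with hlt | rfl
      · have h3 := Nat.mul_le_mul_left c (Nat.succ_le_of_lt hlt)
        rw [Nat.mul_succ] at h3
        exact Or.inl (by omega)
      · exact h₂.imp_left (fun h => by omega)
    · rcases hKn.lt_or_eq with hlt | rfl
      · have h3 := Nat.mul_le_mul_left c (Nat.succ_le_of_lt hlt)
        rw [Nat.mul_succ] at h3
        rcases Nat.eq_zero_or_pos (m % c) with hl | hl
        · by_cases h₁ : P₁ (m / c)
          · exact ⟨m / c, hge, by omega, by omega, Or.inr h₁, Or.inl (by omega)⟩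
          · -- take one orbit fewer
            obtain ⟨j, hj⟩ : ∃ j, m / c = j + 1 := by
              refine ⟨m / c - 1, ?_⟩
              have : m / c ≠ 0 := fun h0 => by
                rw [h0, mul_zero] at hm
                omega
              exact (Nat.sub_add_cancel (Nat.one_le_iff_ne_zero.2 this)).symm
            have e1 : c * (m / c) = c * j + c := by rw [hj, Nat.mul_succ]
            refine ⟨j, by omega, by omega, by omega, Or.inl (by omega), ?_⟩
            rcases Nat.lt_or_ge (c * K + c) n with h4 | h4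
            · exact Or.inl (by omega)
            · refine Or.inr ?_
              have hP := h.resolve_right (fun h => h₁ h.2)
              have h5 : c * (n / c) < c * (K + 1 + 1) := by rw [Nat.mul_succ, Nat.mul_succ]; omega
              have h6 := Nat.lt_of_mul_lt_mul_left h5
              rw [show K - j = n / c - m / c by omega]
              exact (hflip hP).resolve_left h₁
        · exact ⟨m / c, hge, by omega, by omega, Or.inl (by omega), Or.inl (by omega)⟩
      · have hP : P (n / c) := hok.resolve_left (by omega)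
        obtain ⟨hl, h₁⟩ := h.resolve_left (not_not.2 hP)
        exact ⟨m / c, hge, by omega, by omega, Or.inr h₁, Or.inr (hsum hP h₁)⟩

end Cfsg.Lib.Linear.NondegFix
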