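import Cfsg.Agent.Lib.Linear.NondegFix.Types

/-!
# Counting non-degenerate subspaces: the `r`-part
-/

set_option autoImplicit false

universe u

namespace Cfsg.Lib.Linear.NondegFix

open Module Cfsg.Lib.Linear.Orth
open scoped Matrix

variable {F : Type u} [Field F] [Fintype F] {ι κ κ' : Type} [Fintype ι] [DecidableEq ι] [Fintype κ] [DecidableEq κ]
  [Fintype κ'] [DecidableEq κ'] {Q : (ι → F) → F} {B : LinearMap.BilinForm F (ι → F)} {R : (κ → F) → F}
  {D : LinearMap.BilinForm F (κ → F)} {R' : (κ' → F) → F} {D' : LinearMap.BilinForm F (κ' → F)}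
  {ψ : (ι → F) ≃ₗ[F] (κ ⊕ κ' → F)}

/-- The subspaces isometric to the first summand are not counted by a multiple of `r` if the second summand
carries the full `r`-part. -/
theorem not_dvd_count (C : Space Q B) (CR : Space R D) (C' : Space R' D') (S : IsSum Q R R' ψ) {r X : ℕ}
    (hG : Nat.card ↥(Cfsg.isometryGroup F Q) = Nat.card ↥(Cfsg.isometryGroup F R') * X) (hX : ¬ r ∣ X) :
    ¬ r ∣ Nat.card {W : Submodule F (ι → F) //
      ∃ E : (κ → F) →ₗ[F] (ι → F), (∀ v, Q (E v) = R v) ∧ LinearMap.range E = W} := by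
  classical
  letI : MulAction ↥(Cfsg.isometryGroup F Q) (Submodule F (ι → F)) :=
    { smul := fun g W => img (g : GL ι F) W
      one_smul := fun W => img_one W
      mul_smul := fun g h W => img_mul (g : GL ι F) h W }
  set W₀ := LinearMap.range (inE ψ) with hW₀
  have hsm : ∀ (g : ↥(Cfsg.isometryGroup F Q)), g • W₀ = img (g : GL ι F) W₀ := fun g => rfl
  have hval : ∀ (g : ↥(Cfsg.isometryGroup F Q)) (v : κ → F),
      (g : GL ι F).val *ᵥ inE ψ v ∈ g • W₀ := fun g v => by
    rw [hsm, mem_img, inv_act]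
    exact ⟨v, rfl⟩
  have horb : ∀ W, (∃ E : (κ → F) →ₗ[F] (ι → F), (∀ v, Q (E v) = R v) ∧ LinearMap.range E = W) ↔
      W ∈ MulAction.orbit ↥(Cfsg.isometryGroup F Q) W₀ := by
    intro W
    constructor
    · rintro ⟨E, hE, rfl⟩
      obtain ⟨h, hh⟩ := exists_move C CR (S.Q_inE C') hE
      refine ⟨h, (Submodule.eq_of_le_of_finrank_eq ?_ ?_).symm⟩
      · rintro _ ⟨v, rfl⟩
        rw [← hh]
        exact hval h v
      · show _ = finrank F ↥(img (h : GL ι F) W₀)
        rw [finrank_img, hW₀, finrank_embed C CR hE, finrank_embed C CR (S.Q_inE C')]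
    · rintro ⟨h, rfl⟩
      have hE : ∀ v, Q ((Matrix.mulVecLin (h : GL ι F).val).comp (inE ψ) v) = R v := fun v => by
        rw [LinearMap.comp_apply, Matrix.mulVecLin_apply, mem_iso.1 h.2, S.Q_inE C']
      refine ⟨_, hE, Submodule.eq_of_le_of_finrank_eq ?_ ?_⟩
      · rintro _ ⟨v, rfl⟩
        exact hval h v
      · show _ = finrank F ↥(img (h : GL ι F) W₀)
        rw [finrank_img, hW₀, finrank_embed C CR hE, finrank_embed C CR (S.Q_inE C')]
  rw [Nat.card_congr (Equiv.subtypeEquivRight horb),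
    Nat.card_congr (MulAction.orbitEquivQuotientStabilizer ↥(Cfsg.isometryGroup F Q) W₀)]
  intro hdvd
  set H := MulAction.stabilizer ↥(Cfsg.isometryGroup F Q) W₀ with hH
  -- the isometries of the second summand
  let τ : Matrix (κ ⊕ κ') (κ ⊕ κ') F →* Matrix ι ι F :=
    { toFun := fun M => LinearMap.toMatrix'
        ((ψ.symm : (κ ⊕ κ' → F) →ₗ[F] (ι → F)) ∘ₗ Matrix.toLin' M ∘ₗ (ψ : (ι → F) →ₗ[F] (κ ⊕ κ' → F)))
      map_one' := mat_ext fun v => by rw [LinearMap.toMatrix'_mulVec]; simp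
      map_mul' := fun M N => mat_ext fun v => by
        rw [← Matrix.mulVec_mulVec, LinearMap.toMatrix'_mulVec, LinearMap.toMatrix'_mulVec,
          LinearMap.toMatrix'_mulVec]
        simp [Matrix.mulVec_mulVec] }
  have hτ : ∀ M v, τ M *ᵥ v = ψ.symm (M *ᵥ ψ v) := fun M v => by
    show LinearMap.toMatrix' _ *ᵥ v = _
    rw [LinearMap.toMatrix'_mulVec]
    simp
  let φ : ↥(Cfsg.isometryGroup F R') →* GL ι F :=
    (Units.map τ).comp ((inrGL κ).comp (Cfsg.isometryGroup F R').subtype)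
  have hφ : ∀ a v, (φ a).val *ᵥ v = ψ.symm ((inrGL κ (a : GL κ' F)).val *ᵥ ψ v) := fun a v => hτ _ v
  have hφI : ∀ a, φ a ∈ Cfsg.isometryGroup F Q := fun a => mem_iso.2 fun v => by
    rw [hφ, S, S, LinearEquiv.apply_symm_apply]
    exact mem_iso.1 (inrGL_mem (Q := R) a.2) _
  let φ' := φ.codRestrict _ hφI
  have hinj : Function.Injective φ' := by
    intro a b hab
    have h1 : ∀ v, (φ a).val *ᵥ v = (φ b).val *ᵥ v := fun v => by
      rw [show φ a = φ b from congrArg Subtype.val hab]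
    refine Subtype.ext (gl_ext fun y => ?_)
    have h3 := h1 (ψ.symm (Sum.elim 0 y))
    rw [hφ, hφ, LinearEquiv.apply_symm_apply] at h3
    have h4 := congrArg (fun t => t ∘ Sum.inr) (ψ.symm.injective h3)
    simpa [inrGL_val, Matrix.fromBlocks_mulVec] using h4
  have hle : φ'.range ≤ H := by
    rintro _ ⟨a, rfl⟩
    rw [hH, MulAction.mem_stabilizer_iff]
    refine (Submodule.eq_of_le_of_finrank_eq ?_ ?_).symm
    · rintro _ ⟨v, rfl⟩
      have e1 : ((φ' a : ↥(Cfsg.isometryGroup F Q)) : GL ι F).val *ᵥ inE ψ v = inE ψ v := by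
        show (φ a).val *ᵥ _ = _
        rw [hφ, psi_inE, LinearEquiv.symm_apply_eq, psi_inE]
        simp [inrGL_val, Matrix.fromBlocks_mulVec]
      rw [← e1]
      exact hval _ v
    · show _ = finrank F ↥(img ((φ' a : ↥(Cfsg.isometryGroup F Q)) : GL ι F) W₀)
      rw [finrank_img]
  obtain ⟨y, hy⟩ := Subgroup.card_dvd_of_le hle
  rw [← Nat.card_congr (MonoidHom.ofInjective hinj).toEquiv] at hy
  have h := Subgroup.card_eq_card_quotient_mul_card_subgroup H
  rw [hG, hy, mul_left_comm] at h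
  have hX' := Nat.eq_of_mul_eq_mul_left Nat.card_pos h
  exact hX (hX' ▸ Dvd.dvd.mul_right hdvd y)

end Cfsg.Lib.Linear.NondegFix
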