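import Cfsg.Agent.Lib.Linear.NondegFix.EvenMain

/-!
# Even dimension, even `m`: from the general condition to the tables
-/

set_option autoImplicit false

namespace Cfsg.Lib.Linear.NondegFix

/-- The output of the general criterion. -/
def NRes (n c m : ℕ) (P P₁ P₂ : ℕ → Prop) : Prop :=
  (0 < n % c ∧ m % c ≤ n % c ∧ (0 < m % c ∨ P₁ (m / c)) ∧ (m % c < n % c ∨ P₂ (n / c - m / c))) ∨
    (n % c = 0 ∧ (¬ P (n / c) ∨ (m % c = 0 ∧ P₁ (m / c))))

variable {n m i c : ℕ}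

theorem sum_parity (hi : 0 < i) (h : m % i = n % i) (hmn : m ≤ n) :
    (n + m - 2 * (n % i)) / i = (n / i - m / i) + 2 * (m / i) := by
  have hn := Nat.div_add_mod n i
  have hm := Nat.div_add_mod m i
  have hle : m / i ≤ n / i := Nat.div_le_div_right hmn
  refine Nat.div_eq_of_eq_mul_left hi ?_
  obtain ⟨x, hx⟩ := Nat.exists_eq_add_of_le hle
  rw [hx, Nat.add_sub_cancel_left]
  rw [hx] at hn
  nlinarith [Nat.sub_add_cancel (show 2 * (n % i) ≤ n + m by omega)]

theorem even_sum (hi : 0 < i) (h : m % i = n % i) (hmn : m ≤ n) :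
    Even ((n + m - 2 * (n % i)) / i) ↔ Even (n / i - m / i) := by
  rw [sum_parity hi h hmn, Nat.even_add, iff_true_right (even_two_mul _)]

theorem odd_sum (hi : 0 < i) (h : m % i = n % i) (hmn : m ≤ n) :
    Odd ((n + m - 2 * (n % i)) / i) ↔ Odd (n / i - m / i) := by
  rw [← Nat.not_even_iff_odd, ← Nat.not_even_iff_odd, even_sum hi h hmn]

/-- Plus type, plus type subspaces. -/
theorem arith_pp (hc : c = if Even i then i else 2 * i) (hi : 0 < i) (hm0 : 0 < m) (hmn : m ≤ n)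
    (hcle : 0 < n % c → m % c ≤ n % c → (m % c < n % c ∨ TPlus i (n / c - m / c)) → c ≤ m) :
    NRes n c m (TPlus i) (TPlus i) (TPlus i) ↔
      ((Odd i ∧ c ≤ m ∧ m % c ≤ n % c) ∨
       (Even i ∧
         ((n % c = 0 ∧ (Odd (n / i) ∨ (m % c = 0 ∧ Even (m / i)))) ∨
          (i ≤ m ∧ ((m % c < n % c ∧ 0 < m % c) ∨
                    (n % c = m % c ∧ 0 < m % c ∧ Even ((n + m - 2 * (n % c)) / i)) ∨
                    (0 < n % c ∧ m % c = 0 ∧ Even (m / i))))))) := by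
  rcases Nat.even_or_odd i with he | ho
  · have hci : c = i := by rw [hc, if_pos he]
    subst hci
    have hP : ∀ K, TPlus c K ↔ Even K := fun K => or_iff_right (Nat.not_odd_iff_even.2 he)
    simp only [NRes, hP, Nat.not_even_iff_odd]
    constructor
    · rintro (⟨hk, hl, h1, h2⟩ | h)
      · refine Or.inr ⟨he, Or.inr ⟨hcle hk hl (h2.imp id (hP _).2), ?_⟩⟩
        rcases hl.lt_or_eq with hlt | heq
        · rcases h1 with h | h
          · exact Or.inl ⟨hlt, h⟩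
          · rcases Nat.eq_zero_or_pos (m % c) with h0 | h0
            · exact Or.inr (Or.inr ⟨hk, h0, h⟩)
            · exact Or.inl ⟨hlt, h0⟩
        · exact Or.inr (Or.inl ⟨heq.symm, by omega, (even_sum hi heq hmn).2 (h2.resolve_left (by omega))⟩)
      · exact Or.inr ⟨he, Or.inl h⟩
    · rintro (⟨ho, -⟩ | ⟨-, h | ⟨-, ⟨hlt, h0⟩ | ⟨heq, h0, hev⟩ | ⟨hk, h0, hev⟩⟩⟩)
      · exact absurd ho (Nat.not_odd_iff_even.2 he)
      · exact Or.inr h
      · exact Or.inl ⟨by omega, hlt.le, Or.inl h0, Or.inl hlt⟩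
      · exact Or.inl ⟨by omega, heq.ge, Or.inl h0, Or.inr ((even_sum hi heq.symm hmn).1 hev)⟩
      · exact Or.inl ⟨hk, by omega, Or.inr hev, Or.inl (by omega)⟩
  · have hP : ∀ K, TPlus i K := fun K => Or.inl ho
    simp only [NRes, hP, or_true, and_true, not_true_eq_false, false_or]
    constructor
    · rintro (⟨hk, hl⟩ | ⟨hk, hl⟩)
      · exact Or.inl ⟨ho, hcle hk hl (Or.inr (hP _)), hl⟩
      · exact Or.inl ⟨ho, Nat.le_of_dvd hm0 (Nat.dvd_of_mod_eq_zero hl), by omega⟩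
    · rintro (⟨-, -, hl⟩ | ⟨he, -⟩)
      · rcases Nat.eq_zero_or_pos (n % c) with h0 | h0
        · exact Or.inr ⟨h0, by omega⟩
        · exact Or.inl ⟨h0, hl⟩
      · exact absurd he (Nat.not_even_iff_odd.2 ho)

/-- Plus type, minus type subspaces. -/
theorem arith_pm (hc : c = if Even i then i else 2 * i) (hi : 0 < i) (hmn : m ≤ n)
    (hcle : 0 < n % c → m % c ≤ n % c → (m % c < n % c ∨ TMinus i (n / c - m / c)) → c ≤ m) :
    NRes n c m (TPlus i) (TMinus i) (TMinus i) ↔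
      ((Odd i ∧ c ≤ m ∧ 0 < m % c ∧ m % c < n % c) ∨
       (Even i ∧
         ((n % c = 0 ∧ (Odd (n / i) ∨ (m % c = 0 ∧ Odd (m / i)))) ∨
          (i ≤ m ∧ ((0 < m % c ∧ m % c < n % c) ∨
                    (0 < m % c ∧ m % c = n % c ∧ Odd ((n + m - 2 * (n % c)) / i)) ∨
                    (m % c = 0 ∧ 0 < n % c ∧ Odd (m / i))))))) := by
  rcases Nat.even_or_odd i with he | ho
  · have hci : c = i := by rw [hc, if_pos he]
    subst hci
    have hP : ∀ K, TPlus c K ↔ Even K := fun K => or_iff_right (Nat.not_odd_iff_even.2 he)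
    have hM : ∀ K, TMinus c K ↔ Odd K := fun K => and_iff_right he
    simp only [NRes, hP, hM, Nat.not_even_iff_odd]
    constructor
    · rintro (⟨hk, hl, h1, h2⟩ | h)
      · refine Or.inr ⟨he, Or.inr ⟨hcle hk hl (h2.imp id (hM _).2), ?_⟩⟩
        rcases hl.lt_or_eq with hlt | heq
        · rcases Nat.eq_zero_or_pos (m % c) with h0 | h0
          · exact Or.inr (Or.inr ⟨h0, hk, h1.resolve_left (by omega)⟩)
          · exact Or.inl ⟨h0, hlt⟩
        · exact Or.inr (Or.inl ⟨by omega, heq, (odd_sum hi heq hmn).2 (h2.resolve_left (by omega))⟩)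
      · exact Or.inr ⟨he, Or.inl h⟩
    · rintro (⟨ho, -⟩ | ⟨-, h | ⟨-, ⟨h0, hlt⟩ | ⟨h0, heq, hev⟩ | ⟨h0, hk, hev⟩⟩⟩)
      · exact absurd ho (Nat.not_odd_iff_even.2 he)
      · exact Or.inr h
      · exact Or.inl ⟨by omega, hlt.le, Or.inl h0, Or.inl hlt⟩
      · exact Or.inl ⟨by omega, heq.le, Or.inl h0, Or.inr ((odd_sum hi heq hmn).1 hev)⟩
      · exact Or.inl ⟨hk, by omega, Or.inr hev, Or.inl (by omega)⟩
  · have hP : ∀ K, TPlus i K := fun K => Or.inl ho
    have hM : ∀ K, ¬ TMinus i K := fun K h => Nat.not_even_iff_odd.2 ho h.1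
    simp only [NRes, hP, hM, or_false, and_false, not_true_eq_false, false_or]
    constructor
    · rintro ⟨hk, hl, h0, hlt⟩
      exact Or.inl ⟨ho, hcle hk hl (Or.inl hlt), h0, hlt⟩
    · rintro (⟨-, -, h0, hlt⟩ | ⟨he, -⟩)
      · exact ⟨by omega, hlt.le, h0, hlt⟩
      · exact absurd he (Nat.not_even_iff_odd.2 ho)

/-- Minus type, minus type subspaces. -/
theorem arith_mm (hc : c = if Even i then i else 2 * i) (hi : 0 < i) (hmn : m ≤ n)
    (hcle : 0 < n % c → m % c ≤ n % c → (m % c < n % c ∨ TPlus i (n / c - m / c)) → c ≤ m) :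
    NRes n c m (TMinus i) (TMinus i) (TPlus i) ↔
      ((Odd i ∧ (n % c = 0 ∨ (c ≤ m ∧ 0 < m % c ∧ m % c ≤ n % c))) ∨
       (Even i ∧
         ((n % c = 0 ∧ (Even (n / i) ∨ (m % c = 0 ∧ Odd (m / i)))) ∨
          (0 < n % c ∧ i ≤ m ∧ ((0 < m % c ∧ m % c < n % c) ∨ (m % c = 0 ∧ Odd (m / i)) ∨
                                (m % c = n % c ∧ Even ((n + m - 2 * (n % c)) / i))))))) := by
  rcases Nat.even_or_odd i with he | ho
  · have hci : c = i := by rw [hc, if_pos he]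
    subst hci
    have hP : ∀ K, TPlus c K ↔ Even K := fun K => or_iff_right (Nat.not_odd_iff_even.2 he)
    have hM : ∀ K, TMinus c K ↔ Odd K := fun K => and_iff_right he
    simp only [NRes, hP, hM, Nat.not_odd_iff_even]
    constructor
    · rintro (⟨hk, hl, h1, h2⟩ | h)
      · refine Or.inr ⟨he, Or.inr ⟨hk, hcle hk hl (h2.imp id (hP _).2), ?_⟩⟩
        rcases hl.lt_or_eq with hlt | heq
        · rcases Nat.eq_zero_or_pos (m % c) with h0 | h0
          · exact Or.inr (Or.inl ⟨h0, h1.resolve_left (by omega)⟩)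
          · exact Or.inl ⟨h0, hlt⟩
        · exact Or.inr (Or.inr ⟨heq, (even_sum hi heq hmn).2 (h2.resolve_left (by omega))⟩)
      · exact Or.inr ⟨he, Or.inl h⟩
    · rintro (⟨ho, -⟩ | ⟨-, h | ⟨hk, -, ⟨h0, hlt⟩ | ⟨h0, hev⟩ | ⟨heq, hev⟩⟩⟩)
      · exact absurd ho (Nat.not_odd_iff_even.2 he)
      · exact Or.inr h
      · exact Or.inl ⟨hk, hlt.le, Or.inl h0, Or.inl hlt⟩
      · exact Or.inl ⟨hk, by omega, Or.inr hev, Or.inl (by omega)⟩
      · exact Or.inl ⟨hk, heq.le, Or.inl (by omega), Or.inr ((even_sum hi heq hmn).1 hev)⟩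
  · have hP : ∀ K, TPlus i K := fun K => Or.inl ho
    have hM : ∀ K, ¬ TMinus i K := fun K h => Nat.not_even_iff_odd.2 ho h.1
    simp only [NRes, hP, hM, or_false, or_true, and_true, not_false_eq_true, true_or]
    constructor
    · rintro (⟨hk, hl, h0⟩ | hk)
      · exact Or.inl ⟨ho, Or.inr ⟨hcle hk hl (Or.inr (hP _)), h0, hl⟩⟩
      · exact Or.inl ⟨ho, Or.inl hk⟩
    · rintro (⟨-, hk | ⟨-, h0, hl⟩⟩ | ⟨he, -⟩)
      · exact Or.inr hk
      · exact Or.inl ⟨by omega, hl, h0⟩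
      · exact absurd he (Nat.not_even_iff_odd.2 ho)

end Cfsg.Lib.Linear.NondegFix
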