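import Cfsg.Agent.Lib.Linear.NondegFix.Types

/-!
# Orthogonal sums from embeddings, and the type of a sum
-/

set_option autoImplicit false

universe u

namespace Cfsg.Lib.Linear.NondegFix

open Module Cfsg.Lib.Linear.Orth Cfsg.Lib.Linear.IsoFix Cfsg.Agent.Lib.Linear.PrimeClasses
open scoped Matrix

variable {F : Type u} [Field F] {ι κ κ' : Type} [Fintype ι] [DecidableEq ι] [Fintype κ] [DecidableEq κ]
  [Fintype κ'] [DecidableEq κ'] {Q : (ι → F) → F} {B : LinearMap.BilinForm F (ι → F)} {R : (κ → F) → F}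
  {D : LinearMap.BilinForm F (κ → F)} {R' : (κ' → F) → F} {D' : LinearMap.BilinForm F (κ' → F)}

/-- Two orthogonal embeddings filling the space give a decomposition. -/
theorem exists_isSum (C : Space Q B) (CR : Space R D) (C' : Space R' D') {E : (κ → F) →ₗ[F] (ι → F)}
    {E' : (κ' → F) →ₗ[F] (ι → F)} (hE : ∀ v, Q (E v) = R v) (hE' : ∀ v, Q (E' v) = R' v)
    (horth : ∀ u v, B (E u) (E' v) = 0) (hdim : Fintype.card κ + Fintype.card κ' = Fintype.card ι) :
    ∃ ψ : (ι → F) ≃ₗ[F] (κ ⊕ κ' → F), IsSum Q R R' ψ ∧ ∀ u, inE ψ u = E u := by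
  let T : (κ ⊕ κ' → F) →ₗ[F] (ι → F) :=
    { toFun := fun v => E (v ∘ Sum.inl) + E' (v ∘ Sum.inr)
      map_add' := fun a b => by
        rw [show (a + b) ∘ Sum.inl = a ∘ Sum.inl + b ∘ Sum.inl from rfl,
          show (a + b) ∘ Sum.inr = a ∘ Sum.inr + b ∘ Sum.inr from rfl, map_add, map_add]
        abel
      map_smul' := fun c a => by
        rw [show (c • a) ∘ Sum.inl = c • (a ∘ Sum.inl) from rfl,
          show (c • a) ∘ Sum.inr = c • (a ∘ Sum.inr) from rfl, map_smul, map_smul, RingHom.id_apply, smul_add] }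
  have hT : ∀ v, Q (T v) = sumQ R R' v := fun v => by
    show Q (E _ + E' _) = _
    rw [C.add, horth, add_zero, hE, hE']
    rfl
  let e := LinearMap.linearEquivOfInjective T (embed_injective C (CR.sum C') hT)
    (by simp only [finrank_fintype_fun_eq_card, Fintype.card_sum]; exact hdim)
  refine ⟨e.symm, fun v => ?_, fun u => ?_⟩
  · rw [← hT]
    congr 1
    exact (e.apply_symm_apply v).symm
  · show e (Sum.elim u 0) = E u
    show E _ + E' _ = E u
    simp

/-- The complement of a non-degenerate subspace. -/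
theorem exists_complement (C : Space Q B) (CR : Space R D) {E : (κ → F) →ₗ[F] (ι → F)} (hE : ∀ v, Q (E v) = R v) :
    ∃ U : Submodule F (ι → F), NDeg B U ∧ finrank F U + Fintype.card κ = Fintype.card ι ∧
      ∀ u ∈ U, ∀ v, B (E v) u = 0 := by
  have S := split_of_ndeg C (ndeg_range C CR hE)
  refine ⟨_, S.ndU, ?_, fun u hu v => ?_⟩
  · rw [← finrank_embed C CR hE]
    exact S.finrank_add C
  · rw [C.symm]
    exact S.orth u hu _ ⟨v, rfl⟩

theorem ts_add (C : Space Q B) {U V : Submodule F (ι → F)} (hU : ∀ x ∈ U, Q x = 0) (hV : ∀ x ∈ V, Q x = 0)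
    (horth : ∀ x ∈ U, ∀ y ∈ V, B x y = 0) : ∀ x ∈ U ⊔ V, Q x = 0 := by
  intro x hx
  obtain ⟨a, ha, b, hb, rfl⟩ := Submodule.mem_sup.1 hx
  rw [C.add, hU a ha, hV b hb, horth a ha b hb, add_zero, add_zero]

/-- The image of a totally singular subspace of a summand. -/
theorem exists_ts_image (C : Space Q B) (CR : Space R D) {E : (κ → F) →ₗ[F] (ι → F)} (hE : ∀ v, Q (E v) = R v)
    {A : Submodule F (κ → F)} (hA : ∀ v ∈ A, R v = 0) :
    finrank F (A.map E) = finrank F A ∧ ∀ x ∈ A.map E, Q x = 0 := by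
  refine ⟨(Submodule.equivMapOfInjective E (embed_injective C CR hE) A).finrank_eq.symm, ?_⟩
  rintro _ ⟨v, hv, rfl⟩
  rw [hE, hA v hv]

theorem ts_plus (F : Type u) [Field F] (k : ℕ) :
    ∃ A : Submodule F (Fin k ⊕ Fin k → F), finrank F A = k ∧ ∀ v ∈ A, Cfsg.quadFormPlus k F v = 0 := by
  let J : (Fin k → F) →ₗ[F] (Fin k ⊕ Fin k → F) :=
    { toFun := fun a => Sum.elim a 0
      map_add' := fun a b => by ext (i | i) <;> simp
      map_smul' := fun c a => by ext (i | i) <;> simp }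
  refine ⟨LinearMap.range J, ?_, ?_⟩
  · rw [LinearMap.finrank_range_of_inj (fun a b h => funext fun i => congrFun h (Sum.inl i)),
      Module.finrank_fin_fun]
  · rintro _ ⟨a, rfl⟩
    simp [J, Cfsg.quadFormPlus]

/-- Plus and plus is plus. -/
theorem half_plus_plus (C : Space Q B) {k e : ℕ} {E : (Fin k ⊕ Fin k → F) →ₗ[F] (ι → F)}
    {E' : (Fin e ⊕ Fin e → F) →ₗ[F] (ι → F)} (hE : ∀ v, Q (E v) = Cfsg.quadFormPlus k F v)
    (hE' : ∀ v, Q (E' v) = Cfsg.quadFormPlus e F v) (horth : ∀ u v, B (E u) (E' v) = 0) :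
    ∃ A : Submodule F (ι → F), finrank F A = k + e ∧ ∀ x ∈ A, Q x = 0 := by
  obtain ⟨B₁, C₁⟩ := exists_space_plus (F := F) k
  obtain ⟨B₂, C₂⟩ := exists_space_plus (F := F) e
  obtain ⟨A, hAd, hA⟩ := ts_plus F k
  obtain ⟨A', hA'd, hA'⟩ := ts_plus F e
  obtain ⟨h1, h2⟩ := exists_ts_image C C₁ hE hA
  obtain ⟨h3, h4⟩ := exists_ts_image C C₂ hE' hA'
  have ho : ∀ x ∈ A.map E, ∀ y ∈ A'.map E', B x y = 0 := by
    rintro _ ⟨u, -, rfl⟩ _ ⟨v, -, rfl⟩
    exact horth u v
  refine ⟨A.map E ⊔ A'.map E', ?_, ts_add C h2 h4 ho⟩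
  have h5 := Submodule.finrank_sup_add_finrank_inf_eq (A.map E) (A'.map E')
  have h6 : A.map E ⊓ A'.map E' = ⊥ := eq_bot_iff.2 fun x hx => by
    obtain ⟨⟨u, hu, rfl⟩, ⟨v, hv, hvu⟩⟩ := hx
    refine (Submodule.mem_bot F).2 ?_
    rw [C₁.nondeg u fun w => ?_, map_zero]
    rw [← C₁.polar, QuadraticMap.polar, ← hE, ← hE, ← hE, map_add, ← QuadraticMap.polar, C.polar, ← hvu, horth]
  rw [h6, finrank_bot, add_zero, h1, h3, hAd, hA'd] at h5
  exact h5

/-- Plus and minus is not plus. -/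
theorem no_half_plus_minus [Finite F] (C : Space Q B) {k e : ℕ} {a b : F}
    (hab : ∀ z₁ z₂ : F, z₁ ^ 2 + a * z₁ * z₂ + b * z₂ ^ 2 = 0 → z₁ = 0 ∧ z₂ = 0)
    {E : (Fin k ⊕ Fin k → F) →ₗ[F] (ι → F)} {E' : ((Fin e ⊕ Fin e) ⊕ Fin 2 → F) →ₗ[F] (ι → F)}
    (hE : ∀ v, Q (E v) = Cfsg.quadFormPlus k F v) (hE' : ∀ v, Q (E' v) = Cfsg.quadFormMinus e F a b v)
    (horth : ∀ u v, B (E u) (E' v) = 0) (hdim : Fintype.card ι = 2 * (k + e + 1))
    {A : Submodule F (ι → F)} (hA : ∀ x ∈ A, Q x = 0) : finrank F A ≤ k + e := by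
  obtain ⟨B₁, C₁⟩ := exists_space_plus (F := F) k
  obtain ⟨B₂, C₂⟩ := exists_space_minus e a b hab
  obtain ⟨B₀, C₀⟩ := exists_space_minus (k + e) a b hab
  obtain ⟨ψ, hψ, -⟩ := exists_isSum C C₁ C₂ hE hE' horth (by simp; omega)
  let φ := ψ.trans (LinearEquiv.funCongrLeft F F (minusSplitEquiv k e)).symm
  have hφ : ∀ v, Cfsg.quadFormMinus (k + e) F a b (φ v) = Q v := fun v => by
    rw [hψ, (minusSplit k e a b).eq]
    simp only [φ, LinearEquiv.trans_apply, LinearEquiv.apply_symm_apply]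
    rfl
  have h := Cfsg.Lib.Linear.AutPO.minus_ts_bound hab C₀ (A := A.map (φ : (ι → F) →ₗ[F] _))
    (by rintro _ ⟨v, hv, rfl⟩; exact (hφ v).trans (hA v hv))
  exact le_of_eq_of_le (LinearEquiv.finrank_map_eq φ A).symm h

/-- The negative of an anisotropic plane is equivalent to any anisotropic plane. -/
theorem exists_antiembed [Finite F] {a b c ζ : F}
    (hab : ∀ z₁ z₂ : F, z₁ ^ 2 + a * z₁ * z₂ + b * z₂ ^ 2 = 0 → z₁ = 0 ∧ z₂ = 0)
    (hcζ : ∀ z₁ z₂ : F, z₁ ^ 2 + c * z₁ * z₂ + ζ * z₂ ^ 2 = 0 → z₁ = 0 ∧ z₂ = 0) :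
    ∃ L : ((Fin 0 ⊕ Fin 0) ⊕ Fin 2 → F) →ₗ[F] ((Fin 0 ⊕ Fin 0) ⊕ Fin 2 → F),
      ∀ v, Cfsg.quadFormMinus 0 F c ζ (L v) = -Cfsg.quadFormMinus 0 F a b v := by
  classical
  obtain ⟨B₁, C₁⟩ := exists_space_minus 0 a b hab
  have Cn : Space (scaleQ (-1) (Cfsg.quadFormMinus 0 F a b)) ((-1 : F) • B₁) :=
    scale_space C₁ (neg_ne_zero.2 one_ne_zero)
  rcases classify Cn (k := 1) le_rfl (by simp) with ⟨-, L, hL⟩ | ⟨z, hz, ⟨L, hL⟩, -⟩
  · exfalso
    have h1 := hL (Sum.elim (fun _ => 1) (fun _ => 0))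
    simp only [scaleQ, Cfsg.quadFormPlus, Sum.elim_inl, Sum.elim_inr, mul_zero, Finset.sum_const_zero,
      neg_mul, one_mul, neg_eq_zero] at h1
    simp only [Cfsg.quadFormMinus, Finset.univ_eq_empty, Finset.sum_empty, zero_add] at h1
    obtain ⟨e0, e1⟩ := hab _ _ h1
    obtain ⟨DS, CS⟩ := exists_space_plus (F := F) 1
    have h0 : L (Sum.elim (fun _ => 1) (fun _ => 0)) = L 0 := by
      rw [map_zero]
      funext t
      rcases t with (t | t) | t
      · exact t.elim0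
      · exact t.elim0
      · fin_cases t
        · exact e0
        · exact e1
    simpa using congrFun (embed_injective Cn CS hL h0) (Sum.inl 0)
  · obtain ⟨L', hL'⟩ := embeds_minus_minus (k := 0) le_rfl hcζ hz
    refine ⟨L'.comp L, fun v => ?_⟩
    exact (hL' (L v)).trans ((hL v).trans (by simp [scaleQ]))

/-- Minus and minus is plus. -/
theorem half_minus_minus [Finite F] (C : Space Q B) {k e : ℕ} {a b c ζ : F}
    (hab : ∀ z₁ z₂ : F, z₁ ^ 2 + a * z₁ * z₂ + b * z₂ ^ 2 = 0 → z₁ = 0 ∧ z₂ = 0)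
    (hcζ : ∀ z₁ z₂ : F, z₁ ^ 2 + c * z₁ * z₂ + ζ * z₂ ^ 2 = 0 → z₁ = 0 ∧ z₂ = 0)
    {E : ((Fin k ⊕ Fin k) ⊕ Fin 2 → F) →ₗ[F] (ι → F)} {E' : ((Fin e ⊕ Fin e) ⊕ Fin 2 → F) →ₗ[F] (ι → F)}
    (hE : ∀ v, Q (E v) = Cfsg.quadFormMinus k F a b v) (hE' : ∀ v, Q (E' v) = Cfsg.quadFormMinus e F c ζ v)
    (horth : ∀ u v, B (E u) (E' v) = 0) :
    ∃ A : Submodule F (ι → F), finrank F A = k + 1 + (e + 1) ∧ ∀ x ∈ A, Q x = 0 := by
  classical
  obtain ⟨B₁, C₁⟩ := exists_space_minus k a b hab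
  obtain ⟨B₂, C₂⟩ := exists_space_minus e c ζ hcζ
  obtain ⟨L, hL⟩ := exists_antiembed hab hcζ
  -- a totally singular half parametrised by coordinates
  let Lr : (Fin 2 → F) →ₗ[F] (Fin 2 → F) := LinearMap.funLeft F F Sum.inr ∘ₗ L ∘ₗ
    { toFun := fun s => Sum.elim (Sum.elim 0 0) s
      map_add' := fun u v => by
        funext t
        rcases t with (t | t) | t
        · exact t.elim0
        · exact t.elim0
        · simp
      map_smul' := fun c v => by
        funext t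
        rcases t with (t | t) | t
        · exact t.elim0
        · exact t.elim0
        · simp }
  let P : ((Fin k → F) × (Fin e → F)) × (Fin 2 → F) →ₗ[F] (ι → F) :=
    { toFun := fun p => E (Sum.elim (Sum.elim p.1.1 0) p.2) + E' (Sum.elim (Sum.elim p.1.2 0) (Lr p.2))
      map_add' := fun p q => by
        rw [add_add_add_comm, ← map_add, ← map_add]
        congr 1
        · refine congrArg E (funext fun t => ?_)
          rcases t with (t | t) | t <;> simp
        · refine congrArg E' (funext fun t => ?_)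
          rcases t with (t | t) | t <;> simp [map_add]
      map_smul' := fun r p => by
        rw [RingHom.id_apply, smul_add, ← map_smul, ← map_smul]
        congr 1
        · refine congrArg E (funext fun t => ?_)
          rcases t with (t | t) | t <;> simp
        · refine congrArg E' (funext fun t => ?_)
          rcases t with (t | t) | t <;> simp [map_smul] }
  have hPQ : ∀ p, Q (P p) = 0 := fun p => by
    show Q (E _ + E' _) = 0
    rw [C.add, horth, add_zero, hE, hE']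
    have hLr : ∀ t, Lr p.2 t = L (Sum.elim (Sum.elim 0 0) p.2) (Sum.inr t) := fun t => rfl
    have h := hL (Sum.elim (Sum.elim 0 0) p.2)
    simp only [Cfsg.quadFormMinus, Finset.univ_eq_empty, Finset.sum_empty, zero_add, Sum.elim_inr] at h
    simp only [Cfsg.quadFormMinus, Sum.elim_inl, Sum.elim_inr, Pi.zero_apply, mul_zero, Finset.sum_const_zero,
      zero_add]
    rw [hLr, hLr]
    linear_combination h
  have hPi : Function.Injective P := by
    rw [injective_iff_map_eq_zero]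
    rintro ⟨⟨x, y⟩, s⟩ hp
    set u : (Fin k ⊕ Fin k) ⊕ Fin 2 → F := Sum.elim (Sum.elim x 0) s with hu
    set v : (Fin e ⊕ Fin e) ⊕ Fin 2 → F :=
      Sum.elim (Sum.elim y 0) fun t => L (Sum.elim (Sum.elim 0 0) s) (Sum.inr t) with hv
    have hp' : E u + E' v = 0 := hp
    have h1 : u = 0 := C₁.nondeg _ fun w => by
      rw [← C₁.polar, QuadraticMap.polar, ← hE, ← hE, ← hE, map_add, ← QuadraticMap.polar, C.polar,
        show E u = -E' v from eq_neg_of_add_eq_zero_left hp', map_neg, horth, neg_zero]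
    have h3 : v = 0 := by
      rw [h1, map_zero, zero_add] at hp'
      exact embed_injective C C₂ hE' (hp'.trans (map_zero E').symm)
    refine Prod.ext (Prod.ext (funext fun i => ?_) (funext fun i => ?_)) (funext fun i => ?_)
    · simpa [hu] using congrFun h1 (Sum.inl (Sum.inl i))
    · simpa [hv] using congrFun h3 (Sum.inl (Sum.inl i))
    · simpa [hu] using congrFun h1 (Sum.inr i)
  refine ⟨LinearMap.range P, ?_, ?_⟩
  · rw [LinearMap.finrank_range_of_inj hPi]
    simp only [Module.finrank_prod, Module.finrank_fin_fun]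
    omega
  · rintro _ ⟨p, rfl⟩
    exact hPQ p

/-- A non-degenerate subspace of odd dimension. -/
theorem exists_std_odd [Finite F] (C : Space Q B) (h2 : (2 : F) ≠ 0) {e : ℕ} {W : Submodule F (ι → F)}
    (hW : finrank F W = 2 * e + 1) (hnd : NDeg B W) :
    ∃ z : F, z ≠ 0 ∧ ∃ E : (Unit ⊕ (Fin e ⊕ Fin e) → F) →ₗ[F] (ι → F),
      (∀ v, Q (E v) = scaleQ z (Cfsg.quadFormOdd e F) v) ∧ LinearMap.range E = W := by
  classical
  let qf : QuadraticForm F (ι → F) := QuadraticMap.ofPolar Q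
    (fun t x => by rw [C.smul, smul_eq_mul, sq])
    (fun x x' y => by simp only [C.polar, map_add, LinearMap.add_apply])
    (fun t x y => by simp only [C.polar, map_smul, LinearMap.smul_apply])
  let qW : QuadraticForm F W := qf.comp W.subtype
  have hp : ∀ x y : W, QuadraticMap.polar ⇑qW x y = B (x : ι → F) (y : ι → F) := fun x y => by
    rw [← C.polar]; rfl
  have hqn : (QuadraticMap.polarBilin qW).Nondegenerate := by
    constructor <;> intro x hx
    · exact Subtype.ext (hnd x x.2 fun y hy => by rw [← hp x ⟨y, hy⟩]; exact hx ⟨y, hy⟩)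
    · exact Subtype.ext (hnd x x.2 fun y hy => by rw [C.symm, ← hp ⟨y, hy⟩ x]; exact hx ⟨y, hy⟩)
  obtain ⟨b, h0, h01, hs, hef, hee⟩ := std_basis_odd hW qW hqn
  set z := qW (b (Sum.inl ())) with hz
  let b' := b.unitsSMul (Sum.elim (fun _ => 1) (Sum.elim (fun _ => 1) fun _ => Units.mk0 z h0))
  let L : (Unit ⊕ (Fin e ⊕ Fin e) → F) →ₗ[F] W := b'.equivFun.symm.toLinearMap
  have hLi : ∀ i, L (Pi.single i 1) = b' i := fun i => by
    show b'.equivFun.symm (Pi.single i 1) = b' i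
    rw [LinearEquiv.symm_apply_eq]
    funext j
    simp [Pi.single_apply, Finsupp.single_apply, eq_comm]
  obtain ⟨D', CD⟩ := exists_space (Q := Cfsg.quadFormOdd e F) (isQuad_odd e h2)
  have CL : Space (fun v => qW (L v)) ((QuadraticMap.polarBilin qW).compl₁₂ L L) :=
    ⟨fun t v => by rw [map_smul, QuadraticMap.map_smul, smul_eq_mul, sq],
    fun u v => by
      show qW (L (u + v)) - qW (L u) - qW (L v) = QuadraticMap.polar ⇑qW (L u) (L v)
      rw [QuadraticMap.polar, map_add],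
    fun v hv => b'.equivFun.symm.injective ((hqn.1 _ fun y => by
      obtain ⟨w, rfl⟩ := b'.equivFun.symm.surjective y
      rw [QuadraticMap.polarBilin_apply_apply, QuadraticMap.polar_comm]
      exact hv w).trans (map_zero _).symm)⟩
  have hD : ∀ u v : Unit ⊕ (Fin e ⊕ Fin e) → F, D' u v = 2 * (u (.inl ()) * v (.inl ())) +
      ∑ i, (u (.inr (.inl i)) * v (.inr (.inr i)) + v (.inr (.inl i)) * u (.inr (.inr i))) := fun u v => by
    rw [← CD.polar]
    simp only [QuadraticMap.polar, Cfsg.quadFormOdd, Pi.add_apply, add_mul, mul_add, Finset.sum_add_distrib]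
    ring
  have hb' : ∀ t, b' t = (Sum.elim (fun _ => (1 : F)) (Sum.elim (fun _ => 1) fun _ => z) t) • b t := fun t => by
    rcases t with t | t | t <;> simp [b', Basis.unitsSMul_apply, Units.smul_def]
  have hq : ∀ v, qW (L v) = scaleQ z (Cfsg.quadFormOdd e F) v := form_ext CL (scale_space CD h0)
    (fun t => by
      rw [hLi, hb', QuadraticMap.map_smul]
      rcases t with ⟨⟨⟩⟩ | t | t
      · simp [scaleQ, Cfsg.quadFormOdd, ← hz]
      · simp [scaleQ, Cfsg.quadFormOdd, (hs t).1, Pi.single_apply]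
      · simp [scaleQ, Cfsg.quadFormOdd, (hs t).2, Pi.single_apply])
    (fun t s => by
      rw [LinearMap.smul_apply, LinearMap.smul_apply, hD, smul_eq_mul, LinearMap.compl₁₂_apply, hLi, hLi, hb', hb',
        QuadraticMap.polarBilin_apply_apply, QuadraticMap.polar_smul_left, QuadraticMap.polar_smul_right,
        smul_eq_mul, smul_eq_mul]
      rcases t with ⟨⟨⟩⟩ | t | t <;> rcases s with ⟨⟨⟩⟩ | s | s
      · rw [QuadraticMap.polar_self, ← hz, two_nsmul]; simp; ring
      · rw [(h01 s).1]; simp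
      · rw [(h01 s).2]; simp
      · rw [QuadraticMap.polar_comm, (h01 t).1]; simp
      · rw [(hee t s).1]; simp
      · rw [hef]
        by_cases h : t = s <;> simp [h, Pi.single_apply, eq_comm]
      · rw [QuadraticMap.polar_comm, (h01 t).2]; simp
      · rw [QuadraticMap.polar_comm, hef]
        by_cases h : t = s <;> simp [h, Pi.single_apply, eq_comm]
      · rw [(hee t s).2]; simp)
  refine ⟨z, h0, W.subtype.comp L, hq, Submodule.eq_of_le_of_finrank_eq ?_ ?_⟩
  · rintro _ ⟨v, rfl⟩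
    exact (L v).2
  · rw [finrank_embed C (scale_space CD h0) (E := W.subtype.comp L) hq, hW, card_odd_index]

end Cfsg.Lib.Linear.NondegFix
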