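import Cfsg.Agent.Lib.Linear.NondegFix.CondEven
import Cfsg.Agent.Lib.Linear.NondegFix.Sum
import Cfsg.Agent.Lib.Linear.NondegFix.Count
import Cfsg.Agent.Lib.Linear.IsotropicFix.OrthEven

/-!
# Even dimension: elements of order `r ≠ 2, p` on non-degenerate subspaces
-/

set_option autoImplicit false

universe u

namespace Cfsg.Lib.Linear.NondegFix

open Module Polynomial Cfsg.Agent.Lib.Linear.PrimeClasses Cfsg.Agent.S5961 Cfsg.Lib.Linear.Orth Cfsg.Lib.Linear.IsoFix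
open scoped Matrix

variable {F : Type u} [Field F] [Fintype F] {ι κ κ' : Type} [Fintype ι] [DecidableEq ι] [Fintype κ] [DecidableEq κ]
  [Fintype κ'] [DecidableEq κ'] {Q : (ι → F) → F} {B : LinearMap.BilinForm F (ι → F)} {R : (κ → F) → F}
  {D : LinearMap.BilinForm F (κ → F)} {R' : (κ' → F) → F} {D' : LinearMap.BilinForm F (κ' → F)}
  {ψ : (ι → F) ≃ₗ[F] (κ ⊕ κ' → F)}

section scalar

variable {r : ℕ} [Fact r.Prime]

omit [Fintype F] in
theorem fixesR_scalar (C' : Space R' D') (S : IsSum Q R R' ψ) (z : F) : FixesR Q R (z • (1 : Matrix ι ι F)) :=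
  ⟨inE ψ, S.Q_inE C', fun v => ⟨z • v, by rw [Matrix.smul_mulVec, Matrix.one_mulVec, map_smul]⟩⟩

/-- Elements of prime order modulo scalars against isometries of order dividing `r`. -/
theorem scalar_iff (C : Space Q B) (C' : Space R' D') (S : IsSum Q R R' ψ) (hn : 2 ≤ Fintype.card ι)
    (h : Fintype.card F ≠ 2 ∨ Fintype.card ι ≠ 4) (hr2 : r ≠ 2) :
    (∀ x : GL ι F, x ∈ Cfsg.Geo.omegaGL Q →
      (∃ z : F, ((x ^ r : GL ι F) : Matrix ι ι F) = z • (1 : Matrix ι ι F)) →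
      (∀ z : F, (x : Matrix ι ι F) ≠ z • (1 : Matrix ι ι F)) → FixesR Q R (x : Matrix ι ι F)) ↔
    ∀ g : ↥(Cfsg.isometryGroup F Q), g ^ r = 1 → FixesR Q R ((g : GL ι F) : Matrix ι ι F) := by
  classical
  have hr : r.Prime := Fact.out
  constructor
  · intro hall g hg
    by_cases hsc : ∃ z : F, ((g : GL ι F) : Matrix ι ι F) = z • 1
    · obtain ⟨z, hz⟩ := hsc
      rw [hz]
      exact fixesR_scalar C' S z
    · exact hall g (mem_omegaGL_of_odd C hn h (hr.odd_of_ne_two hr2) g hg)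
        ⟨1, by rw [← SubmonoidClass.coe_pow, hg, one_smul]; rfl⟩ fun z hz => hsc ⟨z, hz⟩
  · intro hall x hx ⟨z, hz⟩ _
    have hxI : x ∈ Cfsg.isometryGroup F Q := by
      obtain ⟨y, -, rfl⟩ := hx
      exact y.2
    obtain ⟨v, hv⟩ := Cfsg.Lib.H3.exists_nonsing_vec C (by omega)
    have hz2 : z * z = 1 := by
      have h1 := mem_iso.1 (pow_mem hxI r) v
      rw [hz, Matrix.smul_mulVec, Matrix.one_mulVec, C.smul] at h1
      exact mul_right_cancel₀ hv (by rw [one_mul, ← pow_two]; exact h1)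
    obtain ⟨k, hk⟩ := hr.odd_of_ne_two hr2
    rw [Units.val_pow_eq_pow_val] at hz
    have hyr : (z • (x : Matrix ι ι F)) ^ r = 1 := by
      rw [_root_.smul_pow, hz, smul_smul, hk, ← pow_succ, show 2 * k + 1 + 1 = 2 * (k + 1) by omega, pow_mul,
        pow_two, hz2, one_pow, one_smul]
    let y : GL ι F := Units.ofPowEqOne _ r hyr hr.ne_zero
    have hy : y ∈ Cfsg.isometryGroup F Q := mem_iso.2 fun v => by
      show Q ((z • (x : Matrix ι ι F)) *ᵥ v) = Q v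
      rw [Matrix.smul_mulVec, C.smul, mem_iso.1 hxI, pow_two, hz2, one_mul]
    obtain ⟨E, h1, h2⟩ := hall ⟨y, hy⟩ (Subtype.ext (Units.pow_ofPowEqOne hyr hr.ne_zero))
    refine ⟨E, h1, fun v => ?_⟩
    obtain ⟨w, hw⟩ := h2 v
    refine ⟨z • w, ?_⟩
    change (z • (x : Matrix ι ι F)) *ᵥ E v = E w at hw
    rw [map_smul, ← hw, Matrix.smul_mulVec, smul_smul, hz2, one_smul]

end scalar

/-- `A` moved orbits fit a plus type space. -/
def TPlus (i K : ℕ) : Prop := Odd i ∨ Even K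

/-- `A` moved orbits fit a minus type space. -/
def TMinus (i K : ℕ) : Prop := Even i ∧ Odd K

/-- Which multiplicities are realised in the isometry group of `Q`. -/
def RealSpec (Q : (ι → F) → F) (r : ℕ) [Fact r.Prime] (i c n : ℕ) (P : ℕ → Prop) : Prop :=
  ∀ ζ : AlgebraicClosure F, IsPrimitiveRoot ζ r → ∀ uq w : (ZMod r)ˣ,
    (uq : ZMod r) = (Fintype.card F : ZMod r) → orderOf uq = i → orderOf w = c → (∃ t : ℕ, uq = w ^ t) →
    (∃ t : ℕ, (-1 : (ZMod r)ˣ) = w ^ t) → ∀ f : ZMod r → ℕ, Inv w n f →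
    ((f 0 ≠ 0 ∨ P (n / c)) ↔ ∃ g : ↥(Cfsg.isometryGroup F Q), g ^ r = 1 ∧
      ((g : GL ι F) : Matrix ι ι F).charpoly.map (algebraMap F (AlgebraicClosure F)) = Pm ζ f)

variable {r : ℕ} [Fact r.Prime] {i c : ℕ}

theorem realSpec_congr {κ : Type} [Fintype κ] [DecidableEq κ] {S T : (κ → F) → F}
    (h : Cfsg.isometryGroup F S = Cfsg.isometryGroup F T) {n : ℕ} {P : ℕ → Prop} (hT : RealSpec T r i c n P) :
    RealSpec S r i c n P := by
  intro ζ hζ uq w huq hiu hwc hwq hwn f hf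
  rw [hT ζ hζ uq w huq hiu hwc hwq hwn f hf]
  exact ⟨fun ⟨g, hg, hgp⟩ => ⟨⟨g.1, by rw [h]; exact g.2⟩, Subtype.ext (congrArg Subtype.val hg :), hgp⟩,
    fun ⟨g, hg, hgp⟩ => ⟨⟨g.1, by rw [← h]; exact g.2⟩, Subtype.ext (congrArg Subtype.val hg :), hgp⟩⟩

theorem tplus_iff (hc : c = if Even i then i else 2 * i) (n : ℕ) : PPlus i n ↔ TPlus i (n / c) := by
  rcases Nat.even_or_odd i with he | ho
  · rw [hc, if_pos he]; rfl
  · exact ⟨fun _ => Or.inl ho, fun _ => Or.inl ho⟩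

theorem tminus_iff (hc : c = if Even i then i else 2 * i) (n : ℕ) : PMinus i n ↔ TMinus i (n / c) := by
  refine and_congr_right fun he => ?_
  rw [hc, if_pos he]

theorem realSpec_plus (hr2 : r ≠ 2) (hc : c = if Even i then i else 2 * i) (e : ℕ) :
    RealSpec (Cfsg.quadFormPlus e F) r i c (2 * e) (TPlus i) := by
  intro ζ hζ uq w huq hiu hwc hwq hwn f hf
  rw [← tplus_iff hc]
  subst hiu
  refine ⟨real_plus hζ hr2 huq w hwq hwn e hf, fun ⟨g, hg, hgp⟩ => ?_⟩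
  by_cases h0 : f 0 = 0
  · exact Or.inr (pplus_of_fpf hζ hr2 huq w hwq e hf h0 g hg hgp)
  · exact Or.inl h0

theorem realSpec_minus (hr2 : r ≠ 2) (hc : c = if Even i then i else 2 * i) (e : ℕ) {a b : F}
    (hab : ∀ z₁ z₂ : F, z₁ ^ 2 + a * z₁ * z₂ + b * z₂ ^ 2 = 0 → z₁ = 0 ∧ z₂ = 0) :
    RealSpec (Cfsg.quadFormMinus e F a b) r i c (2 * e + 2) (TMinus i) := by
  intro ζ hζ uq w huq hiu hwc hwq hwn f hf
  rw [← tminus_iff hc]
  subst hiu
  refine ⟨real_minus hζ hr2 huq w hwq hwn e hab hf, fun ⟨g, hg, hgp⟩ => ?_⟩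
  by_cases h0 : f 0 = 0
  · exact Or.inr (pminus_of_fpf hζ hr2 huq w hwq e hab hf h0 g hg hgp)
  · exact Or.inl h0

theorem realSpec_odd (hr2 : r ≠ 2) (h2 : (2 : F) ≠ 0) (e : ℕ) {z : F} (hz : z ≠ 0) :
    RealSpec (scaleQ z (Cfsg.quadFormOdd e F)) r i c (2 * e + 1) (fun _ => True) := by
  refine realSpec_congr (scale_iso hz) ?_
  intro ζ hζ uq w huq hiu hwc hwq hwn f hf
  exact ⟨fun _ => real_odd hζ hr2 huq w hwq hwn h2 _ hf, fun _ => Or.inr trivial⟩

/-- Fixing subspaces isometric to `R`, arithmetically. -/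
theorem even_iff (p : ℕ) [Fact p.Prime] [CharP F p] (C : Space Q B) (CR : Space R D) (C' : Space R' D')
    (S : IsSum Q R R' ψ) {n m : ℕ} (hn : Fintype.card ι = n) (hm : Fintype.card κ = m) (hm0 : 0 < m) (hmn : m < n)
    (hn4 : 4 < n) (hr2 : r ≠ 2) (hrp : r ≠ p) (hi : i = orderOf (Fintype.card F : ZMod r))
    (hc : c = if Even i then i else 2 * i) (P P₁ P₂ : ℕ → Prop)
    (hQ : RealSpec Q r i c n P) (hR : RealSpec R r i c m P₁) (hR' : RealSpec R' r i c (n - m) P₂)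
    (hflip : ¬ P (n / c) → P₁ (m / c) ∨ P₂ (n / c - m / c))
    (hsum : P (n / c) → P₁ (m / c) → P₂ (n / c - m / c)) :
    (∀ x : GL ι F, x ∈ Cfsg.Geo.omegaGL Q →
      (∃ z : F, ((x ^ r : GL ι F) : Matrix ι ι F) = z • (1 : Matrix ι ι F)) →
      (∀ z : F, (x : Matrix ι ι F) ≠ z • (1 : Matrix ι ι F)) → FixesR Q R (x : Matrix ι ι F)) ↔
      ((0 < n % c ∧ m % c ≤ n % c ∧ (0 < m % c ∨ P₁ (m / c)) ∧ (m % c < n % c ∨ P₂ (n / c - m / c))) ∨
        (n % c = 0 ∧ (¬ P (n / c) ∨ (m % c = 0 ∧ P₁ (m / c))))) := by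
  classical
  have hr : r.Prime := Fact.out
  let L := AlgebraicClosure F
  haveI : CharP L p := charP_of_injective_algebraMap (algebraMap F L).injective p
  have hrL : (r : L) ≠ 0 := fun h =>
    hrp ((Nat.prime_dvd_prime_iff_eq Fact.out hr).mp ((CharP.cast_eq_zero_iff L p r).mp h)).symm
  have hrF : (r : F) ≠ 0 := fun h => hrL (by rw [← map_natCast (algebraMap F L), h, map_zero])
  haveI : NeZero (r : L) := ⟨hrL⟩
  obtain ⟨ζ, hζ⟩ := HasEnoughRootsOfUnity.exists_primitiveRoot L r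
  have hrq : (Fintype.card F : ZMod r) ≠ 0 := fun h => by
    obtain ⟨t, -, ht⟩ := FiniteField.card F p
    rw [ZMod.natCast_eq_zero_iff, ht] at h
    exact hrp ((Nat.prime_dvd_prime_iff_eq hr Fact.out).mp (hr.dvd_of_dvd_pow h))
  let uq : (ZMod r)ˣ := Units.mk0 _ hrq
  have huq : (uq : ZMod r) = (Fintype.card F : ZMod r) := rfl
  have hiu : orderOf uq = i := by rw [hi, ← orderOf_units, huq]
  obtain ⟨w, hw, hwq, hwn, hwo⟩ := exists_gen hr2 uq
  rw [hiu] at hwo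
  have hwc : orderOf w = c := by
    rw [hwo, hc]
    by_cases he : Even i
    · rw [if_pos he, if_neg (Nat.not_odd_iff_even.mpr he)]
    · rw [if_neg he, if_pos (Nat.not_even_iff_odd.mp he)]
  have hcpos : 0 < c := hwc ▸ orderOf_pos w
  rw [scalar_iff C C' S (by omega) (Or.inr (by omega)) hr2,
    all_fixesR_iff C CR C' S hζ hrL hrF hr2 huq w hw (n' := n - m) hn hm (by omega) (fun f => f 0 ≠ 0 ∨ P (n / c))
      (fun f => f 0 ≠ 0 ∨ P₁ (m / c)) (fun f => f 0 ≠ 0 ∨ P₂ ((n - m) / c))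
      (hQ ζ hζ uq w huq hiu hwc hwq hwn) (hR ζ hζ uq w huq hiu hwc hwq hwn) (hR' ζ hζ uq w huq hiu hwc hwq hwn),
    comb_nondeg hwc hmn.le P P₁ P₂]
  exact ncond_iff hcpos hm0 hmn P P₁ P₂ hflip hsum

end Cfsg.Lib.Linear.NondegFix
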