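import Cfsg.Agent.S0837
import Cfsg.Agent.Lib.Linear.HermParabolic
import Cfsg.Agent.Lib.Linear.IsotropicFix.Unitary
import Cfsg.Agent.Lib.Linear.JordanForms.Fix

/-!
# Invariant non-degenerate subspaces of unitary matrices

An invariant non-degenerate subspace carries an orthonormal frame, so the restriction is again a unitary
matrix of smaller size. Unipotent matrices split into orthogonal single blocks.
-/

set_option autoImplicit false

universe u

namespace Cfsg.Lib.Linear.HermFix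

open Module Cfsg.Lib.Linear.Herm Cfsg.Lib.Linear.IsoFix Cfsg.Lib.Linear.JordanForms
open scoped Matrix

variable {F : Type u} [Field F] [Fintype F] {q : ℕ}

/-- An invariant non-degenerate subspace of a matrix. -/
structure PieceH (hF : Fintype.card F = q ^ 2) {n : ℕ} (M : Matrix (Fin n) (Fin n) F)
    (W : Submodule F (Fin n → F)) : Prop where
  nd : ∀ u ∈ W, (∀ v ∈ W, hB hF n u v = 0) → u = 0
  inv : ∀ u ∈ W, M *ᵥ u ∈ W

/-- Fixing a non-degenerate subspace of dimension `m`. -/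
def FixesN (hF : Fintype.card F = q ^ 2) {n : ℕ} (m : ℕ) (M : Matrix (Fin n) (Fin n) F) : Prop :=
  ∃ W : Submodule F (Fin n → F), PieceH hF M W ∧ finrank F W = m

variable (hF : Fintype.card F = q ^ 2) {n : ℕ} {M : Matrix (Fin n) (Fin n) F}

theorem piece_bot : PieceH hF M ⊥ :=
  ⟨fun _ hu _ => (Submodule.mem_bot F).1 hu, fun u hu => by
    rw [(Submodule.mem_bot F).1 hu, Matrix.mulVec_zero]; exact zero_mem _⟩

theorem piece_top : PieceH hF M ⊤ :=
  ⟨fun u _ h => (hB_nondegenerate hF n).1 u fun v => h v trivial, fun _ _ => trivial⟩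

/-- A sesquilinear expression vanishing on the diagonal vanishes. -/
theorem polar_zero (P : (Fin n → F) →ₗ[F] (Fin n → F)) (h : ∀ x, hB hF n (P x) x = 0) (u v : Fin n → F) :
    hB hF n (P u) v = 0 := by
  have hanti : ∀ u v, hB hF n (P u) v + hB hF n (P v) u = 0 := fun u v => by
    have := h (u + v)
    simp only [map_add, LinearMap.add_apply, h, zero_add, add_zero] at this
    linear_combination this
  obtain ⟨c, hc⟩ : ∃ c : F, frob hF c ≠ c := by
    by_contra hcon
    push Not at hcon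
    exact frob_ne_id hF (RingHom.ext hcon)
  have h1 := hanti (c • u) v
  simp only [map_smul, LinearMap.map_smulₛₗ, LinearMap.smul_apply, smul_eq_mul, RingHom.id_apply] at h1
  have h2 := hanti u v
  exact (mul_eq_zero.1 (show (frob hF c - c) * hB hF n (P u) v = 0 by linear_combination h1 - c * h2)).resolve_left
    (sub_ne_zero.2 hc)

/-- There is an anisotropic vector. -/
theorem exists_aniso (hn : 0 < n) : ∃ v : Fin n → F, hB hF n v v ≠ 0 := by
  refine ⟨Pi.single ⟨0, hn⟩ 1, ?_⟩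
  rw [hB_single_right, Pi.single_eq_same]
  simp

theorem exists_preimage (hM : IsU hF M) {W : Submodule F (Fin n → F)} (hi : ∀ u ∈ W, M *ᵥ u ∈ W) {w : Fin n → F}
    (hw : w ∈ W) : ∃ y ∈ W, M *ᵥ y = w := by
  have hinj : Function.Injective (M *ᵥ ·) := fun x y h => by
    have h1 := congrArg (adj hF M *ᵥ ·) h
    simpa [Matrix.mulVec_mulVec, show adj hF M * M = 1 from hM] using h1
  let T : W →ₗ[F] W := (Matrix.mulVecLin M).restrict hi
  have hT : Function.Injective T := fun x y h => Subtype.ext (hinj (congrArg Subtype.val h))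
  obtain ⟨y, hy⟩ := LinearMap.injective_iff_surjective.1 hT ⟨w, hw⟩
  exact ⟨y, y.2, congrArg Subtype.val hy⟩

variable {hF}

/-- The orthogonal of a piece. -/
theorem PieceH.perp (hM : IsU hF M) {W : Submodule F (Fin n → F)} (P : PieceH hF M W) :
    PieceH hF M (Herm.perp hF W) ∧ IsCompl W (Herm.perp hF W) := by
  have hd : Disjoint W (Herm.perp hF W) := Submodule.disjoint_def.2 fun x hx hx' =>
    P.nd x hx fun v hv => hB_symm_zero hF (hx' v hv)
  have hc : IsCompl W (Herm.perp hF W) := by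
    refine ⟨hd, codisjoint_iff.2 (Submodule.eq_top_of_finrank_eq ?_)⟩
    have h1 := Submodule.finrank_sup_add_finrank_inf_eq W (Herm.perp hF W)
    rw [hd.eq_bot, finrank_bot, add_zero] at h1
    rw [h1, add_comm, finrank_perp, finrank_fin_fun]
  refine ⟨⟨fun u hu h => (hB_nondegenerate hF n).1 u fun v => ?_, fun u hu w hw => ?_⟩, hc⟩
  · obtain ⟨a, ha, b, hb, rfl⟩ := Submodule.mem_sup.1
      (hc.sup_eq_top ▸ Submodule.mem_top : v ∈ W ⊔ Herm.perp hF W)
    rw [map_add, h b hb, add_zero, hB_symm_zero hF (hu a ha)]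
  · obtain ⟨y, hy, rfl⟩ := exists_preimage hF hM P.inv hw
    rw [(isU_iff hF M).1 hM]
    exact hu y hy

/-- An orthonormal frame of a piece. -/
theorem PieceH.frame (hM : IsU hF M) {W : Submodule F (Fin n → F)} (P : PieceH hF M W) {k : ℕ}
    (hk : finrank F W = k) :
    ∃ (L : (Fin k → F) →ₗ[F] (Fin n → F)) (T : Matrix (Fin k) (Fin k) F), LinearMap.range L = W ∧
      Function.Injective L ∧ (∀ a b, hB hF n (L a) (L b) = hB hF k a b) ∧ IsU hF T ∧
      ∀ a, M *ᵥ L a = L (T *ᵥ a) := by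
  obtain ⟨L, hL, hLi⟩ := Cfsg.Agent.S0837.exists_orth hF k W hk P.nd
  have hinj : Function.Injective L := (injective_iff_map_eq_zero L).2 fun a ha =>
    (hB_nondegenerate hF k).1 a fun b => by rw [← hLi, ha, map_zero, LinearMap.zero_apply]
  let e := LinearEquiv.ofInjective L hinj
  have hi : ∀ x ∈ LinearMap.range L, M *ᵥ x ∈ LinearMap.range L := fun x hx => hL ▸ P.inv x (hL ▸ hx)
  let T := LinearMap.toMatrix' ((e.symm : _ →ₗ[F] (Fin k → F)) ∘ₗ (Matrix.mulVecLin M).restrict hi ∘ₗ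
    (e : (Fin k → F) →ₗ[F] _))
  have hT : ∀ a, M *ᵥ L a = L (T *ᵥ a) := fun a => by
    rw [LinearMap.toMatrix'_mulVec]
    show M *ᵥ L a = ((e (e.symm ((Matrix.mulVecLin M).restrict hi (e a))) : LinearMap.range L) : Fin n → F)
    rw [LinearEquiv.apply_symm_apply]
    rfl
  refine ⟨L, T, hL, hinj, hLi, (isU_iff hF T).2 fun a b => ?_, hT⟩
  rw [← hLi, ← hLi, ← hT, ← hT, (isU_iff hF M).1 hM]

theorem frame_pow {k : ℕ} {L : (Fin k → F) →ₗ[F] (Fin n → F)} {T : Matrix (Fin k) (Fin k) F}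
    (h : ∀ a, M *ᵥ L a = L (T *ᵥ a)) (j : ℕ) : ∀ a, (M ^ j) *ᵥ L a = L ((T ^ j) *ᵥ a) := by
  induction j with
  | zero => intro a; simp
  | succ j ih => intro a; rw [pow_succ', pow_succ', ← Matrix.mulVec_mulVec, ih, h, Matrix.mulVec_mulVec]

theorem frame_scalar {k : ℕ} {L : (Fin k → F) →ₗ[F] (Fin n → F)} (hinj : Function.Injective L)
    {T : Matrix (Fin k) (Fin k) F} (h : ∀ a, M *ᵥ L a = L (T *ᵥ a)) {j : ℕ} {z : F} (hz : M ^ j = z • 1) :
    T ^ j = z • 1 := Matrix.ext_iff_mulVec.mpr fun a => hinj (by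
  rw [← frame_pow h, hz, Matrix.smul_mulVec, Matrix.one_mulVec, Matrix.smul_mulVec, Matrix.one_mulVec, map_smul])

theorem frame_sub_pow {k : ℕ} {L : (Fin k → F) →ₗ[F] (Fin n → F)} (hinj : Function.Injective L)
    {T : Matrix (Fin k) (Fin k) F} (h : ∀ a, M *ᵥ L a = L (T *ᵥ a)) {j : ℕ} (hz : (M - 1) ^ j = 0) :
    (T - 1) ^ j = 0 := Matrix.ext_iff_mulVec.mpr fun a => hinj (by
  rw [← frame_pow (M := M - 1) (T := T - 1) (fun b => by simp [Matrix.sub_mulVec, h]) j a, hz,
    Matrix.zero_mulVec, Matrix.zero_mulVec, map_zero])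

/-- A piece of a frame is a piece. -/
theorem push {k : ℕ} {L : (Fin k → F) →ₗ[F] (Fin n → F)} (hinj : Function.Injective L)
    (hLi : ∀ a b, hB hF n (L a) (L b) = hB hF k a b) {T : Matrix (Fin k) (Fin k) F}
    (h : ∀ a, M *ᵥ L a = L (T *ᵥ a)) {X : Submodule F (Fin k → F)} (Q : PieceH hF T X) :
    PieceH hF M (X.map L) ∧ finrank F (X.map L) = finrank F X := by
  refine ⟨⟨?_, ?_⟩, (Submodule.equivMapOfInjective L hinj X).finrank_eq.symm⟩
  · rintro _ ⟨a, ha, rfl⟩ hz
    rw [Q.nd a ha fun b hb => by rw [← hLi]; exact hz _ ⟨b, hb, rfl⟩, map_zero]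
  · rintro _ ⟨a, ha, rfl⟩
    exact ⟨_, Q.inv a ha, (h a).symm⟩

/-- The matrix on the complement of a piece, with the two ways of using its pieces. -/
theorem PieceH.split (hM : IsU hF M) {W : Submodule F (Fin n → F)} (P : PieceH hF M W) {k j : ℕ}
    (hk : finrank F W = k) (hj : k + j = n) :
    ∃ (L : (Fin j → F) →ₗ[F] (Fin n → F)) (T : Matrix (Fin j) (Fin j) F), LinearMap.range L = Herm.perp hF W ∧
      Function.Injective L ∧ IsU hF T ∧ (∀ a, M *ᵥ L a = L (T *ᵥ a)) ∧
      (∀ d, FixesN hF d T → FixesN hF d M ∧ FixesN hF (k + d) M) := by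
  have hfr := finrank_perp hF W
  obtain ⟨L, T, hL, hinj, hLi, hT, hMT⟩ := (P.perp hM).1.frame hM (k := j) (by omega)
  refine ⟨L, T, hL, hinj, hT, hMT, ?_⟩
  rintro d ⟨X, Q, rfl⟩
  obtain ⟨Q', hd⟩ := push hinj hLi hMT Q
  refine ⟨⟨_, Q', hd⟩, W ⊔ X.map L, ⟨?_, fun u hu => ?_⟩, ?_⟩
  · intro u hu h
    obtain ⟨a, ha, b, hb, rfl⟩ := Submodule.mem_sup.1 hu
    have hb' : b ∈ Herm.perp hF W := hL ▸ LinearMap.map_le_range hb
    have ha0 : a = 0 := P.nd a ha fun v hv => by
      have h1 := h v (Submodule.mem_sup_left hv)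
      rwa [map_add, LinearMap.add_apply, hB_symm_zero hF (hb' v hv), add_zero] at h1
    subst ha0
    rw [zero_add] at h ⊢
    exact Q'.nd b hb fun v hv => h v (Submodule.mem_sup_right hv)
  · obtain ⟨a, ha, b, hb, rfl⟩ := Submodule.mem_sup.1 hu
    rw [Matrix.mulVec_add]
    exact Submodule.add_mem_sup (P.inv a ha) (Q'.inv b hb)
  · have h1 := Submodule.finrank_sup_add_finrank_inf_eq W (X.map L)
    rw [show W ⊓ X.map L = ⊥ from eq_bot_iff.2 ((inf_le_inf le_rfl (hL ▸ LinearMap.map_le_range)).trans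
      (P.perp hM).2.inf_eq_bot.le), finrank_bot, add_zero, hk, hd] at h1
    exact h1

/-- The Jordan multiplicities. -/
noncomputable def muM {n : ℕ} (M : Matrix (Fin n) (Fin n) F) (j : ℕ) : ℕ :=
  mu (Matrix.toLinAlgEquiv' M - 1 : End F (Fin n → F)) j

theorem toLin_sub_pow {n : ℕ} {M : Matrix (Fin n) (Fin n) F} {p : ℕ} (h : (M - 1) ^ p = 0) :
    (Matrix.toLinAlgEquiv' M - 1 : End F (Fin n → F)) ^ p = 0 := by
  rw [← map_one (Matrix.toLinAlgEquiv' (R := F) (n := Fin n)), ← map_sub, ← map_pow, h, map_zero]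

theorem sum_muM {n : ℕ} {M : Matrix (Fin n) (Fin n) F} {p : ℕ} (h : (M - 1) ^ p = 0) :
    ∑ j ∈ Finset.range (p + 1), j * muM M j = n := by
  have := sum_mu_of_pow _ (toLin_sub_pow h)
  rw [finrank_fin_fun] at this
  exact this

/-- The multiplicities add over a piece and its orthogonal. -/
theorem muM_add {W : Submodule F (Fin n → F)} (hc : IsCompl W (Herm.perp hF W)) {k j : ℕ}
    {L : (Fin k → F) →ₗ[F] (Fin n → F)} (hL : LinearMap.range L = W) (hLinj : Function.Injective L)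
    {T : Matrix (Fin k) (Fin k) F} (hT : ∀ a, M *ᵥ L a = L (T *ᵥ a))
    {L' : (Fin j → F) →ₗ[F] (Fin n → F)} (hL' : LinearMap.range L' = Herm.perp hF W) (hL'inj : Function.Injective L')
    {T' : Matrix (Fin j) (Fin j) F} (hT' : ∀ a, M *ᵥ L' a = L' (T' *ᵥ a)) {e : ℕ} (he : 1 ≤ e) :
    muM M e = muM T e + muM T' e := by
  have key : ∀ {U : Submodule F (Fin n → F)} {l : ℕ} {K : (Fin l → F) →ₗ[F] (Fin n → F)},
      LinearMap.range K = U → Function.Injective K → ∀ {S : Matrix (Fin l) (Fin l) F},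
      (∀ a, M *ᵥ K a = K (S *ᵥ a)) → ∃ hU : ∀ x ∈ U, (Matrix.toLinAlgEquiv' M - 1 : End F (Fin n → F)) x ∈ U,
        ∀ i, kd ((Matrix.toLinAlgEquiv' M - 1 : End F (Fin n → F)).restrict hU) i =
          kd (Matrix.toLinAlgEquiv' S - 1 : End F (Fin l → F)) i := by
    rintro _ l K rfl hK S hS
    have hKS : ∀ a, (Matrix.toLinAlgEquiv' M - 1 : End F (Fin n → F)) (K a) =
        K ((Matrix.toLinAlgEquiv' S - 1 : End F (Fin l → F)) a) := fun a => by
      show M *ᵥ K a - K a = K (S *ᵥ a - a)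
      rw [hS, map_sub]
    refine ⟨?_, fun i => ?_⟩
    · rintro _ ⟨a, rfl⟩
      exact ⟨_, (hKS a).symm⟩
    · exact kd_conj (LinearEquiv.ofInjective K hK) _ _ (fun a => Subtype.ext (hKS a)) i
  obtain ⟨hW, h1⟩ := key hL hLinj hT
  obtain ⟨hU, h2⟩ := key hL' hL'inj hT'
  rw [muM, mu_add _ hc hW hU he]
  simp only [muM, mu, h1, h2]

/-- A single block on a cyclic piece. -/
theorem exists_block_piece (hM : IsU hF M) {f : ℕ} (hef : (M - 1) ^ (f + 1) = 0) (hne : (M - 1) ^ f ≠ 0) :
    ∃ W : Submodule F (Fin n → F), PieceH hF M W ∧ finrank F W = f + 1 ∧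
      ∀ {L : (Fin (f + 1) → F) →ₗ[F] (Fin n → F)}, LinearMap.range L = W → Function.Injective L →
        ∀ {T : Matrix (Fin (f + 1)) (Fin (f + 1)) F}, (∀ a, M *ᵥ L a = L (T *ᵥ a)) →
        ∀ j, 1 ≤ j → muM T j = if j = f + 1 then 1 else 0 := by
  classical
  set N := M - 1 with hNdef
  obtain ⟨x, hx⟩ : ∃ x, hB hF n ((N ^ f) *ᵥ x) x ≠ 0 := by
    by_contra h
    push Not at h
    refine hne (Matrix.ext_iff_mulVec.mpr fun u => ?_)
    rw [Matrix.zero_mulVec]
    exact (hB_nondegenerate hF n).1 _ fun v => polar_zero hF (Matrix.mulVecLin (N ^ f)) h u v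
  let v : Fin (f + 1) → Fin n → F := fun i => (N ^ (i : ℕ)) *ᵥ x
  let W := Submodule.span F (Set.range v)
  have hNW : ∀ u ∈ W, N *ᵥ u ∈ W := fun u hu => by
    refine (Submodule.span_le.2 ?_ : W ≤ W.comap (Matrix.mulVecLin N)) hu
    rintro _ ⟨i, rfl⟩
    show N *ᵥ ((N ^ (i : ℕ)) *ᵥ x) ∈ W
    rw [Matrix.mulVec_mulVec, ← pow_succ']
    by_cases hi : (i : ℕ) + 1 < f + 1
    · exact Submodule.subset_span ⟨⟨_, hi⟩, rfl⟩
    · rw [show (i : ℕ) + 1 = f + 1 by omega, hef, Matrix.zero_mulVec]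
      exact W.zero_mem
  have hMW : ∀ u ∈ W, M *ᵥ u ∈ W := fun u hu => by
    have h := W.add_mem (hNW u hu) hu
    rwa [hNdef, Matrix.sub_mulVec, Matrix.one_mulVec, sub_add_cancel] at h
  -- a combination orthogonal to `W` with all its images is trivial
  have core : ∀ c : Fin (f + 1) → F, (∀ a, hB hF n ((N ^ a) *ᵥ ∑ i, c i • v i) x = 0) → c = 0 := by
    intro c hc
    suffices key : ∀ (i : ℕ) (hi : i < f + 1), c ⟨i, hi⟩ = 0 from funext fun i => key i.1 i.2
    intro i
    induction i using Nat.strong_induction_on with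
    | _ i ih =>
      intro hi
      have h1 := hc (f - i)
      rw [Matrix.mulVec_sum, Finset.sum_eq_single (⟨i, hi⟩ : Fin (f + 1)) (fun j _ hj => ?_)
        (fun h' => absurd (Finset.mem_univ _) h'), Matrix.mulVec_smul, LinearMap.map_smulₛₗ, LinearMap.smul_apply,
        smul_eq_mul] at h1
      · rw [Matrix.mulVec_mulVec, ← pow_add, show f - i + i = f by omega] at h1
        exact (_root_.map_eq_zero _).1 ((mul_eq_zero.1 h1).resolve_right hx)
      · rw [Matrix.mulVec_smul, Matrix.mulVec_mulVec, ← pow_add]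
        rcases Nat.lt_or_ge (j : ℕ) i with hlt | hge
        · rw [ih j hlt j.2, zero_smul]
        · have hne' : (j : ℕ) ≠ i := fun e => hj (Fin.ext e)
          rw [show f - i + j = f - i + j - (f + 1) + (f + 1) by omega, pow_add, hef, mul_zero, Matrix.zero_mulVec,
            smul_zero]
  have hli : LinearIndependent F v := Fintype.linearIndependent_iff.2 fun c hc => congrFun (core c fun a => by
    rw [hc, Matrix.mulVec_zero, map_zero, LinearMap.zero_apply])
  have hWd : finrank F W = f + 1 := (finrank_span_eq_card hli).trans (Fintype.card_fin _)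
  have hxW : x ∈ W := Submodule.subset_span ⟨0, by simp [v]⟩
  refine ⟨W, ⟨fun u hu h => ?_, hMW⟩, hWd, fun {L} hL hinj {T} hT => ?_⟩
  · -- the radical is invariant
    have hR : ∀ a, ∀ w ∈ W, hB hF n ((N ^ a) *ᵥ u) w = 0 ∧ (N ^ a) *ᵥ u ∈ W := fun a => by
      induction a with
      | zero => exact fun w hw => ⟨by simpa using h w hw, by simpa using hu⟩
      | succ a ih =>
        intro w hw
        rw [pow_succ', ← Matrix.mulVec_mulVec]
        refine ⟨?_, hNW _ (ih w hw).2⟩
        rw [hNdef, Matrix.sub_mulVec, Matrix.one_mulVec, map_sub, LinearMap.sub_apply, ← hNdef]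
        obtain ⟨y, hy, rfl⟩ := exists_preimage hF hM hMW hw
        rw [(isU_iff hF M).1 hM, (ih y hy).1, (ih _ (hMW y hy)).1, sub_zero]
    obtain ⟨c, rfl⟩ := (Submodule.mem_span_range_iff_exists_fun F).1 hu
    rw [core c fun a => (hR a x hxW).1]
    simp
  · have hTp : (T - 1) ^ (f + 1) = 0 := frame_sub_pow hinj hT hef
    have hTne : (T - 1) ^ f ≠ 0 := fun h0 => by
      obtain ⟨a, ha⟩ : x ∈ LinearMap.range L := hL ▸ hxW
      refine hx ?_
      rw [← ha, hNdef, frame_pow (M := M - 1) (T := T - 1) (fun b => by simp [Matrix.sub_mulVec, hT]) f a, h0,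
        Matrix.zero_mulVec, map_zero, map_zero, LinearMap.zero_apply]
    set G : End F (Fin (f + 1) → F) := Matrix.toLinAlgEquiv' T - 1
    have hG : G ^ (f + 1) = 0 := toLin_sub_pow hTp
    have hlt : kd G f < f + 1 := by
      refine lt_of_le_of_ne ((kd_le G f).trans (finrank_fin_fun F).le) fun h => hTne ?_
      apply Matrix.toLinAlgEquiv'.injective
      rw [map_pow, map_sub, map_one, map_zero]
      exact pow_eq_zero_of_kd G (h.trans (finrank_fin_fun F).symm)
    have h1 := sum_muM hTp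
    have hpos : 1 ≤ muM T (f + 1) := by
      show 1 ≤ 2 * kd G (f + 1) - (kd G (f + 1 - 1) + kd G (f + 1 + 1))
      rw [kd_eq_of_pow_eq_zero G hG, kd_eq_of_pow_eq_zero G (pow_eq_zero_of_le (Nat.le_succ _) hG),
        finrank_fin_fun, show f + 1 - 1 = f by omega]
      omega
    intro j hj
    rcases Nat.lt_or_ge (f + 1) j with hgt | hle
    · rw [if_neg hgt.ne']
      show 2 * kd G j - (kd G (j - 1) + kd G (j + 1)) = 0
      rw [kd_eq_of_pow_eq_zero G (pow_eq_zero_of_le hgt.le hG),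
        kd_eq_of_pow_eq_zero G (pow_eq_zero_of_le (show f + 1 ≤ j - 1 by omega) hG),
        kd_eq_of_pow_eq_zero G (pow_eq_zero_of_le (show f + 1 ≤ j + 1 by omega) hG)]
      omega
    rw [Finset.sum_range_succ] at h1
    have h2 : (f + 1) * 1 ≤ (f + 1) * muM T (f + 1) := Nat.mul_le_mul_left _ hpos
    rcases hle.eq_or_lt with rfl | hlt'
    · rw [if_pos rfl]
      by_contra hne1
      have h3 : (f + 1) * 2 ≤ (f + 1) * muM T (f + 1) := Nat.mul_le_mul_left _ (by omega)
      omega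
    · rw [if_neg hlt'.ne]
      have h3 := Finset.single_le_sum (f := fun l => l * muM T l) (fun l _ => Nat.zero_le _)
        (Finset.mem_range.2 hlt')
      replace h3 : j * muM T j ≤ ∑ l ∈ Finset.range (f + 1), l * muM T l := h3
      have h4 : muM T j ≤ j * muM T j := Nat.le_mul_of_pos_left _ (by omega)
      omega

/-- Every sub-multiset of the type of a unipotent unitary matrix is carried by a piece. -/
theorem sub_exists (n : ℕ) : ∀ (M : Matrix (Fin n) (Fin n) F), IsU hF M → (∃ p, (M - 1) ^ p = 0) →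
    ∀ ν : Multiset ℕ, 0 ∉ ν → (∀ j, 1 ≤ j → ν.count j ≤ muM M j) → FixesN hF ν.sum M := by
  induction n using Nat.strong_induction_on with
  | _ n ih =>
  intro M hM hunip ν h0 hle
  classical
  rcases Multiset.empty_or_exists_mem ν with rfl | ⟨a, ha⟩
  · exact ⟨⊥, piece_bot hF, by simp⟩
  have hap : 1 ≤ a := Nat.pos_of_ne_zero fun h => h0 (h ▸ ha)
  obtain ⟨f, hef, hne⟩ : ∃ f, (M - 1) ^ (f + 1) = 0 ∧ (M - 1) ^ f ≠ 0 := by
    have he0 : (M - 1) ^ 0 ≠ 0 := fun hep => by
      have h4 := hle a hap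
      have h5 := Multiset.count_pos.2 ha
      have h6 := sum_muM (p := a) (pow_eq_zero_of_le (Nat.zero_le a) hep)
      have h7 := Finset.single_le_sum (f := fun l => l * muM M l) (fun l _ => Nat.zero_le _)
        (Finset.self_mem_range_succ a)
      simp only [h6] at h7
      have h8 : 1 ≤ a * muM M a := Nat.mul_pos hap (by omega)
      rcases Nat.eq_zero_or_pos n with hn | hn
      · omega
      · rw [pow_zero] at hep
        haveI : Nonempty (Fin n) := ⟨⟨0, hn⟩⟩
        exact one_ne_zero hep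
    have hfind := Nat.find_spec hunip
    obtain ⟨f, hf⟩ : ∃ f, Nat.find hunip = f + 1 := ⟨Nat.find hunip - 1, by
      rcases Nat.eq_zero_or_pos (Nat.find hunip) with h | h
      · rw [h] at hfind; exact absurd hfind he0
      · omega⟩
    exact ⟨f, hf ▸ hfind, Nat.find_min hunip (by omega)⟩
  obtain ⟨W, P, hW, hmu⟩ := exists_block_piece hM hef hne
  have hWn : f + 1 ≤ n := hW ▸ (Submodule.finrank_le W).trans (finrank_fin_fun F).le
  obtain ⟨L, T, hL, hinj, -, -, hT⟩ := P.frame hM hW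
  obtain ⟨L', T', hL', hinj', hT'U, hT', huse⟩ := P.split hM hW (Nat.add_sub_cancel' hWn)
  have hsum : ∀ j, 1 ≤ j → muM M j = (if j = f + 1 then 1 else 0) + muM T' j := fun j hj => by
    rw [muM_add (P.perp hM).2 hL hinj hT hL' hinj' hT' hj, hmu hL hinj hT j hj]
  by_cases hc : f + 1 ∈ ν
  · have h := ih (n - (f + 1)) (by omega) T' hT'U ⟨_, frame_sub_pow hinj' hT' hef⟩ (ν.erase (f + 1))
      (fun h => h0 (Multiset.mem_of_mem_erase h)) fun j hj => by
        have h1 := hle j hj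
        rw [hsum j hj] at h1
        rcases eq_or_ne j (f + 1) with rfl | hne
        · rw [if_pos rfl] at h1
          rw [Multiset.count_erase_self]
          omega
        · rw [if_neg hne, zero_add] at h1
          rwa [Multiset.count_erase_of_ne hne]
    have h2 := (huse _ h).2
    rwa [← Multiset.sum_cons, Multiset.cons_erase hc] at h2
  · refine (huse _ (ih (n - (f + 1)) (by omega) T' hT'U ⟨_, frame_sub_pow hinj' hT' hef⟩ ν h0 fun j hj => ?_)).1
    have h1 := hle j hj
    rw [hsum j hj] at h1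
    rcases eq_or_ne j (f + 1) with rfl | hne
    · rw [Multiset.count_eq_zero_of_notMem hc]; exact Nat.zero_le _
    · rwa [if_neg hne, zero_add] at h1

/-- The multiset of the multiplicities up to `p`. -/
noncomputable def muSet {n : ℕ} (M : Matrix (Fin n) (Fin n) F) (p : ℕ) : Multiset ℕ :=
  ∑ j ∈ Finset.Icc 1 p, Multiset.replicate (muM M j) j

theorem count_muSet {n : ℕ} (M : Matrix (Fin n) (Fin n) F) (p e : ℕ) :
    (muSet M p).count e = if e ∈ Finset.Icc 1 p then muM M e else 0 := by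
  simp only [muSet, Multiset.count_sum', Multiset.count_replicate]
  rw [Finset.sum_ite_eq']

theorem mem_muSet {n : ℕ} {M : Matrix (Fin n) (Fin n) F} {p a : ℕ} (ha : a ∈ muSet M p) : 0 < a ∧ a ≤ p := by
  have h := Multiset.count_pos.2 ha
  rw [count_muSet] at h
  split_ifs at h with h'
  · rw [Finset.mem_Icc] at h'
    omega
  · omega

theorem sum_muSet {n : ℕ} {M : Matrix (Fin n) (Fin n) F} {p : ℕ} (h : (M - 1) ^ p = 0) : (muSet M p).sum = n := by
  refine Eq.trans ?_ (sum_muM h)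
  show Multiset.sumAddMonoidHom (∑ j ∈ Finset.Icc 1 p, Multiset.replicate (muM M j) j) = _
  rw [map_sum]
  refine Finset.sum_subset (fun j hj => ?_) (fun j hj hj' => ?_) |>.trans (Finset.sum_congr rfl fun j _ => by
    simp [mul_comm])
  · rw [Finset.mem_Icc] at hj
    rw [Finset.mem_range]
    omega
  · rw [Finset.mem_Icc] at hj'
    rw [Finset.mem_range] at hj
    rw [show j = 0 by omega]
    simp

/-- The type on a piece. -/
theorem sub_type (hM : IsU hF M) {p : ℕ} (hp : (M - 1) ^ p = 0) {W : Submodule F (Fin n → F)} (P : PieceH hF M W) :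
    ∃ ν : Multiset ℕ, ν ≤ muSet M p ∧ ν.sum = finrank F W := by
  classical
  obtain ⟨L, T, hL, hinj, -, -, hT⟩ := P.frame hM rfl
  have hle : finrank F W ≤ n := (Submodule.finrank_le W).trans (finrank_fin_fun F).le
  obtain ⟨L', T', hL', hinj', -, hT', -⟩ := P.split hM rfl (Nat.add_sub_cancel' hle)
  refine ⟨muSet T p, Multiset.le_iff_count.2 fun e => ?_, sum_muSet (frame_sub_pow hinj hT hp)⟩
  rw [count_muSet, count_muSet]
  split_ifs with h
  · rw [muM_add (P.perp hM).2 hL hinj hT hL' hinj' hT' (Finset.mem_Icc.1 h).1]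
    exact Nat.le_add_right _ _
  · exact le_rfl

end Cfsg.Lib.Linear.HermFix
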