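import Cfsg.Agent.Lib.Linear.NondegFix.HermPieces

/-!
# Non-degenerate subspaces fixed by semisimple unitary matrices of prime order
-/

set_option autoImplicit false

universe u

namespace Cfsg.Lib.Linear.HermFix

open Module Polynomial Cfsg.Lib.Linear.Herm Cfsg.Lib.Linear.IsoFix Cfsg.Agent.Lib.Linear.PrimeClasses Cfsg.Agent.S5961
open scoped Matrix

variable {F : Type u} [Field F] [Fintype F] {q : ℕ}

/-- The standard form on a sum of coordinates. -/
theorem hB_split (hF : Fintype.card F = q ^ 2) {n m k : ℕ} (e : Fin m ⊕ Fin k ≃ Fin n) (a b : Fin m → F)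
    (c c' : Fin k → F) :
    hB hF n (Sum.elim a c ∘ e.symm) (Sum.elim b c' ∘ e.symm) = hB hF m a b + hB hF k c c' := by
  simp only [hB_apply, Cfsg.hermForm]
  rw [← Equiv.sum_comp e, Fintype.sum_sum_type]
  simp

variable {L : Type u} [Field L] [Algebra F L] [IsAlgClosed L] {r : ℕ} [Fact r.Prime] {ζ : L}

/-- Multiplicities below those of the matrix give a piece. -/
theorem exists_piece_of_mult (hF : Fintype.card F = q ^ 2) (hζ : IsPrimitiveRoot ζ r) (hrL : (r : L) ≠ 0)
    (hrF : (r : F) ≠ 0) {qu : (ZMod r)ˣ} (hqu : (qu : ZMod r) = (q : ZMod r)) {n m : ℕ}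
    (M : Matrix (Fin n) (Fin n) F) (hM : IsU hF M) (hMr : M ^ r = 1) {f μ : ZMod r → ℕ}
    (hf : M.charpoly.map (algebraMap F L) = Pm ζ f) (hμ : Inv (-qu) m μ) (hle : ∀ x, μ x ≤ f x) :
    FixesN hF m M := by
  classical
  have hinv := inv_of_unitary hF hζ hrL hqu M hM hMr hf
  have hmn : m ≤ n := by rw [← hμ.1, ← hinv.1]; exact Finset.sum_le_sum fun x _ => hle x
  let ρ : ZMod r → ℕ := fun x => f x - μ x
  have hρ : Inv (-qu) (n - m) ρ := by
    refine ⟨?_, fun x => ?_⟩
    · rw [Finset.sum_tsub_distrib _ fun x _ => hle x, hinv.1, hμ.1]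
    · show f _ - μ _ = f x - μ x
      rw [hinv.2, hμ.2]
  obtain ⟨A, hA, hAr, hAp⟩ := exists_real hF hζ hrL hrF hqu m μ hμ
  obtain ⟨B, hB', hBr, hBp⟩ := exists_real hF hζ hrL hrF hqu (n - m) ρ hρ
  let e : Fin m ⊕ Fin (n - m) ≃ Fin n := finSumFinEquiv.trans (finCongr (Nat.add_sub_cancel' hmn))
  let R := Matrix.reindexAlgEquiv F F e
  let g := R (Matrix.fromBlocks A 0 0 B)
  have hgU : IsU hF g := by
    show adj hF g * g = 1
    rw [show adj hF g = R (adj hF (Matrix.fromBlocks A 0 0 B)) from rfl, ← map_mul,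
      show adj hF (Matrix.fromBlocks A 0 0 B) = Matrix.fromBlocks (adj hF A) 0 0 (adj hF B) by
        simp [adj, Matrix.fromBlocks_map, Matrix.fromBlocks_transpose],
      Matrix.fromBlocks_multiply]
    rw [hA, hB']
    simp
  have hgr : g ^ r = 1 := by rw [← map_pow, fromBlocks_pow, hAr, hBr, Matrix.fromBlocks_one, map_one]
  have hgp : g.charpoly.map (algebraMap F L) = Pm ζ f := by
    simp only [g, R, Matrix.reindexAlgEquiv_apply]
    rw [Matrix.charpoly_reindex, Matrix.charpoly_fromBlocks_zero₁₂, Polynomial.map_mul,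
      hAp, hBp, ← Pm_add]
    congr 1
    exact funext fun x => Nat.add_sub_cancel' (hle x)
  obtain ⟨U, hU, hUg⟩ := isConj_u hF hrF hgU hM hgr hMr
    (Polynomial.map_injective _ (algebraMap F L).injective (hgp.trans hf.symm))
  let E : (Fin m → F) →ₗ[F] (Fin n → F) := Matrix.mulVecLin U ∘ₗ
    { toFun := fun a => Sum.elim a (0 : Fin (n - m) → F) ∘ e.symm
      map_add' := fun a b => funext fun i => by cases h : e.symm i <;> simp [h]
      map_smul' := fun c a => funext fun i => by cases h : e.symm i <;> simp [h] }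
  have hE : ∀ a b, hB hF n (E a) (E b) = hB hF m a b := fun a b => by
    show hB hF n (U *ᵥ _) (U *ᵥ _) = _
    rw [(isU_iff hF U).1 hU]
    show hB hF n (Sum.elim a (0 : Fin (n - m) → F) ∘ e.symm) (Sum.elim b (0 : Fin (n - m) → F) ∘ e.symm) = _
    rw [hB_split, map_zero, add_zero]
  have hEi : Function.Injective E := (injective_iff_map_eq_zero E).2 fun a ha =>
    (hB_nondegenerate hF m).1 a fun b => by rw [← hE, ha, map_zero, LinearMap.zero_apply]
  refine ⟨LinearMap.range E, ⟨?_, ?_⟩, by rw [LinearMap.finrank_range_of_inj hEi, finrank_fin_fun]⟩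
  · rintro _ ⟨a, rfl⟩ h
    rw [(hB_nondegenerate hF m).1 a fun b => by rw [← hE]; exact h _ ⟨b, rfl⟩, map_zero]
  · rintro _ ⟨a, rfl⟩
    refine ⟨A *ᵥ a, ?_⟩
    show U *ᵥ _ = M *ᵥ (U *ᵥ _)
    rw [Matrix.mulVec_mulVec, ← hUg, ← Matrix.mulVec_mulVec]
    congr 1
    show _ = (Matrix.fromBlocks A 0 0 B).submatrix e.symm e.symm *ᵥ (Sum.elim a (0 : Fin (n - m) → F) ∘ e.symm)
    rw [Matrix.submatrix_mulVec_equiv, Equiv.symm_symm, Function.comp_assoc, Equiv.symm_comp_self, Function.comp_id,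
      Matrix.fromBlocks_mulVec]
    simp

/-- The fixed and moved parts of a piece. -/
theorem moved_piece (hF : Fintype.card F = q ^ 2) (hζ : IsPrimitiveRoot ζ r) (hrL : (r : L) ≠ 0)
    (hrF : (r : F) ≠ 0) {qu : (ZMod r)ˣ} (hqu : (qu : ZMod r) = (q : ZMod r)) {n : ℕ}
    (M : Matrix (Fin n) (Fin n) F) (hM : IsU hF M) (hMr : M ^ r = 1) {f : ZMod r → ℕ}
    (hf : M.charpoly.map (algebraMap F L) = Pm ζ f) {W : Submodule F (Fin n → F)} (P : PieceH hF M W) :
    ∃ a J : ℕ, a ≤ f 0 ∧ finrank F W = a + orderOf (-qu) * J := by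
  classical
  obtain ⟨K, T, hK, hinj, -, hT, hMT⟩ := P.frame hM rfl
  have hTr : T ^ r = 1 := by
    rw [frame_scalar hinj hMT (z := 1) (by rw [one_smul]; exact hMr), one_smul]
  obtain ⟨μ, hμ, -⟩ := exists_mult (L := L) hζ T hTr
  have hinv := inv_of_unitary hF hζ hrL hqu T hT hTr hμ
  have hfix : ∀ {d : ℕ} (S : Matrix (Fin d) (Fin d) F), S ^ r = 1 → ∀ {φ : ZMod r → ℕ},
      S.charpoly.map (algebraMap F L) = Pm ζ φ → finrank F (LinearMap.ker (Matrix.toLin' S - 1)) = φ 0 := by
    intro d S hS φ hφ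
    rw [finrank_fix (r := r) hrF (by rw [← Matrix.toLin'_pow, hS]; exact Matrix.toLin'_one), Matrix.charpoly_toLin',
      eq_rootMultiplicity_map (algebraMap F L).injective, hφ, map_one, ← zp_zero (ζ := ζ) (r := r), count_roots_Pm hζ]
  obtain ⟨J, hJ⟩ := dvd_sum_erase (-qu) rfl _ _ hinv
  have h0 : μ 0 ≤ finrank F W := hinv.1 ▸ Finset.single_le_sum (fun y _ => Nat.zero_le _) (Finset.mem_univ (0 : ZMod r))
  refine ⟨μ 0, J, ?_, by omega⟩
  rw [← hfix T hTr hμ, ← hfix M hMr hf, ← (Submodule.equivMapOfInjective K hinj _).finrank_eq.symm]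
  refine Submodule.finrank_mono ?_
  rintro _ ⟨a, ha, rfl⟩
  rw [SetLike.mem_coe, LinearMap.mem_ker, LinearMap.sub_apply, Module.End.one_apply, Matrix.toLin'_apply,
    sub_eq_zero] at ha
  rw [LinearMap.mem_ker, LinearMap.sub_apply, Module.End.one_apply, Matrix.toLin'_apply, hMT, ha, sub_self]

omit L r in
/-- The non-degenerate subspaces are permuted transitively. -/
theorem count_dvd (hF : Fintype.card F = q ^ 2) {n m : ℕ} (hmn : m ≤ n) :
    Nat.card {W : Submodule F (Fin n → F) //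
        finrank F W = m ∧ ∀ u ∈ W, (∀ v ∈ W, hB hF n u v = 0) → u = 0} * guCard q (n - m) ∣ guCard q n := by
  classical
  set X := {W : Submodule F (Fin n → F) // finrank F W = m ∧ ∀ u ∈ W, (∀ v ∈ W, hB hF n u v = 0) → u = 0}
  let G := iso (hB hF n)
  letI : MulAction G X :=
    { smul := fun g W => ⟨W.1.map ((g : (Fin n → F) ≃ₗ[F] (Fin n → F)) : (Fin n → F) →ₗ[F] (Fin n → F)),
        (LinearEquiv.finrank_map_eq _ W.1).trans W.2.1, by
          rintro _ ⟨a, ha, rfl⟩ h
          rw [W.2.2 a ha fun b hb => by rw [← g.2 a b]; exact h _ ⟨b, hb, rfl⟩, map_zero]⟩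
      one_smul := fun W => Subtype.ext (Submodule.map_id _)
      mul_smul := fun A C W => Subtype.ext (by
        show W.1.map _ = (W.1.map _).map _
        rw [← Submodule.map_comp]
        rfl) }
  haveI : MulAction.IsPretransitive G X := by
    refine ⟨fun W W' => ?_⟩
    obtain ⟨L₁, hL₁, hi₁⟩ := Cfsg.Agent.S0837.exists_orth hF m W.1 W.2.1 W.2.2
    obtain ⟨L₂, hL₂, hi₂⟩ := Cfsg.Agent.S0837.exists_orth hF m W'.1 W'.2.1 W'.2.2
    have hinj : ∀ (K : (Fin m → F) →ₗ[F] (Fin n → F)), (∀ a b, hB hF n (K a) (K b) = hB hF m a b) →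
        Function.Injective K := fun K hK => (injective_iff_map_eq_zero K).2 fun a ha =>
      (hB_nondegenerate hF m).1 a fun b => by rw [← hK, ha, map_zero, LinearMap.zero_apply]
    let e := LinearEquiv.ofInjective L₁ (hinj L₁ hi₁)
    obtain ⟨t, ht, htx⟩ := witt (frob_ne_id hF) (frob_frob hF) (hB_isSymm hF n) (hB_nondegenerate hF n)
      (LinearMap.range L₁) (L₂ ∘ₗ (e.symm : _ →ₗ[F] (Fin m → F))) ((hinj L₂ hi₂).comp e.symm.injective)
      fun x y => by
        show hB hF n (L₂ (e.symm x)) (L₂ (e.symm y)) = _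
        rw [hi₂, ← hi₁]
        exact congrArg₂ (fun a b => hB hF n a b) (congrArg Subtype.val (e.apply_symm_apply x))
          (congrArg Subtype.val (e.apply_symm_apply y))
    refine ⟨⟨t, ht⟩, Subtype.ext ?_⟩
    show W.1.map _ = W'.1
    refine Submodule.eq_of_le_of_finrank_eq ?_ ((LinearEquiv.finrank_map_eq _ W.1).trans (W.2.1.trans W'.2.1.symm))
    rintro _ ⟨a, ha, rfl⟩
    show t a ∈ W'.1
    rw [show t a = _ from htx ⟨a, hL₁.symm ▸ ha⟩, ← hL₂]
    exact LinearMap.mem_range_self L₂ _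
  rcases isEmpty_or_nonempty X with hX | ⟨⟨W⟩⟩
  · have h0 : finrank F (headSub F n m) = m := by
      refine (LinearEquiv.finrank_eq (N := Fin m → F) ?_).trans (finrank_fin_fun F)
      exact
        { toFun := fun x i => x.1 (Fin.castLE hmn i)
          map_add' := fun x y => rfl
          map_smul' := fun c x => rfl
          invFun := fun a => ⟨fun i => if h : (i : ℕ) < m then a ⟨i, h⟩ else 0, fun i (hi : m ≤ (i : ℕ)) => dif_neg (by omega)⟩
          left_inv := fun x => Subtype.ext (funext fun i => by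
            show (if h : (i : ℕ) < m then x.1 (Fin.castLE hmn ⟨i, h⟩) else 0) = x.1 i
            split_ifs with h
            · rfl
            · exact (x.2 i (by omega)).symm)
          right_inv := fun a => funext fun i => dif_pos i.2 }
    exact (hX.false ⟨headSub F n m, h0, fun u hu h => funext fun i => by
      by_cases hi : (i : ℕ) < m
      · have h1 := h (Pi.single i 1) fun l (hl : m ≤ (l : ℕ)) =>
          Pi.single_eq_of_ne (fun e => by rw [e] at hl; omega) _
        rw [hB_single_right, one_mul] at h1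
        exact eq_zero_of_pow_eq_zero h1
      · exact hu i (by omega)⟩).elim
  · have hfix : Nat.card (fixer (hB hF n) W.1) = guCard q (n - m) :=
      card_fixer_nondeg hF W.1 (eq_bot_iff.2 fun x hx => (Submodule.mem_bot F).2
        (W.2.2 x hx.1 fun v hv => hB_symm_zero hF (hx.2 v hv))) (by rw [W.2.1]; omega)
    have hG : Nat.card G = guCard q n := by
      show Nat.card (iso (hB hF n)) = _
      rw [← fixer_bot]
      exact card_fixer_nondeg hF ⊥ (bot_inf_eq _) (by rw [finrank_bot, zero_add])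
    have hle : (fixer (hB hF n) W.1).subgroupOf G ≤ MulAction.stabilizer G W := fun g hg => by
      rw [MulAction.mem_stabilizer_iff]
      refine Subtype.ext (Submodule.eq_of_le_of_finrank_eq ?_ (LinearEquiv.finrank_map_eq _ W.1))
      rintro _ ⟨a, ha, rfl⟩
      show (g : (Fin n → F) ≃ₗ[F] (Fin n → F)) a ∈ W.1
      have hga : (g : (Fin n → F) ≃ₗ[F] (Fin n → F)) a = a := hg.2 a ha
      rw [hga]
      exact ha
    rw [← MulAction.index_stabilizer_of_transitive G W, ← hG, ← hfix, mul_comm]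
    have hF' : Nat.card (fixer (hB hF n) W.1) = Nat.card ((fixer (hB hF n) W.1).subgroupOf G) :=
      Nat.card_congr (Subgroup.subgroupOfEquivOfLe (H := fixer (hB hF n) W.1) (K := G) fun g hg => hg.1).toEquiv.symm
    rw [hF', ← Subgroup.card_mul_index (MulAction.stabilizer G W)]
    exact mul_dvd_mul_right (Subgroup.card_dvd_of_le hle) _

/-- The number of non-degenerate subspaces is prime to `r` when they are small. -/
theorem not_dvd_count (hF : Fintype.card F = q ^ 2) (hrq : ¬ r ∣ q) {qu : (ZMod r)ˣ}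
    (hqu : (qu : ZMod r) = (q : ZMod r)) {n m : ℕ} (hmn : m ≤ n) (hm : m ≤ n % orderOf (-qu)) :
    ¬ r ∣ Nat.card {W : Submodule F (Fin n → F) //
        finrank F W = m ∧ ∀ u ∈ W, (∀ v ∈ W, hB hF n u v = 0) → u = 0} := by
  classical
  intro hdvd
  have hr := (Fact.out : r.Prime)
  have hq := two_le_q hF
  set c := orderOf (-qu) with hc
  have h := count_dvd hF hmn
  let g : ℕ → ℕ := fun i => if Even i then q ^ (i + 1) + 1 else q ^ (i + 1) - 1
  obtain ⟨N, rfl⟩ := Nat.exists_eq_add_of_le hmn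
  rw [Nat.add_sub_cancel_left, guCard, guCard,
    ← (Finset.prod_range_mul_prod_Ico (fun i => if Even i then q ^ (i + 1) + 1 else q ^ (i + 1) - 1)
      (show N ≤ m + N by omega))] at h
  have hgpos : ∀ i, 0 < g i := fun i => by
    show 0 < if Even i then q ^ (i + 1) + 1 else q ^ (i + 1) - 1
    have := Nat.lt_of_lt_of_le (show 1 < q by omega) (Nat.le_self_pow (Nat.add_one_ne_zero i) q)
    split_ifs <;> omega
  have hpos : 0 < ∏ i ∈ Finset.range N, g i := Finset.prod_pos fun i _ => hgpos i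
  obtain ⟨s, hs⟩ := hdvd
  rw [hs] at h
  have h' : r * ∏ i ∈ Finset.range N, g i ∣ q ^ ((m + N) * (m + N - 1) / 2) *
      ((∏ i ∈ Finset.range N, g i) * ∏ i ∈ Finset.Ico N (m + N), g i) :=
    (Dvd.intro (s * q ^ (N * (N - 1) / 2)) (by ring)).trans h
  have h2 : r ∣ q ^ ((m + N) * (m + N - 1) / 2) * ∏ i ∈ Finset.Ico N (m + N), g i :=
    Nat.dvd_of_mul_dvd_mul_right hpos (by convert h' using 1; ring)
  rcases (Nat.Prime.dvd_mul hr).1 h2 with h3 | h3
  · exact hrq (hr.dvd_of_dvd_pow h3)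
  obtain ⟨l, hl, hd⟩ := (Prime.dvd_finsetProd_iff hr.prime _).1 h3
  rw [Finset.mem_Ico] at hl
  have hcl : c ∣ l + 1 := by
    refine orderOf_dvd_of_pow_eq_one (Units.ext ?_)
    rw [Units.val_pow_eq_pow_val, Units.val_neg, hqu, Units.val_one]
    simp only [g] at hd
    split_ifs at hd with he
    · rw [← ZMod.natCast_eq_zero_iff, Nat.cast_add, Nat.cast_pow, Nat.cast_one] at hd
      rw [(he.add_one).neg_pow]
      linear_combination -hd
    · rw [← ZMod.natCast_eq_zero_iff, Nat.cast_sub (Nat.one_le_pow _ _ (by omega)), Nat.cast_pow, Nat.cast_one,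
        sub_eq_zero] at hd
      rw [(Nat.not_even_iff_odd.1 he).add_one.neg_pow, hd]
  obtain ⟨x, hx⟩ := hcl
  have hdm := Nat.div_add_mod (m + N) c
  have hlt : (m + N) % c < c := Nat.mod_lt _ (orderOf_pos _)
  have h4 : c * ((m + N) / c) < c * x := by omega
  have h5 : c * ((m + N) / c + 1) ≤ c * x := Nat.mul_le_mul_left c (Nat.lt_of_mul_lt_mul_left h4)
  rw [mul_add, mul_one] at h5
  omega

end Cfsg.Lib.Linear.HermFix
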