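import Cfsg.Agent.Lib.Linear.NondegFix.HermPieces
import Cfsg.Agent.Lib.Linear.JordanForms.Main

/-!
# Unipotent unitary matrices of given Jordan type

A block of size at most `p` carries a symmetric or alternating invariant form over the prime field, hence,
after scaling by an element of trace zero in the second case, an invariant Hermitian form.
-/

set_option autoImplicit false

universe u

namespace Cfsg.Lib.Linear.HermFix

open Module Cfsg.Lib.Linear.Herm Cfsg.Lib.Linear.IsoFix Cfsg.Lib.Linear.JordanForms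
open scoped Matrix

/-- A functional on a small block with the given behaviour under the involution, in any characteristic. -/
theorem exists_tau_small (p : ℕ) [Fact p.Prime] {d : ℕ} (hd : 1 ≤ d) (hdp : d ≤ p) :
    ∃ τ : A (ZMod p) d →ₗ[ZMod p] ZMod p, τ (gen ^ (d - 1)) ≠ 0 ∧ ∀ a, τ (st a) = (-1) ^ (d - 1) * τ a := by
  by_cases h2 : (2 : ZMod p) = 0
  · have hp2 : p = 2 := (Nat.prime_dvd_prime_iff_eq Fact.out Nat.prime_two).1
      ((ZMod.natCast_eq_zero_iff 2 p).1 (by exact_mod_cast h2))
    have hneg : (-1 : ZMod p) = 1 := by linear_combination -h2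
    refine ⟨top (by omega), by rw [top_gen_pow]; exact one_ne_zero, fun a => ?_⟩
    rw [hneg, one_pow, one_mul]
    suffices hst : st (F := ZMod p) (d := d) = AlgHom.id (ZMod p) _ by rw [hst]; rfl
    refine AdjoinRoot.algHom_ext ?_
    show st (gen : A (ZMod p) d) = gen
    rw [st_gen]
    rcases (show d = 1 ∨ d = 2 by omega) with rfl | rfl
    · have h0 : (gen : A (ZMod p) 1) = 0 := by
        have := gen_pow_self (F := ZMod p) (d := 1)
        rwa [pow_one] at this
      rw [h0, zero_mul, neg_zero]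
    · have hn : (-1 : A (ZMod p) 2) = 1 := by
        rw [← map_one (algebraMap (ZMod p) (A (ZMod p) 2)), ← map_neg, hneg]
      rw [vv, Finset.sum_range_succ, Finset.sum_range_one, pow_zero, pow_one, mul_add, mul_one, mul_neg, ← pow_two,
        gen_pow_self, neg_zero, add_zero, neg_eq_neg_one_mul, hn, one_mul]
  · exact exists_tau h2 (by omega)

/-- A block over the prime field with an invariant symmetric or skew form. -/
theorem exists_form (p : ℕ) [Fact p.Prime] {d : ℕ} (hd : 1 ≤ d) (hdp : d ≤ p) :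
    ∃ J : Matrix (Fin d) (Fin d) (ZMod p), (Cfsg.jordanBlock d (ZMod p))ᵀ * J * Cfsg.jordanBlock d (ZMod p) = J ∧
      IsUnit J ∧ Jᵀ = ((-1 : ZMod p) ^ (d - 1)) • J := by
  classical
  obtain ⟨τ, hτ, hst⟩ := exists_tau_small p hd hdp
  set b := bas (F := ZMod p) (d := d)
  refine ⟨LinearMap.BilinForm.toMatrix b (frm τ), ?_, ?_, ?_⟩
  · have hA : LinearMap.toMatrix b b (LinearMap.mulLeft (ZMod p) (uu : A (ZMod p) d)) = Cfsg.jordanBlock d (ZMod p) := by
      ext i j
      rw [LinearMap.toMatrix_apply, LinearMap.mulLeft_apply, bas_apply, uu, add_mul, one_mul, ← pow_succ', map_add,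
        Finsupp.add_apply, bas_repr_gen_pow, bas_repr_gen_pow, Cfsg.jordanBlock, Matrix.of_apply]
      by_cases h : (i : ℕ) = j
      · simp [h]
      · simp [h, Ne.symm h, eq_comm]
    rw [← hA, ← LinearMap.BilinForm.toMatrix_comp b b]
    congr 1
    refine LinearMap.ext fun x => LinearMap.ext fun y => ?_
    exact frm_uu τ x y
  · rw [Matrix.isUnit_iff_isUnit_det, isUnit_iff_ne_zero]
    refine (Matrix.nondegenerate_iff_det_ne_zero).1 ?_
    have hnd : (frm τ).Nondegenerate := by
      refine ⟨fun a h => ?_, fun a h => ?_⟩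
      · by_contra ha
        obtain ⟨x, hx⟩ := frm_nondeg τ hτ ha
        exact hx (h x)
      · by_contra ha
        obtain ⟨x, hx⟩ := frm_nondeg τ hτ ha
        refine hx ?_
        have h1 := hst (x * st a)
        rw [map_mul, st_st, mul_comm (st x)] at h1
        rw [frm_apply, h1, ← frm_apply, h x, mul_zero]
    exact LinearMap.BilinForm.nondegenerate_toMatrix_iff (b := b) |>.2 hnd
  · ext i j
    rw [Matrix.transpose_apply, Matrix.smul_apply, smul_eq_mul, LinearMap.BilinForm.toMatrix_apply, LinearMap.BilinForm.toMatrix_apply,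
      frm_apply, frm_apply, ← hst, map_mul (st (F := ZMod p) (d := d)), st_st, mul_comm]

variable {F : Type u} [Field F] [Fintype F] {q : ℕ}

/-- A block with an invariant Hermitian form. -/
theorem exists_herm_block (hF : Fintype.card F = q ^ 2) (p : ℕ) [Fact p.Prime] [CharP F p] {d : ℕ} (hd : 1 ≤ d)
    (hdp : d ≤ p) :
    ∃ J : Matrix (Fin d) (Fin d) F, adj hF J = J ∧ IsUnit J ∧
      adj hF (Cfsg.jordanBlock d F) * J * Cfsg.jordanBlock d F = J := by
  classical
  obtain ⟨J₀, hJ, hJu, hJt⟩ := exists_form p hd hdp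
  let φ : ZMod p →+* F := ZMod.castHom dvd_rfl F
  have hσφ : ∀ a, frob hF (φ a) = φ a := fun a => RingHom.congr_fun (Subsingleton.elim ((frob hF).comp φ) φ) a
  have hblock : (Cfsg.jordanBlock d (ZMod p)).map φ = Cfsg.jordanBlock d F := by
    ext i j
    simp only [Matrix.map_apply, Cfsg.jordanBlock, Matrix.of_apply]
    split_ifs <;> simp
  have hmap : ∀ X : Matrix (Fin d) (Fin d) (ZMod p), adj hF (X.map φ) = Xᵀ.map φ := fun X => by
    ext i j
    exact hσφ _
  obtain ⟨ω, hω, hωσ⟩ : ∃ ω : F, ω ≠ 0 ∧ frob hF ω = (-1) ^ (d - 1) * ω := by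
    rcases Nat.even_or_odd (d - 1) with he | ho
    · exact ⟨1, one_ne_zero, by rw [he.neg_one_pow, one_mul, map_one]⟩
    · obtain ⟨y, hy0, hy⟩ := exists_trace_zero (frob_ne_id hF) (frob_frob hF)
      exact ⟨y, hy0, by rw [ho.neg_one_pow]; linear_combination hy⟩
  refine ⟨ω • J₀.map φ, ?_, ?_, ?_⟩
  · rw [adj_smul, hmap, hJt, Matrix.map_smul' _ _ _ (map_mul φ), smul_smul, hωσ, map_pow, map_neg, map_one,
      mul_right_comm, ← mul_pow, neg_mul_neg, one_mul, one_pow, one_mul]
  · rw [Matrix.isUnit_iff_isUnit_det, Matrix.det_smul, isUnit_iff_ne_zero]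
    refine mul_ne_zero (pow_ne_zero _ hω) ?_
    rw [show (J₀.map φ).det = φ J₀.det from (φ.map_det J₀).symm]
    exact (_root_.map_ne_zero φ).2 ((Matrix.isUnit_iff_isUnit_det J₀).1 hJu).ne_zero
  · rw [← hblock, hmap, Matrix.mul_smul, Matrix.smul_mul, ← Matrix.map_mul, ← Matrix.map_mul, hJ]

/-- A unipotent unitary matrix of given type. -/
theorem exists_type (hF : Fintype.card F = q ^ 2) (p : ℕ) [Fact p.Prime] [CharP F p] {n : ℕ} {μ : Multiset ℕ}
    (hpos : ∀ a ∈ μ, 0 < a ∧ a ≤ p) (hsum : μ.sum = n) :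
    ∃ g : Matrix (Fin n) (Fin n) F, IsU hF g ∧ g ^ p = 1 ∧ (∀ j, 1 ≤ j → muM g j = μ.count j) ∧
      (g - 1) ^ p = 0 := by
  classical
  set l := μ.toList
  let d : Fin l.length → ℕ := fun k => l.get k
  have hd : Finset.univ.val.map d = μ := by rw [Fin.univ_val_map, List.ofFn_get, Multiset.coe_toList]
  have hmem : ∀ k, d k ∈ μ := fun k => Multiset.mem_toList.1 (List.get_mem _ _)
  have hds : ∑ k, d k = n := by rw [← hsum, ← hd]; rfl
  have hcnt : ∀ j, (Finset.univ.filter fun k => d k = j).card = μ.count j := fun j => by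
    rw [← hd, Multiset.count_map]
    exact congrArg Multiset.card (by rw [Finset.filter_val]; exact Multiset.filter_congr fun k _ => eq_comm)
  choose J hJ hJu hJA using fun k => exists_herm_block hF p (hpos _ (hmem k)).1 (hpos _ (hmem k)).2
  have hcard : Fintype.card ((k : Fin l.length) × Fin (d k)) = n := by
    rw [Fintype.card_sigma]; simp only [Fintype.card_fin]; exact hds
  let e : ((k : Fin l.length) × Fin (d k)) ≃ Fin n := Fintype.equivFinOfCardEq hcard
  let R := Matrix.reindexAlgEquiv F F e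
  have hadj : ∀ X, adj hF (R X) = R (adj hF X) := fun X => rfl
  set A : Matrix ((k : Fin l.length) × Fin (d k)) ((k : Fin l.length) × Fin (d k)) F := Cfsg.jordanTypeMatrix d F
  have hAb : A = Matrix.blockDiagonal' fun k => Cfsg.jordanBlock (d k) F := rfl
  set JJ := Matrix.blockDiagonal' J
  have hab : ∀ X : ∀ k, Matrix (Fin (d k)) (Fin (d k)) F,
      adj hF (Matrix.blockDiagonal' X) = Matrix.blockDiagonal' fun k => adj hF (X k) := fun X => by
    rw [adj, Matrix.blockDiagonal'_map _ _ (map_zero _), Matrix.blockDiagonal'_transpose]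
    rfl
  obtain ⟨w, hw⟩ : ∃ w : F, frob hF w ≠ w := by
    by_contra h
    push Not at h
    exact frob_ne_id hF (RingHom.ext h)
  have hJJu : IsUnit JJ := by
    choose K hK using fun k => (hJu k).exists_right_inv
    refine IsUnit.of_mul_eq_one (Matrix.blockDiagonal' K) ?_
    rw [← Matrix.blockDiagonal'_mul, show (fun k => J k * K k) = fun k => (1 : Matrix (Fin (d k)) (Fin (d k)) F) from
      funext hK]
    exact Matrix.blockDiagonal'_one
  obtain ⟨S, hSu, hS, -⟩ := Cfsg.Lib.Linear.HermitianFactor.exists_factor (σ := frob hF) (frob_frob hF) hw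
    (H := R JJ) (by
      show adj hF (R JJ) = R JJ
      rw [hadj, hab, show (fun k => adj hF (J k)) = J from funext hJ]) (hJJu.map R)
  replace hS : adj hF S * S = R JJ := hS
  obtain ⟨S, rfl⟩ := hSu
  let g : Matrix (Fin n) (Fin n) F := S.val * R A * (S⁻¹).val
  have hN : adj hF (R A) * R JJ * R A = R JJ := by
    rw [hadj, ← map_mul, ← map_mul, hAb, hab, ← Matrix.blockDiagonal'_mul, ← Matrix.blockDiagonal'_mul]
    congr 2
    exact funext hJA
  have hgU : IsU hF g := by
    show adj hF g * g = 1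
    have h1 : adj hF g * g = adj hF (S⁻¹).val * (adj hF (R A) * (adj hF S.val * S.val) * R A) * (S⁻¹).val := by
      simp only [g, adj_mul, mul_assoc]
    rw [h1, hS, hN, ← hS, ← mul_assoc, ← adj_mul, Units.mul_inv, adj_one, one_mul, Units.mul_inv]
  have hconj : IsConj (Matrix.reindex e e A) g := by
    refine ⟨S, ?_⟩
    show S.val * R A = g * S.val
    rw [show g * S.val = S.val * R A * ((S⁻¹).val * S.val) by simp only [g, mul_assoc], Units.inv_mul, mul_one]
  have hmu : ∀ j, 1 ≤ j → muM g j = μ.count j := fun j hj => by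
    rw [← hcnt, muM, mu]
    have key : ∀ k, (d k - (j - 1)) + (d k - (j + 1)) = 2 * (d k - j) + if d k = j then 1 else 0 := fun k => by
      split_ifs <;> omega
    have h1 : ∑ k, (d k - (j - 1)) + ∑ k, (d k - (j + 1)) =
        2 * ∑ k, (d k - j) + (Finset.univ.filter (fun k => d k = j)).card := by
      rw [← Finset.sum_add_distrib, Finset.sum_congr rfl fun k _ => key k, Finset.sum_add_distrib, Finset.mul_sum,
        Finset.card_filter]
    have h2 := kd_of_isConj d e hconj (j - 1)
    have h3 := kd_of_isConj d e hconj j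
    have h4 := kd_of_isConj d e hconj (j + 1)
    omega
  have hgp : (Matrix.toLinAlgEquiv' g - 1 : End F (Fin n → F)) ^ p = 0 := pow_eq_zero_of_sum _ (by
    rw [finrank_fin_fun]
    refine Eq.trans ?_ hsum
    rw [Finset.sum_multiset_count_of_subset μ (Finset.range (p + 1))
      fun a ha => Finset.mem_range.2 (Nat.lt_succ_of_le (hpos a (Multiset.mem_toFinset.1 ha)).2)]
    refine Finset.sum_congr rfl fun j _ => ?_
    rcases Nat.eq_zero_or_pos j with rfl | hj
    · simp
    · rw [show mu (Matrix.toLinAlgEquiv' g - 1 : End F (Fin n → F)) j = μ.count j from hmu j hj, smul_eq_mul, mul_comm])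
  have hg1 : (g - 1) ^ p = 0 := by
    apply Matrix.toLinAlgEquiv'.injective
    rw [map_pow, map_sub, map_one, map_zero]
    exact hgp
  refine ⟨g, hgU, ?_, hmu, hg1⟩
  rcases Nat.eq_zero_or_pos n with rfl | hn
  · exact Subsingleton.elim _ _
  · haveI : Nonempty (Fin n) := ⟨⟨0, hn⟩⟩
    haveI : CharP (Matrix (Fin n) (Fin n) F) p := inferInstance
    rw [sub_pow_char_of_commute (R := Matrix (Fin n) (Fin n) F) p (Commute.one_right _), one_pow, sub_eq_zero] at hg1
    exact hg1

end Cfsg.Lib.Linear.HermFix
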