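import Cfsg.Agent.Lib.Linear.NondegFix.Types
import Cfsg.Agent.Lib.Linear.IsotropicFix.OrthInvol
import Cfsg.Agent.Lib.Linear.FormsHalf

/-!
# Involutions fixing non-degenerate subspaces of either type
-/

set_option autoImplicit false

universe u

namespace Cfsg.Lib.Linear.NondegFix

open Module Cfsg.Lib.Linear.Orth Cfsg.Lib.Linear.IsoFix
open scoped Matrix

variable {F : Type u} [Field F] [Fintype F] {ι : Type} [Fintype ι] [DecidableEq ι]
  {Q : (ι → F) → F} {B : LinearMap.BilinForm F (ι → F)}

/-- An orthogonal list of prescribed discriminant in the span of a longer one. -/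
theorem exists_list_disc (C : Space Q B) (h2 : (2 : F) ≠ 0) {L : List (ι → F)} (hL : OrthList Q B L) {l : ℕ}
    (hl : 1 ≤ l) (hlt : l < L.length) {t : F} (ht : t ≠ 0) :
    ∃ L' : List (ι → F), OrthList Q B L' ∧ L'.length = l ∧ (∀ v ∈ L', v ∈ Submodule.span F {x | x ∈ L}) ∧
      (L'.map Q).prod = t := by
  match L, hlt with
  | [], h => simp at h
  | [a], h => simp at h; omega
  | a :: b :: rest, h =>
    obtain ⟨hQ, hP⟩ := hL
    simp only [List.pairwise_cons, List.mem_cons, forall_eq_or_imp] at hP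
    obtain ⟨⟨hab, har⟩, hbr, hrest⟩ := hP
    set T := rest.take (l - 1) with hT
    have hTmem : ∀ x ∈ T, x ∈ rest := fun x hx => List.mem_of_mem_take hx
    have hprod : (T.map Q).prod ≠ 0 := List.prod_ne_zero fun h0 => by
      obtain ⟨x, hx, hx0⟩ := List.mem_map.1 h0
      exact hQ x (by simp [hTmem x hx]) hx0
    have hQa : Q a ≠ 0 := hQ a (by simp)
    have hQb : Q b ≠ 0 := hQ b (by simp)
    obtain ⟨x, y, hxy⟩ : ∃ x y : F, x ^ 2 * Q a + y ^ 2 * Q b = t / (T.map Q).prod := by
      obtain ⟨x, y, hxy⟩ := FiniteField.exists_root_sum_quadratic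
        (f := Polynomial.C (Q a) * Polynomial.X ^ 2 + Polynomial.C 0 * Polynomial.X +
          Polynomial.C (-(t / (T.map Q).prod)))
        (g := Polynomial.C (Q b) * Polynomial.X ^ 2 + Polynomial.C 0 * Polynomial.X + Polynomial.C 0)
        (Polynomial.degree_quadratic hQa) (Polynomial.degree_quadratic hQb)
        (FiniteField.odd_card_of_char_ne_two fun h => h2 (by
          haveI : CharP F 2 := ringChar.of_eq h
          exact CharTwo.two_eq_zero))
      exact ⟨x, y, by simp at hxy; linear_combination hxy⟩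
    set u : ι → F := x • a + y • b with hu
    have hQu : Q u = t / (T.map Q).prod := by
      rw [hu, C.add, C.smul, C.smul]
      simpa [hab] using hxy
    have hur : ∀ z ∈ T, B u z = 0 := fun z hz => by simp [hu, har z (hTmem z hz), hbr z (hTmem z hz)]
    refine ⟨u :: T, ⟨?_, ?_⟩, ?_, ?_, ?_⟩
    · simp only [List.mem_cons, forall_eq_or_imp]
      exact ⟨by rw [hQu]; exact div_ne_zero ht hprod, fun z hz => hQ z (by simp [hTmem z hz])⟩
    · exact List.pairwise_cons.2 ⟨hur, hrest.sublist (List.take_sublist _ _)⟩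
    · simp at h
      simp [hT]; omega
    · simp only [List.mem_cons, forall_eq_or_imp]
      exact ⟨add_mem (Submodule.smul_mem _ _ (Submodule.subset_span (by simp)))
        (Submodule.smul_mem _ _ (Submodule.subset_span (by simp))),
        fun z hz => Submodule.subset_span (by simp [hTmem z hz])⟩
    · rw [List.map_cons, List.prod_cons, hQu, div_mul_cancel₀ _ hprod]

omit [Fintype F] in
/-- The span of an orthogonal list. -/
theorem span_orthList (C : Space Q B) (h2 : (2 : F) ≠ 0) {L : List (ι → F)} (hL : OrthList Q B L) :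
    finrank F (Submodule.span F {x | x ∈ L}) = L.length ∧ NDeg B (Submodule.span F {x | x ∈ L}) ∧
      LinearIndependent F (fun i : Fin L.length => L.get i) ∧
      ∀ i j : Fin L.length, i ≠ j → B (L.get i) (L.get j) = 0 := by
  classical
  obtain ⟨hQ, hP⟩ := hL
  have ho : ∀ i j : Fin L.length, i ≠ j → B (L.get i) (L.get j) = 0 := fun i j hij => by
    rcases lt_or_gt_of_ne hij with h | h
    · exact List.pairwise_iff_get.1 hP i j h
    · rw [C.symm]; exact List.pairwise_iff_get.1 hP j i h
  have hne : ∀ i : Fin L.length, B (L.get i) (L.get i) ≠ 0 := fun i => by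
    rw [C.self]; exact mul_ne_zero h2 (hQ _ (List.get_mem L i))
  have hli := Cfsg.Lib.Linear.Forms.orth_li B (fun i => L.get i) ho hne
  have hset : {x | x ∈ L} = Set.range L.get := by ext x; simp [List.mem_iff_get]
  refine ⟨by rw [hset, finrank_span_eq_card hli, Fintype.card_fin], fun x hx h => ?_, hli, ho⟩
  rw [hset] at hx
  obtain ⟨g, rfl⟩ := (Submodule.mem_span_range_iff_exists_fun F).1 hx
  refine Finset.sum_eq_zero fun i _ => ?_
  have h1 := h (L.get i) (Submodule.subset_span (List.get_mem L i))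
  rw [map_sum, LinearMap.sum_apply, Finset.sum_eq_single i (fun j _ hj => by
      rw [map_smul, LinearMap.smul_apply, ho j i hj, smul_zero]) (by simp), map_smul, LinearMap.smul_apply,
    smul_eq_mul, mul_eq_zero, or_iff_left (hne i)] at h1
  rw [h1, zero_smul]

/-- The type of the span of an orthogonal list. -/
theorem plus_iff_disc (C : Space Q B) (h2 : (2 : F) ≠ 0) {L : List (ι → F)} (hL : OrthList Q B L) {k : ℕ}
    (hlen : L.length = 2 * k) :
    Cfsg.Geo.IsPlusTypeOn Q (Submodule.span F {x | x ∈ L}) ↔ IsSquare ((-1) ^ k * (L.map Q).prod) := by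
  classical
  obtain ⟨hd, -, hli, ho⟩ := span_orthList C h2 hL
  constructor
  · rintro ⟨U, hU, hQU, hdim⟩
    set W := Submodule.span F {x | x ∈ L} with hWdef
    let v : Fin L.length → W := fun i => ⟨L.get i, Submodule.subset_span (List.get_mem L i)⟩
    let b : Basis (Fin L.length) F W := basisOfLinearIndependentOfCardEqFinrank'
      v (LinearIndependent.of_comp W.subtype hli) (by rw [Fintype.card_fin, hd])
    have hb : ∀ i, ((b i : W) : ι → F) = L.get i := fun i => by simp [b, v]
    have hU' : finrank F (Submodule.comap W.subtype U) = k := by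
      rw [(Submodule.comapSubtypeEquivOfLe hU).finrank_eq]
      omega
    have h1 := Cfsg.Lib.Linear.Forms.half_disc (B.restrict W) (fun x y => C.symm _ _) (N := k)
      (by rw [hd, hlen]) (Submodule.comap W.subtype U) hU'
      (fun x hx y hy => by
        show B (x : ι → F) (y : ι → F) = 0
        rw [← C.polar, QuadraticMap.polar, hQU (x : ι → F) hx, hQU (y : ι → F) hy,
          hQU ((x : ι → F) + y) (U.add_mem hx hy), sub_zero, sub_zero]) b
    have hmat : LinearMap.BilinForm.toMatrix b (B.restrict W) = Matrix.diagonal fun i => 2 * Q (L.get i) := by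
      ext i j
      rw [LinearMap.BilinForm.toMatrix_apply]
      show B ((b i : W) : ι → F) ((b j : W) : ι → F) = _
      rw [hb, hb]
      by_cases hij : i = j
      · subst hij; rw [Matrix.diagonal_apply_eq, C.self]
      · rw [Matrix.diagonal_apply_ne _ hij, ho i j hij]
    rw [hmat, Matrix.det_diagonal, Finset.prod_mul_distrib, Finset.prod_const, Finset.card_univ, Fintype.card_fin,
      show (2 : F) ^ L.length = 2 ^ (2 * k) by rw [hlen]] at h1
    obtain ⟨c, hc⟩ := h1
    refine ⟨c / 2 ^ k, ?_⟩
    have hp : (L.map Q).prod = ∏ i : Fin L.length, Q (L.get i) := by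
      rw [← List.prod_ofFn]
      congr 1
      exact (List.ofFn_get L ▸ List.map_ofFn (g := Q) (f := L.get) : _)
    rw [hp, div_mul_div_comm, eq_div_iff (by positivity)]
    linear_combination hc
  · intro hs
    obtain ⟨U, hU, hUk, hUQ⟩ := exists_sing C h2 k L hL (Or.inr ⟨hlen.symm, hs⟩)
    exact ⟨U, hU, hUQ, by rw [hUk, hd, hlen]⟩

omit [Fintype F] in
theorem orthList_append {L L' : List (ι → F)} (h : OrthList Q B L) (h' : OrthList Q B L')
    (hcross : ∀ x ∈ L, ∀ y ∈ L', B x y = 0) : OrthList Q B (L ++ L') :=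
  ⟨fun v hv => (List.mem_append.1 hv).elim (h.1 v) (h'.1 v), List.pairwise_append.2 ⟨h.2, h'.2, hcross⟩⟩

/-- An involution of `Ω` in odd dimension fixes non-degenerate subspaces of both types of every even
dimension. -/
theorem invol_fixes (C : Space Q B) (h2 : (2 : F) ≠ 0) (hn : 2 ≤ Fintype.card ι) (g : ↥(Cfsg.isometryGroup F Q))
    (hg : g ∈ Omega F Q) (hgg : g ^ 2 = 1) (hg1 : g ≠ 1) (hodd : Odd (Fintype.card ι)) {k : ℕ} (hk : 1 ≤ k)
    (hkn : 2 * k < Fintype.card ι) (plus : Bool) :
    ∃ W : Submodule F (ι → F), finrank F W = 2 * k ∧ NDeg B W ∧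
      (Cfsg.Geo.IsPlusTypeOn Q W ↔ plus = true) ∧ ∀ x ∈ W, (g : GL ι F).val *ᵥ x ∈ W := by
  classical
  obtain ⟨Lp, Lm, hp, hm, hOp, hOm, hlen, ⟨a, ha⟩, -⟩ := exists_lists_omega C h2 hn g hg hgg
  have hcross : ∀ x ∈ Lp, ∀ v ∈ Lm, B x v = 0 := fun x hx v hv => by
    have h3 := C.B_act g.2 x v
    rw [hp x hx, hm v hv, map_neg] at h3
    have h4 : (2 : F) * B x v = 0 := by linear_combination -h3
    exact (mul_eq_zero.1 h4).resolve_left h2
  have ha1 : 1 ≤ a := by
    by_contra h0
    refine hg1 (Subtype.ext (gl_ext fun x => ?_))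
    have hLm : Lm = [] := List.length_eq_zero_iff.1 (by omega)
    obtain ⟨hd, -, -, -⟩ := span_orthList C h2 hOp
    have htop : Submodule.span F {x | x ∈ Lp} = ⊤ := Submodule.eq_top_of_finrank_eq (by
      rw [hd, finrank_fintype_fun_eq_card]
      rw [hLm, List.length_nil, add_zero] at hlen
      exact hlen)
    have hx : x ∈ Submodule.span F {x | x ∈ Lp} := htop ▸ Submodule.mem_top
    have := (Submodule.span_le.2 (fun v hv => sub_eq_zero.2 (hp v hv)) :
      _ ≤ LinearMap.ker (Matrix.mulVecLin (g : GL ι F).val - LinearMap.id)) hx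
    rw [Subgroup.coe_one, Units.val_one, Matrix.one_mulVec]
    simpa [sub_eq_zero] using this
  obtain ⟨o, ho⟩ := hodd
  set l := max 1 (2 * k - Lp.length) with hl
  set T := Lp.take (2 * k - l) with hT
  have hTm : ∀ x ∈ T, x ∈ Lp := fun x hx => List.mem_of_mem_take hx
  have hTO : OrthList Q B T := ⟨fun v hv => hOp.1 v (hTm v hv), hOp.2.sublist (List.take_sublist _ _)⟩
  have hTne : (T.map Q).prod ≠ 0 := List.prod_ne_zero fun h0 => by
    obtain ⟨x, hx, hx0⟩ := List.mem_map.1 h0
    exact hTO.1 x hx hx0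
  obtain ⟨t, ht, hts⟩ : ∃ t : F, t ≠ 0 ∧ (IsSquare t ↔ plus = true) := by
    obtain ⟨ν, hν⟩ := FiniteField.exists_nonsquare (F := F) fun h0 => h2 (by
      haveI : CharP F 2 := ringChar.of_eq h0
      exact CharTwo.two_eq_zero)
    cases plus
    · exact ⟨ν, fun h => hν (h ▸ IsSquare.zero), by simpa using hν⟩
    · exact ⟨1, one_ne_zero, by simp⟩
  obtain ⟨L', hL', hL'l, hL'm, hL'p⟩ := exists_list_disc C h2 hOm (l := l) (le_max_left _ _) (by omega)
    (t := t * (-1) ^ k / (T.map Q).prod) (div_ne_zero (mul_ne_zero ht (pow_ne_zero _ (by norm_num))) hTne)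
  have hO : OrthList Q B (T ++ L') := orthList_append hTO hL' fun x hx y hy =>
    orth_span (L := Lm) (fun v hv => hcross x (hTm x hx) v hv) _ (hL'm y hy)
  have hlen' : (T ++ L').length = 2 * k := by simp [hT, hL'l]; omega
  obtain ⟨hd, hnd, -, -⟩ := span_orthList C h2 hO
  refine ⟨Submodule.span F {x | x ∈ T ++ L'}, by rw [hd, hlen'], hnd, ?_, fun x hx => ?_⟩
  · rw [plus_iff_disc C h2 hO hlen', List.map_append, List.prod_append, hL'p, ← hts]
    rw [mul_div_cancel₀ _ hTne]
    rw [show (-1 : F) ^ k * (t * (-1) ^ k) = t * ((-1) * (-1)) ^ k by rw [mul_pow]; ring]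
    simp
  · have hle : Submodule.span F {x | x ∈ T ++ L'} ≤
        (Submodule.span F {x | x ∈ T ++ L'}).comap (Matrix.mulVecLin (g : GL ι F).val) := by
      refine Submodule.span_le.2 fun v hv => ?_
      rw [SetLike.mem_coe, Submodule.mem_comap, Matrix.mulVecLin_apply]
      rcases List.mem_append.1 hv with h | h
      · rw [hp v (hTm v h)]; exact Submodule.subset_span hv
      · have h' : (g : GL ι F).val *ᵥ v = -v := by
          have := (Submodule.span_le.2 (fun w hw => by
              rw [SetLike.mem_coe, LinearMap.mem_ker, LinearMap.add_apply, Matrix.mulVecLin_apply, hm w hw]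
              simp) :
            Submodule.span F {x | x ∈ Lm} ≤ LinearMap.ker (Matrix.mulVecLin (g : GL ι F).val + LinearMap.id)) (hL'm v h)
          simpa [add_eq_zero_iff_eq_neg] using this
        rw [h']; exact neg_mem (Submodule.subset_span hv)
    exact hle hx

end Cfsg.Lib.Linear.NondegFix
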