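import Cfsg.Agent.Lib.Linear.NondegFix.SqNeg

/-!
# Elements of order two on subspaces of even dimension, odd characteristic
-/

set_option autoImplicit false

universe u

namespace Cfsg.Lib.Linear.NondegFix

open Module Cfsg.Lib.Linear.Orth Cfsg.Lib.Linear.IsoFix Cfsg.Agent.Lib.Linear.PrimeClasses
open scoped Matrix

variable {F : Type u} [Field F] [Fintype F] {ι : Type} [Fintype ι] [DecidableEq ι]
  {Q : (ι → F) → F} {B : LinearMap.BilinForm F (ι → F)}

/-- Eigenvector lists of prescribed length and discriminant. -/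
theorem exists_eig_list (C : Space Q B) (h2 : (2 : F) ≠ 0) (g : ↥(Cfsg.isometryGroup F Q)) (hn : 2 ≤ Fintype.card ι)
    (hg : g ∈ Omega F Q) (hgg : g ^ 2 = 1) {n₁ : ℕ} (h1 : 1 ≤ n₁) (hn₁ : n₁ < Fintype.card ι) {t : F} (ht : t ≠ 0) :
    ∃ M : List (ι → F), OrthList Q B M ∧ M.length = n₁ ∧ (M.map Q).prod = t ∧
      ∀ x ∈ Submodule.span F {x | x ∈ M}, (g : GL ι F).val *ᵥ x ∈ Submodule.span F {x | x ∈ M} := by
  classical
  obtain ⟨Lp, Lm, hp, hm, hOp, hOm, hlen, ⟨a, ha⟩, -⟩ := exists_lists_omega C h2 hn g hg hgg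
  have hcross : ∀ x ∈ Lp, ∀ v ∈ Lm, B x v = 0 := fun x hx v hv => by
    have h3 := C.B_act g.2 x v
    rw [hp x hx, hm v hv, map_neg] at h3
    have h4 : (2 : F) * B x v = 0 := by linear_combination -h3
    exact (mul_eq_zero.1 h4).resolve_left h2
  obtain ⟨T, L', hO, hlenT, hprod, hact⟩ : ∃ T L' : List (ι → F), OrthList Q B (T ++ L') ∧
      (T ++ L').length = n₁ ∧ ((T ++ L').map Q).prod = t ∧
      ∀ v ∈ T ++ L', (g : GL ι F).val *ᵥ v = v ∨ (g : GL ι F).val *ᵥ v = -v := by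
    rcases Nat.eq_zero_or_pos a with h0 | h0
    · obtain ⟨L', hL', hL'l, hL'm, hL'p⟩ := exists_list_disc C h2 hOp (l := n₁) (by omega) (by omega) ht
      refine ⟨[], L', by simpa using hL', by simp [hL'l], by simp [hL'p], fun v hv => Or.inl ?_⟩
      have := (Submodule.span_le.2 (fun w hw => sub_eq_zero.2 (hp w hw)) :
        Submodule.span F {x | x ∈ Lp} ≤ LinearMap.ker (Matrix.mulVecLin (g : GL ι F).val - LinearMap.id))
          (hL'm v (by simpa using hv))
      simpa [sub_eq_zero] using this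
    · set l := max 1 (n₁ - Lp.length) with hl
      set T := Lp.take (n₁ - l) with hT
      have hTm : ∀ x ∈ T, x ∈ Lp := fun x hx => List.mem_of_mem_take hx
      have hTO : OrthList Q B T := ⟨fun v hv => hOp.1 v (hTm v hv), hOp.2.sublist (List.take_sublist _ _)⟩
      have hTne : (T.map Q).prod ≠ 0 := List.prod_ne_zero fun h0 => by
        obtain ⟨x, hx, hx0⟩ := List.mem_map.1 h0
        exact hTO.1 x hx hx0
      obtain ⟨L', hL', hL'l, hL'm, hL'p⟩ := exists_list_disc C h2 hOm (l := l) (le_max_left _ _) (by omega)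
        (t := t / (T.map Q).prod) (div_ne_zero ht hTne)
      refine ⟨T, L', orthList_append hTO hL' fun x hx y hy =>
          orth_span (L := Lm) (fun v hv => hcross x (hTm x hx) v hv) _ (hL'm y hy),
        by simp [hT, hL'l]; omega, by rw [List.map_append, List.prod_append, hL'p, mul_div_cancel₀ _ hTne],
        fun v hv => ?_⟩
      rcases List.mem_append.1 hv with h | h
      · exact Or.inl (hp v (hTm v h))
      · refine Or.inr ?_
        have := (Submodule.span_le.2 (fun w hw => by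
            rw [SetLike.mem_coe, LinearMap.mem_ker, LinearMap.add_apply, Matrix.mulVecLin_apply, hm w hw]
            simp) :
          Submodule.span F {x | x ∈ Lm} ≤ LinearMap.ker (Matrix.mulVecLin (g : GL ι F).val + LinearMap.id)) (hL'm v h)
        simpa [add_eq_zero_iff_eq_neg] using this
  refine ⟨T ++ L', hO, hlenT, hprod, fun x hx => ?_⟩
  have hle : Submodule.span F {x | x ∈ T ++ L'} ≤
      (Submodule.span F {x | x ∈ T ++ L'}).comap (Matrix.mulVecLin (g : GL ι F).val) := by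
    refine Submodule.span_le.2 fun v hv => ?_
    rw [SetLike.mem_coe, Submodule.mem_comap, Matrix.mulVecLin_apply]
    rcases hact v hv with h | h <;> rw [h]
    · exact Submodule.subset_span hv
    · exact neg_mem (Submodule.subset_span hv)
  exact hle hx

/-- Elements of order two on non-degenerate subspaces of even dimension of one type. -/
theorem even_two (C : Space Q B) (h2 : (2 : F) ≠ 0) {k : ℕ} (hk : 1 ≤ k) (hkn : 2 * k < Fintype.card ι) (τ : Prop)
    [Decidable τ] :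
    (∀ x : GL ι F, x ∈ Cfsg.Geo.omegaGL Q →
      (∃ z : F, ((x ^ 2 : GL ι F) : Matrix ι ι F) = z • (1 : Matrix ι ι F)) →
      (∀ z : F, (x : Matrix ι ι F) ≠ z • (1 : Matrix ι ι F)) →
      ∃ W : Submodule F (ι → F), (finrank F ↥W = 2 * k ∧ Cfsg.Geo.IsNondegenerateOn (QuadraticMap.polar Q) W ∧
        (Cfsg.Geo.IsPlusTypeOn Q W ↔ τ)) ∧ W.map (Matrix.toLin' (x : Matrix ι ι F)) ≤ W) ↔
    ((∃ g : GL ι F, g ∈ Cfsg.Geo.omegaGL Q ∧ ∀ x, g.val *ᵥ (g.val *ᵥ x) = -x) →
      (IsSquare ((-1 : F) ^ k) ↔ τ)) := by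
  have hn : 2 ≤ Fintype.card ι := by omega
  have hdisc : ∀ (g : GL ι F), g ∈ Cfsg.isometryGroup F Q → (∀ x, g.val *ᵥ (g.val *ᵥ x) = -x) →
      ∀ W : Submodule F (ι → F), finrank F W = 2 * k → NDeg B W → (∀ x ∈ W, g.val *ᵥ x ∈ W) →
      (Cfsg.Geo.IsPlusTypeOn Q W ↔ IsSquare ((-1 : F) ^ k)) := by
    intro g hg hsq W hWd hW hinv
    obtain ⟨L, hL, hlen, hspan, -, hLsq⟩ := inv_sq_neg C h2 hg hsq hW hinv
    have h := plus_iff_disc C h2 hL (k := k) (hlen.trans hWd)
    rw [hspan] at h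
    rw [h]
    obtain ⟨s, hs⟩ := hLsq
    have hs0 : s ≠ 0 := fun h0 => List.prod_ne_zero (fun h0 => by
      obtain ⟨x, hx, hx0⟩ := List.mem_map.1 h0
      exact hL.1 x hx hx0) (by rw [hs, h0, mul_zero])
    rw [hs]
    constructor
    · rintro ⟨u, hu⟩
      refine ⟨u / s, ?_⟩
      rw [div_mul_div_comm, eq_div_iff (mul_ne_zero hs0 hs0), ← hu]
    · exact fun h => h.mul ⟨s, rfl⟩
  constructor
  · rintro hall ⟨g, hgΩ, hsq⟩
    have hg : g ∈ Cfsg.isometryGroup F Q := by
      obtain ⟨y, -, rfl⟩ := hgΩ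
      exact y.2
    obtain ⟨W, ⟨hWm, hWn, hWt⟩, hinv⟩ := hall g hgΩ (sq_mem_scalar hsq) (not_scalar_sq_neg C h2 hn hg hsq)
    rw [← hWt, hdisc g hg hsq W hWm (ndeg_of_geo C hWn) fun x hx => hinv ⟨x, hx, Matrix.toLin'_apply _ _⟩]
  · rintro hsqτ x hx ⟨z, hz⟩ -
    obtain ⟨g, hg, rfl⟩ := hx
    rcases sq_scalar C (by omega) g.2 hz with h1 | hsq
    · obtain ⟨ν, hν⟩ := FiniteField.exists_nonsquare (F := F) fun h0 => h2 (by
        haveI : CharP F 2 := ringChar.of_eq h0
        exact CharTwo.two_eq_zero)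
      obtain ⟨t, ht, hts⟩ : ∃ t : F, t ≠ 0 ∧ (IsSquare t ↔ τ) := by
        by_cases hτ : τ
        · exact ⟨1, one_ne_zero, by simp [hτ]⟩
        · exact ⟨ν, fun h => hν (h ▸ IsSquare.zero), by simp [hν, hτ]⟩
      obtain ⟨M, hM, hMl, hMp, hMi⟩ := exists_eig_list C h2 g hn hg
        (Subtype.ext (by rw [SubmonoidClass.coe_pow]; exact h1)) (n₁ := 2 * k) (by omega) hkn
        (t := t * (-1) ^ k) (mul_ne_zero ht (pow_ne_zero _ (by norm_num)))
      obtain ⟨hd, hnd, -, -⟩ := span_orthList C h2 hM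
      refine ⟨_, ⟨hd.trans hMl, geo_of_ndeg C hnd, ?_⟩, ?_⟩
      · rw [plus_iff_disc C h2 hM hMl, hMp, ← hts,
          show (-1 : F) ^ k * (t * (-1) ^ k) = t * ((-1) * (-1)) ^ k by rw [mul_pow]; ring]
        simp
      · rintro _ ⟨v, hv, rfl⟩
        exact hMi v hv
    · -- pairs
      have hgI : (g : GL ι F) ∈ Cfsg.isometryGroup F Q := g.2
      obtain ⟨L, -, hO, hspan⟩ := exists_pairs C h2 hgI hsq _ ⊤ rfl C.ndeg_top fun x _ => Submodule.mem_top
      have hlen := length_of_span C h2 hO hspan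
      rw [length_pairList] at hlen
      set P := pairList (g : GL ι F) (L.take k) with hP
      have hPsub : P.Sublist (pairList (g : GL ι F) L) :=
        List.Sublist.flatMap (List.take_sublist _ _) _
      have hPO : OrthList Q B P := ⟨fun v hv => hO.1 v (hPsub.subset hv), hO.2.sublist hPsub⟩
      obtain ⟨hd, hnd, -, -⟩ := span_orthList C h2 hPO
      have hPl : P.length = 2 * k := by rw [hP, length_pairList, List.length_take]; omega
      have hinv : ∀ v ∈ Submodule.span F {x | x ∈ P}, (g : GL ι F).val *ᵥ v ∈ Submodule.span F {x | x ∈ P} := by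
        intro v hv
        refine (Submodule.span_le.2 (fun w hw => ?_) :
          Submodule.span F {x | x ∈ P} ≤ (Submodule.span F {x | x ∈ P}).comap (Matrix.mulVecLin (g : GL ι F).val)) hv
        rw [SetLike.mem_coe, Submodule.mem_comap, Matrix.mulVecLin_apply]
        obtain ⟨u, hu, hwu⟩ := List.mem_flatMap.1 hw
        have hm1 : u ∈ P := List.mem_flatMap.2 ⟨u, hu, List.mem_cons_self⟩
        have hm2 : (g : GL ι F).val *ᵥ u ∈ P := List.mem_flatMap.2 ⟨u, hu, List.mem_cons_of_mem _ List.mem_cons_self⟩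
        rcases List.mem_cons.1 hwu with rfl | hwu
        · exact Submodule.subset_span hm2
        · rw [List.mem_singleton.1 hwu, hsq]
          exact neg_mem (Submodule.subset_span hm1)
      refine ⟨_, ⟨hd.trans hPl, geo_of_ndeg C hnd, ?_⟩, ?_⟩
      · rw [hdisc _ hgI hsq _ (hd.trans hPl) hnd hinv]
        exact hsqτ ⟨_, ⟨g, hg, rfl⟩, hsq⟩
      · rintro _ ⟨v, hv, rfl⟩
        exact hinv v hv

theorem neg_one_pow_sq (h2 : (2 : F) ≠ 0) (k : ℕ) :
    IsSquare ((-1 : F) ^ k) ↔ (Even k ∨ Fintype.card F % 4 = 1) := by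
  rcases Nat.even_or_odd k with he | ho
  · rw [he.neg_one_pow]; simp [he]
  · rw [ho.neg_one_pow, neg_one_sq_iff h2]; simp [Nat.not_even_iff_odd.2 ho]

end Cfsg.Lib.Linear.NondegFix
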