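import Cfsg.Agent.Lib.Linear.NondegFix.EvenCount

/-!
# Even dimension: non-degenerate subspaces of odd dimension
-/

set_option autoImplicit false

universe u

namespace Cfsg.Lib.Linear.NondegFix

open Module Cfsg.Lib.Linear.Orth Cfsg.Lib.Linear.IsoFix Cfsg.Agent.Lib.Linear.PrimeClasses
open scoped Matrix

variable {F : Type u} [Field F] {ι κ : Type} [Fintype ι] [DecidableEq ι] [Fintype κ] [DecidableEq κ]
  {Q : (ι → F) → F} {B : LinearMap.BilinForm F (ι → F)} {R : (κ → F) → F} {D : LinearMap.BilinForm F (κ → F)}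

/-- A predicate given by embeddings. -/
theorem fixes_pred_iff (Pr : Submodule F (ι → F) → Prop)
    (hW : ∀ W, Pr W ↔ ∃ E : (κ → F) →ₗ[F] (ι → F), (∀ v, Q (E v) = R v) ∧ LinearMap.range E = W)
    (M : Matrix ι ι F) :
    (∃ W, Pr W ∧ W.map (Matrix.toLin' M) ≤ W) ↔ FixesR Q R M := by
  rw [fixesR_iff_exists]
  constructor
  · rintro ⟨W, hp, hinv⟩
    obtain ⟨E, hE, rfl⟩ := (hW W).1 hp
    exact ⟨E, hE, hinv⟩
  · rintro ⟨E, hE, hinv⟩
    exact ⟨LinearMap.range E, (hW _).2 ⟨E, hE, rfl⟩, hinv⟩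

/-- Subspaces isometric to the range of an embedding. -/
theorem isometric_pred_iff (C : Space Q B) (CR : Space R D) {E₀ : (κ → F) →ₗ[F] (ι → F)}
    (hE₀ : ∀ v, Q (E₀ v) = R v) {W₀ : Submodule F (ι → F)} (hr : LinearMap.range E₀ = W₀) {m : ℕ}
    (hm : Fintype.card κ = m) (W : Submodule F (ι → F)) :
    (finrank F W = m ∧ Cfsg.Geo.IsNondegenerateOn (QuadraticMap.polar Q) W ∧ Cfsg.Geo.AreIsometricFor Q W W₀) ↔
    ∃ E : (κ → F) →ₗ[F] (ι → F), (∀ v, Q (E v) = R v) ∧ LinearMap.range E = W := by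
  subst hr
  let e₀ := LinearEquiv.ofInjective E₀ (embed_injective C CR hE₀)
  constructor
  · rintro ⟨hW, -, e, he⟩
    have hE : ∀ v, Q ((W.subtype ∘ₗ (e₀.trans e.symm).toLinearMap) v) = R v := fun v => by
      rw [LinearMap.comp_apply, LinearEquiv.coe_coe, Submodule.subtype_apply, ← he,
        LinearEquiv.trans_apply, LinearEquiv.apply_symm_apply]
      exact hE₀ v
    exact ⟨_, hE, by rw [LinearMap.range_comp, LinearEquiv.range, Submodule.map_subtype_top]⟩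
  · rintro ⟨E, hE, rfl⟩
    refine ⟨by rw [finrank_embed C CR hE, hm], geo_of_ndeg C (ndeg_range C CR hE),
      (LinearEquiv.ofInjective E (embed_injective C CR hE)).symm.trans e₀, fun w => ?_⟩
    obtain ⟨v, rfl⟩ := (LinearEquiv.ofInjective E (embed_injective C CR hE)).surjective w
    rw [LinearEquiv.trans_apply, LinearEquiv.symm_apply_apply, LinearEquiv.ofInjective_apply, LinearEquiv.ofInjective_apply, hE]
    exact hE₀ v

variable [Fintype F] {r : ℕ} [Fact r.Prime] {i c : ℕ}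

/-- Odd dimensional subspaces, `r` odd and different from the characteristic. -/
theorem parabolic_main (p : ℕ) [Fact p.Prime] [CharP F p] (C : Space Q B) (h2 : (2 : F) ≠ 0) {d m : ℕ}
    (hn : Fintype.card ι = 2 * d) (hd : 3 ≤ d) (hm : Odd m) (hmd : m < 2 * d) {W₀ : Submodule F (ι → F)}
    (hW₀ : finrank F W₀ = m ∧ Cfsg.Geo.IsNondegenerateOn (QuadraticMap.polar Q) W₀) {A : ℕ}
    (hQ : Nat.card ↥(Cfsg.isometryGroup F Q) =
      Fintype.card F ^ (d * (d - 1)) * 2 * A * sprod (Fintype.card F) (d - 1))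
    (hA : A = Fintype.card F ^ d - 1 ∨ A = Fintype.card F ^ d + 1)
    (hr2 : r ≠ 2) (hrp : r ≠ p) (hi : i = orderOf (Fintype.card F : ZMod r))
    (hc : c = if Even i then i else 2 * i) {P : ℕ → Prop} (hP : RealSpec Q r i c (2 * d) P)
    (hrΩ : r ∣ Nat.card {W : Submodule F (ι → F) // finrank F ↥W = m ∧
      Cfsg.Geo.IsNondegenerateOn (QuadraticMap.polar Q) W ∧ Cfsg.Geo.AreIsometricFor Q W W₀}) :
    ((∀ x : GL ι F, x ∈ Cfsg.Geo.omegaGL Q →
      (∃ z : F, ((x ^ r : GL ι F) : Matrix ι ι F) = z • (1 : Matrix ι ι F)) →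
      (∀ z : F, (x : Matrix ι ι F) ≠ z • (1 : Matrix ι ι F)) →
      ∃ W : Submodule F (ι → F), (finrank F ↥W = m ∧ Cfsg.Geo.IsNondegenerateOn (QuadraticMap.polar Q) W ∧
        Cfsg.Geo.AreIsometricFor Q W W₀) ∧ W.map (Matrix.toLin' (x : Matrix ι ι F)) ≤ W) ↔
      ((0 < (2 * d) % c ∧ m % c < (2 * d) % c) ∨ ((2 * d) % c = 0 ∧ ¬ P (2 * d / c)))) ∧
    (0 < m % c) ∧ (0 < (2 * d) % c → m % c < (2 * d) % c → c ≤ m) := by
  classical
  obtain ⟨j, rfl⟩ := hm
  obtain ⟨e, rfl⟩ : ∃ e, d = e + (j + 1) := ⟨d - (j + 1), by omega⟩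
  obtain ⟨z, hz, E₀, hE₀, hr₀⟩ := exists_std_odd C h2 hW₀.1 (ndeg_of_geo C hW₀.2)
  obtain ⟨D₁, C₁⟩ := exists_space (Q := Cfsg.quadFormOdd j F) (isQuad_odd j h2)
  obtain ⟨D₂, C₂⟩ := exists_space (Q := Cfsg.quadFormOdd e F) (isQuad_odd e h2)
  have CR := scale_space C₁ hz
  obtain ⟨U, hU, hUd, hUo⟩ := exists_complement C CR hE₀
  rw [card_odd_index] at hUd
  obtain ⟨z', hz', E', hE', hr'⟩ := exists_std_odd C h2 (e := e) (show finrank F U = 2 * e + 1 by omega) hU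
  have C' := scale_space C₂ hz'
  obtain ⟨ψ, S, -⟩ := exists_isSum C CR C' hE₀ hE' (fun u v => hUo _ (hr' ▸ ⟨v, rfl⟩) u)
    (by rw [card_odd_index, card_odd_index, hn]; omega)
  have hW := isometric_pred_iff C CR hE₀ hr₀ (card_odd_index j)
  rw [Nat.card_congr (Equiv.subtypeEquivRight hW)] at hrΩ
  have hcards : Nat.card ↥(Cfsg.isometryGroup F (scaleQ z' (Cfsg.quadFormOdd e F))) =
      Fintype.card F ^ (e * e) * 2 * sprod (Fintype.card F) e := by
    rw [scale_iso hz', card_iso_odd h2]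
  have hodd : ∀ x, (2 * x + 1) % c % 2 = 1 ∧ (2 * x) % c % 2 = 0 := fun x => by
    obtain ⟨y, hy⟩ : 2 ∣ c := by
      rw [hc]
      split_ifs with he
      · exact he.two_dvd
      · exact dvd_mul_right 2 i
    subst hy
    rw [Nat.mod_mul_right_mod, Nat.mod_mul_right_mod]
    omega
  have hle : (2 * j + 1) % c ≤ (2 * (e + (j + 1))) % c ↔ (2 * j + 1) % c < (2 * (e + (j + 1))) % c := by
    have := hodd j; have := hodd (e + (j + 1)); omega
  have hl0 : 0 < (2 * j + 1) % c := by have := hodd j; omega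
  refine ⟨?_, hl0, fun hk hl => c_le_odd p C CR C' S rfl hQ hA hcards hr2 hrp hi hc hrΩ hk hl.le⟩
  refine Iff.trans (forall_congr' fun x => forall_congr' fun _ => forall_congr' fun _ => forall_congr' fun _ =>
    fixes_pred_iff _ hW _) ?_
  rw [even_iff p C CR C' S hn (card_odd_index j) (by omega) hmd (by omega) hr2 hrp hi hc P (fun _ => True)
    (fun _ => True) hP (realSpec_odd hr2 h2 j hz)
    (by rw [show 2 * (e + (j + 1)) - (2 * j + 1) = 2 * e + 1 by omega]; exact realSpec_odd hr2 h2 e hz')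
    (fun _ => Or.inl trivial) (fun _ _ => trivial)]
  simp only [or_true, and_true, hle, Nat.pos_iff_ne_zero.1 hl0, false_or]
  simp [hl0.ne']

end Cfsg.Lib.Linear.NondegFix
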