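import Cfsg.Agent.Lib.Linear.NondegFix.Invol
import Cfsg.Agent.Lib.Linear.NondegFix.Parabolic
import Cfsg.Agent.Lib.Linear.IsotropicFix.OrthSquare

/-!
# Involutions and non-degenerate subspaces of odd dimension
-/

set_option autoImplicit false

universe u

namespace Cfsg.Lib.Linear.NondegFix

open Module Cfsg.Lib.Linear.Orth Cfsg.Lib.Linear.IsoFix Cfsg.Agent.Lib.Linear.PrimeClasses
open scoped Matrix

variable {F : Type u} [Field F] [Fintype F] {ι : Type} [Fintype ι] [DecidableEq ι]
  {Q : (ι → F) → F} {B : LinearMap.BilinForm F (ι → F)}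

omit [Fintype F] in
/-- Two orthogonal bases of one subspace have discriminants differing by a square. -/
theorem disc_unique (C : Space Q B) (h2 : (2 : F) ≠ 0) {L L' : List (ι → F)} (hL : OrthList Q B L)
    (hL' : OrthList Q B L') (hlen : L'.length = L.length) (hsub : ∀ v ∈ L', v ∈ Submodule.span F {x | x ∈ L}) :
    IsSquare ((L.map Q).prod * (L'.map Q).prod) := by
  classical
  obtain ⟨hd, -, hli, ho⟩ := span_orthList C h2 hL
  obtain ⟨-, -, hli', ho'⟩ := span_orthList C h2 hL'
  set W := Submodule.span F {x | x ∈ L} with hWdef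
  let v : Fin L.length → W := fun i => ⟨L.get i, Submodule.subset_span (List.get_mem L i)⟩
  let b : Basis (Fin L.length) F W := basisOfLinearIndependentOfCardEqFinrank'
    v (LinearIndependent.of_comp W.subtype hli) (by rw [Fintype.card_fin, hd])
  let v' : Fin L'.length → W := fun i => ⟨L'.get i, hsub _ (List.get_mem L' i)⟩
  let b₀ : Basis (Fin L'.length) F W := basisOfLinearIndependentOfCardEqFinrank'
    v' (LinearIndependent.of_comp W.subtype hli') (by rw [Fintype.card_fin, hd, hlen])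
  let b' := b₀.reindex (finCongr hlen)
  have hb : ∀ i, ((b i : W) : ι → F) = L.get i := fun i => by simp [b, v]
  have hb' : ∀ i, ((b' i : W) : ι → F) = L'.get (Fin.cast hlen.symm i) := fun i => by simp [b', b₀, v']
  have diag : ∀ (c : Basis (Fin L.length) F W) (f : Fin L.length → ι → F), (∀ i, ((c i : W) : ι → F) = f i) →
      (∀ i j, i ≠ j → B (f i) (f j) = 0) →
      (LinearMap.BilinForm.toMatrix c (B.restrict W)).det = 2 ^ L.length * ∏ i, Q (f i) := by
    intro c f hc hf
    have hmat : LinearMap.BilinForm.toMatrix c (B.restrict W) = Matrix.diagonal fun i => 2 * Q (f i) := by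
      ext i j
      rw [LinearMap.BilinForm.toMatrix_apply]
      show B ((c i : W) : ι → F) ((c j : W) : ι → F) = _
      rw [hc, hc]
      by_cases hij : i = j
      · subst hij; rw [Matrix.diagonal_apply_eq, C.self]
      · rw [Matrix.diagonal_apply_ne _ hij, hf i j hij]
    rw [hmat, Matrix.det_diagonal, Finset.prod_mul_distrib, Finset.prod_const, Finset.card_univ, Fintype.card_fin]
  have h1 := diag b _ hb ho
  have h3 := diag b' _ hb' fun i j hij => ho' _ _ fun h => hij (Fin.cast_injective _ h)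
  rw [← BilinForm.toMatrix_mul_basis_toMatrix b b' (B.restrict W), Matrix.det_mul, Matrix.det_mul, Matrix.det_transpose,
    h1] at h3
  have hp : ∀ M : List (ι → F), (M.map Q).prod = ∏ i : Fin M.length, Q (M.get i) := fun M => by
    rw [← List.prod_ofFn]
    congr 1
    exact (List.ofFn_get M ▸ List.map_ofFn (g := Q) (f := M.get) : _)
  have hre : ∏ i : Fin L.length, Q (L'.get (Fin.cast hlen.symm i)) = (L'.map Q).prod := by
    rw [hp]
    exact Equiv.prod_comp (finCongr hlen.symm) fun i => Q (L'.get i)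
  rw [hre, ← hp L, show (b.toMatrix b').det * (2 ^ L.length * (L.map Q).prod) * (b.toMatrix b').det =
    2 ^ L.length * ((b.toMatrix b').det * (b.toMatrix b').det * (L.map Q).prod) by ring] at h3
  rw [← mul_left_cancel₀ (pow_ne_zero _ h2) h3]
  exact ⟨(b.toMatrix b').det * (L.map Q).prod, by ring⟩

/-- Spans of orthogonal lists of one odd length and one discriminant class are isometric. -/
theorem isometric_of_disc (C : Space Q B) (h2 : (2 : F) ≠ 0) {L L' : List (ι → F)} (hL : OrthList Q B L)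
    (hL' : OrthList Q B L') {j : ℕ} (hlen : L.length = 2 * j + 1) (hlen' : L'.length = 2 * j + 1)
    (hdisc : IsSquare ((L.map Q).prod * (L'.map Q).prod)) :
    Cfsg.Geo.AreIsometricFor Q (Submodule.span F {x | x ∈ L}) (Submodule.span F {x | x ∈ L'}) := by
  classical
  obtain ⟨hd, hnd, -, -⟩ := span_orthList C h2 hL
  obtain ⟨hd', hnd', -, -⟩ := span_orthList C h2 hL'
  obtain ⟨z, hz, E, hE, hr⟩ := exists_std_odd C h2 (hd.trans hlen) hnd
  obtain ⟨z', hz', E', hE', hr'⟩ := exists_std_odd C h2 (hd'.trans hlen') hnd'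
  obtain ⟨D₁, C₁⟩ := exists_space (Q := Cfsg.quadFormOdd j F) (isQuad_odd j h2)
  have hi := embed_injective C (scale_space C₁ hz) hE
  have hi' := embed_injective C (scale_space C₁ hz') hE'
  let e := LinearEquiv.ofInjective E hi
  let e' := LinearEquiv.ofInjective E' hi'
  have he : ∀ v, Q ((e v : LinearMap.range E) : ι → F) = z * Cfsg.quadFormOdd j F v := fun v => hE v
  have he' : ∀ v, Q ((e' v : LinearMap.range E') : ι → F) = z' * Cfsg.quadFormOdd j F v := fun v => hE' v
  -- a similitude with factor `z' / z`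
  let T := e.symm.trans e'
  have hT : ∀ w, Q ((T w : LinearMap.range E') : ι → F) = z' / z * Q (w : ι → F) := fun w => by
    obtain ⟨v, rfl⟩ := e.surjective w
    rw [LinearEquiv.trans_apply, LinearEquiv.symm_apply_apply, he, he']
    field_simp
  let S : Submodule F (ι → F) := LinearMap.range E
  have hmem : ∀ x ∈ L, x ∈ S := fun x hx => by
    show x ∈ LinearMap.range E
    rw [hr]; exact Submodule.subset_span hx
  obtain ⟨G, hG⟩ := LinearMap.exists_extend ((LinearMap.range E').subtype ∘ₗ T.toLinearMap)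
  have hGS : ∀ w ∈ S, G w ∈ LinearMap.range E' ∧ Q (G w) = z' / z * Q w := fun w hw => by
    rw [show G w = ((T ⟨w, hw⟩ : LinearMap.range E') : ι → F) from LinearMap.congr_fun hG ⟨w, hw⟩]
    exact ⟨SetLike.coe_mem _, hT _⟩
  let L₂ := L.map G
  have hO₂ : OrthList Q B L₂ := by
    refine ⟨fun v hv => ?_, ?_⟩
    · obtain ⟨x, hx, rfl⟩ := List.mem_map.1 hv
      rw [(hGS x (hmem x hx)).2]
      exact mul_ne_zero (div_ne_zero hz' hz) (hL.1 x hx)
    · refine List.pairwise_map.2 (hL.2.imp_of_mem fun {x y} hx hy hxy => ?_)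
      rw [← C.polar, QuadraticMap.polar, ← map_add, (hGS _ (S.add_mem (hmem x hx) (hmem y hy))).2,
        (hGS x (hmem x hx)).2, (hGS y (hmem y hy)).2, C.add, hxy]
      ring
  have hprod : (L₂.map Q).prod = (z' / z) ^ (2 * j + 1) * (L.map Q).prod := by
    rw [List.map_map, List.map_congr_left (f := Q ∘ G) (g := fun x => z' / z * Q x) fun x hx => (hGS x (hmem x hx)).2,
      List.prod_map_mul, ← hlen]
    simp
  have h3 := disc_unique C h2 hL' hO₂ (by simp [L₂, hlen, hlen']) fun v hv => by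
    obtain ⟨x, hx, rfl⟩ := List.mem_map.1 hv
    rw [← hr']
    exact (hGS x (hmem x hx)).1
  rw [hprod] at h3
  have hsq : IsSquare (z' / z) := by
    obtain ⟨s, hs⟩ := h3
    obtain ⟨t, ht⟩ := hdisc
    have hp : ∀ M : List (ι → F), OrthList Q B M → (M.map Q).prod ≠ 0 := fun M hM => List.prod_ne_zero fun h0 => by
      obtain ⟨x, hx, hx0⟩ := List.mem_map.1 h0
      exact hM.1 x hx hx0
    have ht0 : t ≠ 0 := fun h => mul_ne_zero (hp L hL) (hp L' hL') (by rw [ht, h, mul_zero])
    refine ⟨s / (t * (z' / z) ^ j), ?_⟩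
    have hc0 : (z' / z) ^ j ≠ 0 := pow_ne_zero _ (div_ne_zero hz' hz)
    rw [div_mul_div_comm, eq_div_iff (mul_ne_zero (mul_ne_zero ht0 hc0) (mul_ne_zero ht0 hc0)), ← hs,
      show t * (z' / z) ^ j * (t * (z' / z) ^ j) = t * t * (z' / z) ^ (2 * j) by ring, ← ht, pow_succ]
    ring
  obtain ⟨s, hs⟩ := hsq
  have hs0 : s ≠ 0 := fun h => div_ne_zero hz' hz (by rw [hs, h, mul_zero])
  rw [← hr, ← hr']
  refine ⟨(T.trans (LinearEquiv.smulOfUnit (Units.mk0 s⁻¹ (inv_ne_zero hs0)))), fun w => ?_⟩
  show Q (s⁻¹ • ((T w : LinearMap.range E') : ι → F)) = _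
  rw [C.smul, hT, hs]
  field_simp

/-- An involution fixes a subspace isometric to a given one of odd dimension. -/
theorem invol_fixes_iso (C : Space Q B) (h2 : (2 : F) ≠ 0) (g : ↥(Cfsg.isometryGroup F Q)) (hn : 2 ≤ Fintype.card ι)
    (hg : g ∈ Omega F Q) (hgg : g ^ 2 = 1) {j : ℕ} (hjn : 2 * j + 1 < Fintype.card ι)
    {W₀ : Submodule F (ι → F)} (hW₀ : finrank F W₀ = 2 * j + 1) (hnd₀ : NDeg B W₀) :
    ∃ W : Submodule F (ι → F), finrank F W = 2 * j + 1 ∧ NDeg B W ∧ Cfsg.Geo.AreIsometricFor Q W W₀ ∧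
      ∀ x ∈ W, (g : GL ι F).val *ᵥ x ∈ W := by
  classical
  obtain ⟨M₀, M₁, hM, -, hM₁, hO₀, hO₁, hlen₀, hspan₀⟩ := exists_lists C h2 (one_mem (Cfsg.isometryGroup F Q))
    (fun x => by simp) _ W₀ hW₀ hnd₀ (fun x hx => by simpa using hx)
  have hM₁e : M₁ = [] := by
    rcases M₁ with _ | ⟨v, M⟩
    · rfl
    · exfalso
      have h := hM₁ v (List.mem_cons_self)
      rw [Units.val_one, Matrix.one_mulVec] at h
      refine hO₁.1 v List.mem_cons_self ?_
      have h2v : (2 : F) • v = 0 := by rw [two_smul]; exact add_eq_zero_iff_eq_neg.2 h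
      rw [(smul_eq_zero.1 h2v).resolve_left h2, C.zero]
  subst hM₁e
  rw [List.append_nil] at hM hspan₀
  rw [List.length_nil, add_zero] at hlen₀
  have hW₀e : Submodule.span F {x | x ∈ M₀} = W₀ := le_antisymm (Submodule.span_le.2 hM) hspan₀
  obtain ⟨Lp, Lm, hp, hm, hOp, hOm, hlen, ⟨a, ha⟩, -⟩ := exists_lists_omega C h2 hn g hg hgg
  have hcross : ∀ x ∈ Lp, ∀ v ∈ Lm, B x v = 0 := fun x hx v hv => by
    have h3 := C.B_act g.2 x v
    rw [hp x hx, hm v hv, map_neg] at h3
    have h4 : (2 : F) * B x v = 0 := by linear_combination -h3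
    exact (mul_eq_zero.1 h4).resolve_left h2
  have hM0 : (M₀.map Q).prod ≠ 0 := List.prod_ne_zero fun h0 => by
    obtain ⟨x, hx, hx0⟩ := List.mem_map.1 h0
    exact hO₀.1 x hx hx0
  obtain ⟨T, L', hO, hlenT, hprod, hact⟩ : ∃ T L' : List (ι → F), OrthList Q B (T ++ L') ∧
      (T ++ L').length = 2 * j + 1 ∧ ((T ++ L').map Q).prod = (M₀.map Q).prod ∧
      ∀ v ∈ T ++ L', (g : GL ι F).val *ᵥ v = v ∨ (g : GL ι F).val *ᵥ v = -v := by
    rcases Nat.eq_zero_or_pos a with h0 | h0
    · obtain ⟨L', hL', hL'l, hL'm, hL'p⟩ := exists_list_disc C h2 hOp (l := 2 * j + 1) (by omega) (by omega) hM0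
      refine ⟨[], L', by simpa using hL', by simp [hL'l], by simp [hL'p], fun v hv => Or.inl ?_⟩
      have := (Submodule.span_le.2 (fun w hw => sub_eq_zero.2 (hp w hw)) :
        Submodule.span F {x | x ∈ Lp} ≤ LinearMap.ker (Matrix.mulVecLin (g : GL ι F).val - LinearMap.id))
          (hL'm v (by simpa using hv))
      simpa [sub_eq_zero] using this
    · set l := max 1 (2 * j + 1 - Lp.length) with hl
      set T := Lp.take (2 * j + 1 - l) with hT
      have hTm : ∀ x ∈ T, x ∈ Lp := fun x hx => List.mem_of_mem_take hx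
      have hTO : OrthList Q B T := ⟨fun v hv => hOp.1 v (hTm v hv), hOp.2.sublist (List.take_sublist _ _)⟩
      have hTne : (T.map Q).prod ≠ 0 := List.prod_ne_zero fun h0 => by
        obtain ⟨x, hx, hx0⟩ := List.mem_map.1 h0
        exact hTO.1 x hx hx0
      obtain ⟨L', hL', hL'l, hL'm, hL'p⟩ := exists_list_disc C h2 hOm (l := l) (le_max_left _ _) (by omega)
        (t := (M₀.map Q).prod / (T.map Q).prod) (div_ne_zero hM0 hTne)
      refine ⟨T, L', orthList_append hTO hL' fun x hx y hy =>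
          orth_span (L := Lm) (fun v hv => hcross x (hTm x hx) v hv) _ (hL'm y hy),
        by simp [hT, hL'l]; omega, by rw [List.map_append, List.prod_append, hL'p, mul_div_cancel₀ _ hTne],
        fun v hv => ?_⟩
      rcases List.mem_append.1 hv with h | h
      · exact Or.inl (hp v (hTm v h))
      · refine Or.inr ?_
        have := (Submodule.span_le.2 (fun w hw => by
            rw [SetLike.mem_coe, LinearMap.mem_ker, LinearMap.add_apply, Matrix.mulVecLin_apply, hm w hw]
            simp) :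
          Submodule.span F {x | x ∈ Lm} ≤ LinearMap.ker (Matrix.mulVecLin (g : GL ι F).val + LinearMap.id)) (hL'm v h)
        simpa [add_eq_zero_iff_eq_neg] using this
  obtain ⟨hd, hnd, -, -⟩ := span_orthList C h2 hO
  refine ⟨Submodule.span F {x | x ∈ T ++ L'}, by rw [hd, hlenT], hnd, ?_, fun x hx => ?_⟩
  · have hiso := isometric_of_disc C h2 hO hO₀ hlenT hlen₀ (by rw [hprod]; exact ⟨_, rfl⟩)
    rwa [hW₀e] at hiso
  · have hle : Submodule.span F {x | x ∈ T ++ L'} ≤
        (Submodule.span F {x | x ∈ T ++ L'}).comap (Matrix.mulVecLin (g : GL ι F).val) := by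
      refine Submodule.span_le.2 fun v hv => ?_
      rw [SetLike.mem_coe, Submodule.mem_comap, Matrix.mulVecLin_apply]
      rcases hact v hv with h | h <;> rw [h]
      · exact Submodule.subset_span hv
      · exact neg_mem (Submodule.subset_span hv)
    exact hle hx

end Cfsg.Lib.Linear.NondegFix
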