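import Cfsg.Agent.Lib.Linear.NondegFix.TypeSum
import Cfsg.Agent.Lib.Linear.NondegFix.UnipEven

/-!
# Involutions in characteristic two and invariant non-degenerate subspaces
-/

set_option autoImplicit false

universe u

namespace Cfsg.Lib.Linear.NondegFix

open Module Cfsg.Lib.Linear.Orth Cfsg.Lib.Linear.IsoFix Cfsg.Agent.Lib.Linear.PrimeClasses
open scoped Matrix

variable {F : Type u} [Field F] {ι : Type} [Fintype ι] [DecidableEq ι]
  {Q : (ι → F) → F} {B : LinearMap.BilinForm F (ι → F)} {N : (ι → F) →ₗ[F] (ι → F)}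

/-- An involution `1 + N` in characteristic two. -/
structure TwoInv (Q : (ι → F) → F) (B : LinearMap.BilinForm F (ι → F)) (N : (ι → F) →ₗ[F] (ι → F)) : Prop where
  two : (2 : F) = 0
  sq : ∀ u, N (N u) = 0
  adj : ∀ u v, B (N u) v = B u (N v)
  qn : ∀ u, Q (N u) = B u (N u)

theorem twoInv_mk (C : Space Q B) (h2 : (2 : F) = 0) (hN2 : ∀ u, N (N u) = 0) (hQ : ∀ u, Q (u + N u) = Q u) :
    TwoInv Q B N := by
  have neg : ∀ a b : F, a + b = 0 → a = b := fun a b h => by linear_combination h - b * h2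
  have hqn : ∀ u, Q (N u) = B u (N u) := fun u => neg _ _ (by
    have h := hQ u
    rw [C.add] at h
    linear_combination h)
  have hB : ∀ u v, B (u + N u) (v + N v) = B u v := fun u v => by
    rw [← C.polar, ← C.polar, QuadraticMap.polar, QuadraticMap.polar, hQ, hQ,
      show u + N u + (v + N v) = u + v + N (u + v) by rw [map_add]; abel, hQ]
  have key : ∀ u v, B (N u) v + B u (N v) + B (N u) (N v) = 0 := fun u v => by
    have h := hB u v
    simp only [map_add, LinearMap.add_apply] at h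
    linear_combination h
  refine ⟨h2, hN2, fun u v => neg _ _ ?_, hqn⟩
  have h := key (N u) v
  rw [hN2, map_zero, LinearMap.zero_apply, LinearMap.zero_apply, zero_add, add_zero] at h
  have h' := key u v
  rwa [h, add_zero] at h'

/-- Either some plane, or nothing moves. -/
def Good (Q : (ι → F) → F) (N : (ι → F) →ₗ[F] (ι → F)) (X : Submodule F (ι → F)) : Prop :=
  (∃ u ∈ X, Q (N u) ≠ 0) ∨ ∀ u ∈ X, N u = 0

theorem TwoInv.self (T : TwoInv Q B N) (C : Space Q B) (u : ι → F) : B u u = 0 := by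
  rw [C.self, T.two, zero_mul]

theorem TwoInv.nn (T : TwoInv Q B N) (u v : ι → F) : B (N u) (N v) = 0 := by
  rw [T.adj, T.sq, map_zero]

/-- Complements inside an invariant subspace. -/
theorem exists_compl (C : Space Q B) (T : TwoInv Q B N) {X W : Submodule F (ι → F)} (hX : NDeg B X)
    (hXi : ∀ x ∈ X, N x ∈ X) (hW : NDeg B W) (hWi : ∀ x ∈ W, N x ∈ W) (hWX : W ≤ X) :
    ∃ X' : Submodule F (ι → F), X' ≤ X ∧ NDeg B X' ∧ (∀ x ∈ X', N x ∈ X') ∧ (∀ a ∈ X', ∀ b ∈ W, B a b = 0) ∧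
      finrank F X' + finrank F W = finrank F X ∧ X ≤ X' ⊔ W ∧ ∀ y ∈ X, (∀ b ∈ W, B y b = 0) → y ∈ X' := by
  set U := perpIn B ⊤ W
  have S : Split Q B U W := split_of_ndeg C hW
  have hparts : ∀ x ∈ X, ∃ a ∈ X ⊓ U, ∃ b ∈ W, x = a + b := fun x hx => by
    obtain ⟨a, ha, b, hb, rfl⟩ := S.parts C x
    refine ⟨a, ⟨?_, ha⟩, b, hb, rfl⟩
    simpa using X.sub_mem hx (hWX hb)
  have horth : ∀ a ∈ X ⊓ U, ∀ b ∈ W, B a b = 0 := fun a ha b hb => S.orth a ha.2 b hb
  refine ⟨X ⊓ U, inf_le_left, fun x hx h => hX x hx.1 fun y hy => ?_, fun x hx => ⟨hXi x hx.1, ?_⟩, horth, ?_,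
    fun x hx => ?_, fun y hy h => ⟨hy, (S.mem_U_iff C).2 fun w hw => by rw [C.symm]; exact h w hw⟩⟩
  · obtain ⟨a, ha, b, hb, rfl⟩ := hparts y hy
    rw [map_add, h a ha, horth x hx b hb, add_zero]
  · refine (S.mem_U_iff C).2 fun w hw => ?_
    rw [← T.adj, C.symm]
    exact S.orth x hx.2 _ (hWi w hw)
  · have h := Submodule.finrank_sup_add_finrank_inf_eq (X ⊓ U) W
    have h1 : (X ⊓ U) ⊓ W = ⊥ := eq_bot_iff.2 fun x hx => (Submodule.mem_bot F).2 (S.disj C hx.1.2 hx.2)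
    have h2 : (X ⊓ U) ⊔ W = X := le_antisymm (sup_le inf_le_left hWX) fun x hx => by
      obtain ⟨a, ha, b, hb, rfl⟩ := hparts x hx
      exact Submodule.add_mem_sup ha hb
    rw [h1, h2, finrank_bot, add_zero] at h
    exact h.symm
  · obtain ⟨a, ha, b, hb, rfl⟩ := hparts x hx
    exact Submodule.add_mem_sup ha hb

/-- The plane of a vector. -/
theorem plane_props (C : Space Q B) (T : TwoInv Q B N) {u : ι → F} (hu : Q (N u) ≠ 0) :
    NDeg B (Submodule.span F {u, N u}) ∧ (∀ x ∈ Submodule.span F {u, N u}, N x ∈ Submodule.span F {u, N u}) ∧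
      finrank F (Submodule.span F {u, N u}) = 2 := by
  classical
  have hb : B u (N u) ≠ 0 := T.qn u ▸ hu
  refine ⟨fun x hx h => ?_, fun x hx => ?_, ?_⟩
  · obtain ⟨a, b, rfl⟩ := Submodule.mem_span_pair.1 hx
    have h1 := h u (Submodule.subset_span (Or.inl rfl))
    have h2 := h (N u) (Submodule.subset_span (Or.inr rfl))
    simp only [map_add, map_smul, LinearMap.add_apply, LinearMap.smul_apply, smul_eq_mul, T.self C, C.symm (N u) u,
      mul_zero, add_zero, zero_add, mul_eq_zero, hb, or_false] at h1 h2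
    rw [h1, h2, zero_smul, zero_smul, add_zero]
  · obtain ⟨a, b, rfl⟩ := Submodule.mem_span_pair.1 hx
    rw [map_add, map_smul, map_smul, T.sq, smul_zero, add_zero]
    exact Submodule.smul_mem _ _ (Submodule.subset_span (Or.inr rfl))
  · have hli : LinearIndependent F ![u, N u] := by
      rw [LinearIndependent.pair_iff]
      intro a b hab
      have h1 := congrArg (fun w => B w u) hab
      have h2 := congrArg (fun w => B w (N u)) hab
      simp only [map_add, map_smul, LinearMap.add_apply, LinearMap.smul_apply, smul_eq_mul, T.self C, C.symm (N u) u,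
        mul_zero, add_zero, zero_add, mul_eq_zero, hb, or_false, map_zero, LinearMap.zero_apply] at h1 h2
      exact ⟨h2, h1⟩
    have h := finrank_span_eq_card hli
    rwa [Fintype.card_fin, show Set.range ![u, N u] = {u, N u} by simp [Set.pair_comm]] at h

/-- A plane whose complement is good. -/
theorem split_plane (C : Space Q B) (T : TwoInv Q B N) {X : Submodule F (ι → F)} (hX : NDeg B X)
    (hXi : ∀ x ∈ X, N x ∈ X) (hc : ∃ u ∈ X, Q (N u) ≠ 0) :
    ∃ u ∈ X, Q (N u) ≠ 0 ∧ ∃ X' : Submodule F (ι → F), X' ≤ X ∧ NDeg B X' ∧ (∀ x ∈ X', N x ∈ X') ∧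
      (∀ a ∈ X', ∀ b ∈ Submodule.span F {u, N u}, B a b = 0) ∧ finrank F X' + 2 = finrank F X ∧ Good Q N X' := by
  classical
  obtain ⟨u, hu, hq⟩ := hc
  have sub : ∀ {w : ι → F}, w ∈ X → Submodule.span F {w, N w} ≤ X := fun {w} hw =>
    Submodule.span_le.2 (by rintro _ (rfl | rfl); exacts [hw, hXi w hw])
  obtain ⟨hP, hPi, hPd⟩ := plane_props C T hq
  obtain ⟨R, hRX, hR, hRi, hRo, hRd, hRsup, -⟩ := exists_compl C T hX hXi hP hPi (sub hu)
  rw [hPd] at hRd
  by_cases hgood : Good Q N R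
  · exact ⟨u, hu, hq, R, hRX, hR, hRi, hRo, hRd, hgood⟩
  -- two mixed planes
  simp only [Good, not_or, not_exists, not_and, not_not, not_forall] at hgood
  obtain ⟨halt, u', hu', hNu'⟩ := hgood
  obtain ⟨v₀, hv₀, hv₀'⟩ : ∃ v ∈ R, B (N u') v ≠ 0 := by
    by_contra hcon
    push Not at hcon
    exact hNu' (hR _ (hRi u' hu') hcon)
  set v' := (B (N u') v₀)⁻¹ • v₀ with hv'
  have hv'R : v' ∈ R := R.smul_mem _ hv₀
  have huv : B (N u') v' = 1 := by rw [hv', map_smul, smul_eq_mul, inv_mul_cancel₀ hv₀']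
  set q₀ := Q (N u) with hq₀
  have o1 : ∀ a ∈ R, B a u = 0 ∧ B a (N u) = 0 := fun a ha =>
    ⟨hRo a ha u (Submodule.subset_span (Or.inl rfl)), hRo a ha _ (Submodule.subset_span (Or.inr rfl))⟩
  have hbu' : B u' (N u') = 0 := by rw [← T.qn]; exact halt u' hu'
  have hbv' : B v' (N v') = 0 := by rw [← T.qn]; exact halt v' hv'R
  have hcross : ∀ a ∈ R, B u (N a) = 0 ∧ B a (N u) = 0 := fun a ha =>
    ⟨by rw [C.symm]; exact (o1 _ (hRi a ha)).1, (o1 a ha).2⟩
  set w := u + u' with hw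
  set y := u + q₀ • v' with hy
  have hyv : B u' (N v') = 1 := by rw [← T.adj, huv]
  have hqw : Q (N w) = q₀ := by
    rw [T.qn, hw]
    simp only [map_add, LinearMap.add_apply, (hcross u' hu').1, (hcross u' hu').2, hbu', add_zero, zero_add, hq₀, T.qn u]
  have hwy : B w (N y) = 0 := by
    rw [hy, hw]
    simp only [map_add, map_smul, LinearMap.add_apply, smul_eq_mul, (hcross v' hv'R).1, (hcross u' hu').2,
      hyv, add_zero, mul_zero, mul_one, hq₀, T.qn u]
    linear_combination (B u (N u)) * T.two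
  have hqy : B y (N y) = q₀ := by
    rw [hy]
    simp only [map_add, map_smul, LinearMap.add_apply, LinearMap.smul_apply, smul_eq_mul, (hcross v' hv'R).1,
      (hcross v' hv'R).2, hbv', add_zero, mul_zero, hq₀, T.qn u]
  have hwX : w ∈ X := X.add_mem hu (hRX hu')
  have hyX : y ∈ X := X.add_mem hu (hRX (R.smul_mem _ hv'R))
  obtain ⟨hP', hP'i, hP'd⟩ := plane_props C T (by rw [hqw]; exact hq)
  obtain ⟨R', hR'X, hR', hR'i, hR'o, hR'd, -, hR'mem⟩ := exists_compl C T hX hXi hP' hP'i (sub hwX)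
  rw [hP'd] at hR'd
  refine ⟨w, hwX, by rw [hqw]; exact hq, R', hR'X, hR', hR'i, hR'o, hR'd, Or.inl ⟨y - (B y w / q₀) • N w, ?_, ?_⟩⟩
  · refine hR'mem _ (X.sub_mem hyX (X.smul_mem _ (hXi w hwX))) fun b hb => ?_
    obtain ⟨a, c, rfl⟩ := Submodule.mem_span_pair.1 hb
    have e1 : B (N w) w = q₀ := by rw [C.symm, ← T.qn, hqw]
    have e2 : B y (N w) = 0 := by rw [← T.adj, C.symm, hwy]
    simp only [map_sub, map_smul, map_add, LinearMap.sub_apply, LinearMap.smul_apply, smul_eq_mul, e1, e2, T.nn,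
      mul_zero, sub_zero, add_zero]
    rw [div_mul_cancel₀ _ hq, sub_self, mul_zero]
  · rw [map_sub, map_smul, T.sq, smul_zero, sub_zero, T.qn, hqy]
    exact hq

variable [Finite F]

/-- Peeling planes off a good subspace. -/
theorem good_chain (C : Space Q B) (T : TwoInv Q B N) : ∀ (s : ℕ) (X : Submodule F (ι → F)) (n : ℕ),
    finrank F X = 2 * n → s < n → NDeg B X → (∀ x ∈ X, N x ∈ X) → Good Q N X →
    ∃ S X' : Submodule F (ι → F), NDeg B S ∧ (∀ x ∈ S, N x ∈ S) ∧ finrank F S = 2 * s ∧ X' ≤ X ∧ NDeg B X' ∧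
      (∀ x ∈ X', N x ∈ X') ∧ finrank F X' = 2 * (n - s) ∧ Good Q N X' ∧ S ≤ X ∧ ∀ a ∈ S, ∀ b ∈ X', B a b = 0 := by
  classical
  intro s
  induction s with
  | zero =>
    intro X n hXd _ hX hXi hg
    exact ⟨⊥, X, ndeg_bot, fun x hx => by rw [(Submodule.mem_bot F).1 hx, map_zero]; exact zero_mem _, by simp, le_rfl,
      hX, hXi, hXd, hg, bot_le, fun a ha b _ => by rw [(Submodule.mem_bot F).1 ha, map_zero, LinearMap.zero_apply]⟩
  | succ s ih =>
    intro X n hXd hsn hX hXi hg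
    obtain ⟨S, X', hS, hSi, hSd, hX'X, hX', hX'i, hX'd, hg', hSX, hSo⟩ := ih X n hXd (by omega) hX hXi hg
    obtain ⟨P, X'', hP, hPi, hPd, hPX, hX''X, hX'', hX''i, hX''o, hX''d, hg''⟩ :
        ∃ P X'' : Submodule F (ι → F), NDeg B P ∧ (∀ x ∈ P, N x ∈ P) ∧ finrank F P = 2 ∧ P ≤ X' ∧ X'' ≤ X' ∧
          NDeg B X'' ∧ (∀ x ∈ X'', N x ∈ X'') ∧ (∀ a ∈ X'', ∀ b ∈ P, B a b = 0) ∧
          finrank F X'' + 2 = finrank F X' ∧ Good Q N X'' := by
      rcases hg' with hc | hfix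
      · obtain ⟨u, hu, hq, R, hRX, hR, hRi, hRo, hRd, hRg⟩ := split_plane C T hX' hX'i hc
        obtain ⟨hP, hPi, hPd⟩ := plane_props C T hq
        exact ⟨_, R, hP, hPi, hPd, Submodule.span_le.2 (by rintro _ (rfl | rfl); exacts [hu, hX'i u hu]), hRX, hR, hRi,
          hRo, hRd, hRg⟩
      · obtain ⟨P, hPX, hP, hPd, -⟩ := exists_sub_type C hX'd hX' le_rfl (show 1 < n - s by omega) True
        have hPi : ∀ x ∈ P, N x ∈ P := fun x hx => by rw [hfix x (hPX hx)]; exact P.zero_mem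
        obtain ⟨R, hRX, hR, hRi, hRo, hRd, -, -⟩ := exists_compl C T hX' hX'i hP hPi hPX
        exact ⟨P, R, hP, hPi, by omega, hPX, hRX, hR, hRi, hRo, by omega, Or.inr fun x hx => hfix x (hRX hx)⟩
    obtain ⟨hnd, hd⟩ := ndeg_sup C hS hP fun a ha b hb => hSo a ha b (hPX hb)
    refine ⟨S ⊔ P, X'', hnd, fun x hx => ?_, by omega, hX''X.trans hX'X, hX'', hX''i, by omega, hg'',
      sup_le hSX (hPX.trans hX'X), fun a ha b hb => ?_⟩
    · obtain ⟨a, ha, b, hb, rfl⟩ := Submodule.mem_sup.1 hx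
      rw [map_add]; exact Submodule.add_mem_sup (hSi a ha) (hPi b hb)
    · obtain ⟨a', ha', c, hc, rfl⟩ := Submodule.mem_sup.1 ha
      rw [map_add, LinearMap.add_apply, hSo a' ha' b (hX''X hb), C.symm, hX''o b hb c hc, add_zero]

/-- Good subspaces of dimension at least four contain invariant planes of either type. -/
theorem good_plane (C : Space Q B) (T : TwoInv Q B N) {X : Submodule F (ι → F)} {n : ℕ} (hXd : finrank F X = 2 * n)
    (hn : 2 ≤ n) (hX : NDeg B X) (hXi : ∀ x ∈ X, N x ∈ X) (hg : Good Q N X) (τ : Prop) [Decidable τ] :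
    ∃ P : Submodule F (ι → F), P ≤ X ∧ NDeg B P ∧ (∀ x ∈ P, N x ∈ P) ∧ finrank F P = 2 ∧
      (Cfsg.Geo.IsPlusTypeOn Q P ↔ τ) := by
  classical
  haveI := Fintype.ofFinite F
  rcases hg with hc | hfix
  · obtain ⟨u, hu, hq, R, hRX, hR, hRi, hRo, hRd, hRg⟩ := split_plane C T hX hXi hc
    obtain ⟨z, hz, hNz, hQz⟩ : ∃ z ∈ R, N z = 0 ∧ Q z ≠ 0 := by
      rcases hRg with ⟨v, hv, hqv⟩ | hfixR
      · exact ⟨N v, hRi v hv, T.sq v, hqv⟩
      · obtain ⟨z, hz, hQz⟩ := exists_nonsing C hR (fun h => by rw [h, finrank_bot] at hRd; omega)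
        exact ⟨z, hz, hfixR z hz, hQz⟩
    obtain ⟨t, ht⟩ : ∃ t : F, (∀ a b : F, a ^ 2 + 1 * a * b + t * b ^ 2 = 0 → a = 0 ∧ b = 0) :=
      exists_zeta' F
    set want : F := if τ then 0 else t * Q (N u) with hwant
    obtain ⟨c, hc⟩ := exists_sqrt_two T.two ((want + Q u) / Q z)
    set u₁ := u + c • z with hu₁
    have hNu : N u₁ = N u := by rw [hu₁, map_add, map_smul, hNz, smul_zero, add_zero]
    have hQu : Q u₁ = want := by
      have e : B u z = 0 := by rw [C.symm]; exact hRo z hz u (Submodule.subset_span (Or.inl rfl))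
      rw [hu₁, C.add, C.smul, map_smul, e, smul_zero, add_zero, hc, div_mul_cancel₀ _ hQz]
      linear_combination Q u * T.two
    have hu₁X : u₁ ∈ X := X.add_mem hu (X.smul_mem _ (hRX hz))
    obtain ⟨hP, hPi, hPd⟩ := plane_props C T (show Q (N u₁) ≠ 0 by rw [hNu]; exact hq)
    refine ⟨_, Submodule.span_le.2 (by rintro _ (rfl | rfl); exacts [hu₁X, hXi _ hu₁X]), hP, hPi, hPd, ?_⟩
    by_cases hτ : τ
    · refine iff_of_true ⟨F ∙ u₁, (Submodule.span_singleton_le_iff_mem _ _).2 (Submodule.subset_span (Or.inl rfl)),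
        fun x hx => ?_, ?_⟩ hτ
      · obtain ⟨a, rfl⟩ := Submodule.mem_span_singleton.1 hx
        rw [C.smul, hQu, hwant, if_pos hτ, mul_zero]
      · rw [finrank_span_singleton (fun h => hq (by rw [← hNu, h, map_zero, C.zero])), hPd]
    · refine iff_of_false (fun ⟨A, hA, hAQ, hAd⟩ => ?_) hτ
      obtain ⟨x, hx, hx0⟩ := Submodule.exists_mem_ne_zero_of_ne_bot
        (fun h : A = ⊥ => by rw [h, finrank_bot, hPd] at hAd; omega)
      obtain ⟨a, b, rfl⟩ := Submodule.mem_span_pair.1 (hA hx)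
      have h := hAQ _ hx
      rw [C.smul_add, hQu, ← T.qn u₁, hNu, hwant, if_neg hτ] at h
      have h' : b ^ 2 + 1 * b * a + t * a ^ 2 = 0 :=
        (mul_eq_zero.1 (show Q (N u) * (b ^ 2 + 1 * b * a + t * a ^ 2) = 0 by linear_combination h)).resolve_left hq
      obtain ⟨rfl, rfl⟩ := ht _ _ h'
      exact hx0 (by simp)
  · obtain ⟨P, hPX, hP, hPd, hPt⟩ := exists_sub_type C hXd hX le_rfl (show 1 < n by omega) τ
    exact ⟨P, hPX, hP, fun x hx => by rw [hfix x (hPX hx)]; exact P.zero_mem, by omega, hPt⟩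

/-- Good spaces: subspaces of every dimension and type. -/
theorem good_main (C : Space Q B) (T : TwoInv Q B N) {d k : ℕ} (hn : Fintype.card ι = 2 * d) (hk : 1 ≤ k) (hkd : k < d)
    (hc : ∃ u, Q (N u) ≠ 0) (τ : Prop) [Decidable τ] :
    ∃ W : Submodule F (ι → F), finrank F W = 2 * k ∧ NDeg B W ∧ (Cfsg.Geo.IsPlusTypeOn Q W ↔ τ) ∧
      ∀ x ∈ W, N x ∈ W := by
  classical
  obtain ⟨u, hu⟩ := hc
  obtain ⟨S, X', hS, hSi, hSd, -, hX', hX'i, hX'd, hg, -, hSo⟩ := good_chain C T (k - 1) ⊤ d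
    (by rw [finrank_top, finrank_fintype_fun_eq_card, hn]) (by omega) C.ndeg_top (fun x _ => Submodule.mem_top)
    (Or.inl ⟨u, Submodule.mem_top, hu⟩)
  obtain ⟨P, hPX, hP, hPi, hPd, hPt⟩ := good_plane C T hX'd (by omega) hX' hX'i hg (Cfsg.Geo.IsPlusTypeOn Q S ↔ τ)
  have ho : ∀ a ∈ S, ∀ b ∈ P, B a b = 0 := fun a ha b hb => hSo a ha b (hPX hb)
  obtain ⟨hnd, hd⟩ := ndeg_sup C hS hP ho
  refine ⟨S ⊔ P, by omega, hnd, ?_, fun x hx => ?_⟩
  · rw [type_sum C hSd (t := 1) (by omega) hS hP ho, hPt]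
    by_cases h : Cfsg.Geo.IsPlusTypeOn Q S <;> simp [h]
  · obtain ⟨a, ha, b, hb, rfl⟩ := Submodule.mem_sup.1 hx
    rw [map_add]; exact Submodule.add_mem_sup (hSi a ha) (hPi b hb)

omit [Finite F] in
/-- A block of dimension four. -/
theorem block_props (C : Space Q B) (T : TwoInv Q B N) (hA : ∀ u, Q (N u) = 0) {u v : ι → F} (huv : B (N u) v = 1) :
    ∃ Y : Submodule F (ι → F), u ∈ Y ∧ v ∈ Y ∧ (∀ {X : Submodule F (ι → F)}, u ∈ X → v ∈ X → N u ∈ X → N v ∈ X → Y ≤ X) ∧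
      NDeg B Y ∧ (∀ x ∈ Y, N x ∈ Submodule.span F {N u, N v}) ∧ (∀ x ∈ Y, N x ∈ Y) ∧ finrank F Y = 4 ∧
      Cfsg.Geo.IsPlusTypeOn Q Y := by
  classical
  let J : (Fin 4 → F) →ₗ[F] (ι → F) :=
    { toFun := fun q => q 0 • u + q 1 • N u + q 2 • v + q 3 • N v
      map_add' := fun p q => by simp only [Pi.add_apply, add_smul]; abel
      map_smul' := fun c q => by simp only [Pi.smul_apply, smul_eq_mul, mul_smul, RingHom.id_apply, smul_add] }
  have e1 : B u (N v) = 1 := by rw [← T.adj, huv]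
  have e2 : B u (N u) = 0 := by rw [← T.qn]; exact hA u
  have e3 : B v (N v) = 0 := by rw [← T.qn]; exact hA v
  have coef : ∀ q, (∀ y ∈ ({u, N u, v, N v} : Set (ι → F)), B (J q) y = 0) → q = 0 := fun q h => by
    have a1 := h (N v) (by simp)
    have a2 := h (N u) (by simp)
    have a3 := h v (by simp)
    have a4 := h u (by simp)
    simp only [J, LinearMap.coe_mk, AddHom.coe_mk, map_add, map_smul, LinearMap.add_apply, LinearMap.smul_apply,
      smul_eq_mul, T.self C, T.nn, C.symm v u, C.symm (N u) u, C.symm (N v) v, C.symm v (N u), C.symm (N v) u,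
      e1, e2, e3, huv, mul_zero, mul_one, add_zero, zero_add] at a1 a2 a3 a4
    rw [a1] at a3
    rw [a2] at a4
    simp only [zero_mul, zero_add] at a3 a4
    funext t
    fin_cases t
    · exact a1
    · exact a3
    · exact a2
    · exact a4
  have hmem : ∀ y ∈ ({u, N u, v, N v} : Set (ι → F)), y ∈ LinearMap.range J := by
    rintro y (rfl | rfl | rfl | rfl)
    · exact ⟨![1, 0, 0, 0], by simp [J]⟩
    · exact ⟨![0, 1, 0, 0], by simp [J]⟩
    · exact ⟨![0, 0, 1, 0], by simp [J]⟩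
    · exact ⟨![0, 0, 0, 1], by simp [J]⟩
  have hinj : Function.Injective J := by
    rw [injective_iff_map_eq_zero]
    exact fun q hq => coef q fun y _ => by rw [hq, map_zero, LinearMap.zero_apply]
  have hNJ : ∀ q, N (J q) = q 0 • N u + q 2 • N v := fun q => by simp [J, T.sq]
  have hd : finrank F (LinearMap.range J) = 4 := by rw [LinearMap.finrank_range_of_inj hinj, Module.finrank_fin_fun]
  refine ⟨LinearMap.range J, hmem u (by simp), hmem v (by simp), fun {X} h1 h2 h3 h4 => ?_, ?_, ?_, ?_, hd, ?_⟩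
  · rintro _ ⟨q, rfl⟩
    exact X.add_mem (X.add_mem (X.add_mem (X.smul_mem _ h1) (X.smul_mem _ h3)) (X.smul_mem _ h2)) (X.smul_mem _ h4)
  · rintro _ ⟨q, rfl⟩ h
    rw [coef q fun y hy => h y (hmem y hy), map_zero]
  · rintro _ ⟨q, rfl⟩
    rw [hNJ]
    exact Submodule.mem_span_pair.2 ⟨_, _, rfl⟩
  · rintro _ ⟨q, rfl⟩
    exact ⟨![0, q 0, 0, q 2], by rw [hNJ]; simp [J]⟩
  · let G : (Fin 2 → F) →ₗ[F] (Fin 4 → F) :=
      { toFun := fun p => ![0, p 0, 0, p 1]
        map_add' := fun a b => by ext t; fin_cases t <;> simp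
        map_smul' := fun c a => by ext t; fin_cases t <;> simp }
    refine ⟨LinearMap.range (J ∘ₗ G), LinearMap.range_comp_le_range _ _, ?_, ?_⟩
    · rintro _ ⟨p, rfl⟩
      rw [show (J ∘ₗ G) p = N (p 0 • u + p 1 • v) by simp [J, G]]
      exact hA _
    · rw [LinearMap.finrank_range_of_inj (f := J ∘ₗ G) (fun a b h => by
        have h' : G a = G b := hinj h
        funext t
        fin_cases t
        · exact congrFun h' 1
        · exact congrFun h' 3), Module.finrank_fin_fun, hd]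

/-- Blocks of dimension four inside an invariant subspace. -/
theorem exists_blocks_two (C : Space Q B) (T : TwoInv Q B N) (hA : ∀ u, Q (N u) = 0) :
    ∀ (b : ℕ) (X : Submodule F (ι → F)), NDeg B X → ∀ hXi : (∀ x ∈ X, N x ∈ X),
      2 * b ≤ finrank F (LinearMap.range (N.restrict hXi)) →
      ∃ Y : Submodule F (ι → F), Y ≤ X ∧ NDeg B Y ∧ (∀ x ∈ Y, N x ∈ Y) ∧ finrank F Y = 2 * (2 * b) ∧
        Cfsg.Geo.IsPlusTypeOn Q Y := by
  classical
  intro b
  induction b with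
  | zero =>
    intro X _ _ _
    exact ⟨⊥, bot_le, ndeg_bot, fun x hx => by rw [(Submodule.mem_bot F).1 hx, map_zero]; exact zero_mem _, by simp,
      plus_bot Q C.zero⟩
  | succ b ih =>
    intro X hX hXi hr
    obtain ⟨u, hu, hNu⟩ : ∃ u ∈ X, N u ≠ 0 := by
      by_contra hcon
      push Not at hcon
      have : LinearMap.range (N.restrict hXi) = ⊥ := eq_bot_iff.2 (by
        rintro _ ⟨x, rfl⟩
        exact (Submodule.mem_bot F).2 (Subtype.ext (hcon x x.2)))
      rw [this, finrank_bot] at hr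
      omega
    obtain ⟨v₀, hv₀, hv₀'⟩ : ∃ v ∈ X, B (N u) v ≠ 0 := by
      by_contra hcon
      push Not at hcon
      exact hNu (hX _ (hXi u hu) hcon)
    set v := (B (N u) v₀)⁻¹ • v₀ with hv
    have hvX : v ∈ X := X.smul_mem _ hv₀
    obtain ⟨Z, huZ, hvZ, hZle, hZ, hZN, hZi, hZd, hZp⟩ := block_props C T hA (u := u) (v := v)
      (by rw [hv, map_smul, smul_eq_mul, inv_mul_cancel₀ hv₀'])
    have hZX : Z ≤ X := hZle hu hvX (hXi u hu) (hXi v hvX)
    obtain ⟨R, hRX, hR, hRi, hRo, hRd, hXsup, -⟩ := exists_compl C T hX hXi hZ hZi hZX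
    have hrR : 2 * b ≤ finrank F (LinearMap.range (N.restrict hRi)) := by
      have hle : (LinearMap.range (N.restrict hXi)).map X.subtype ≤
          (LinearMap.range (N.restrict hRi)).map R.subtype ⊔ Submodule.span F {N u, N v} := by
        rintro _ ⟨_, ⟨x, rfl⟩, rfl⟩
        obtain ⟨a, ha, c, hc, hac⟩ := Submodule.mem_sup.1 (hXsup x.2)
        show N (x : ι → F) ∈ _
        rw [← hac, map_add]
        exact Submodule.add_mem_sup ⟨_, ⟨⟨a, ha⟩, rfl⟩, rfl⟩ (hZN c hc)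
      have h := (Submodule.finrank_mono hle).trans (Submodule.finrank_add_le_finrank_add_finrank _ _)
      rw [Submodule.finrank_map_subtype_eq, Submodule.finrank_map_subtype_eq] at h
      have := finrank_span_pair_le (N u) (N v)
      omega
    obtain ⟨Y, hYR, hY, hYi, hYd, hYp⟩ := ih R hR hRi hrR
    have ho : ∀ a ∈ Y, ∀ c ∈ Z, B a c = 0 := fun a ha c hc => hRo a (hYR ha) c hc
    obtain ⟨hnd, hd⟩ := ndeg_sup C hY hZ ho
    refine ⟨Y ⊔ Z, sup_le (hYR.trans hRX) hZX, hnd, fun x hx => ?_, by omega, ?_⟩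
    · obtain ⟨a, ha, c, hc, rfl⟩ := Submodule.mem_sup.1 hx
      rw [map_add]; exact Submodule.add_mem_sup (hYi a ha) (hZi c hc)
    · exact (type_sum C hYd (t := 2) (by omega) hY hZ ho).2 (iff_of_true hYp hZp)

/-- The case without planes. -/
theorem alt_main (C : Space Q B) (T : TwoInv Q B N) (hA : ∀ u, Q (N u) = 0) {d : ℕ} (hn : Fintype.card ι = 2 * d) :
    ∃ b f : ℕ, d = 2 * b + f ∧ ∃ K : Submodule F (ι → F), NDeg B K ∧ finrank F K = 2 * f ∧ (∀ x ∈ K, N x = 0) ∧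
      (Cfsg.Geo.IsPlusTypeOn Q (⊤ : Submodule F (ι → F)) ↔ Cfsg.Geo.IsPlusTypeOn Q K) ∧
      ∀ b' ≤ b, ∃ Y : Submodule F (ι → F), NDeg B Y ∧ (∀ x ∈ Y, N x ∈ Y) ∧ finrank F Y = 2 * (2 * b') ∧
        Cfsg.Geo.IsPlusTypeOn Q Y ∧ ∀ a ∈ Y, ∀ c ∈ K, B a c = 0 := by
  classical
  set R := LinearMap.range N with hR
  set Kr := LinearMap.ker N with hKr
  have hRK : R ≤ Kr := by rintro _ ⟨x, rfl⟩; exact T.sq x
  have hnull := LinearMap.finrank_range_add_finrank_ker N
  rw [finrank_fintype_fun_eq_card, hn, ← hR, ← hKr] at hnull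
  have hnd : B.Nondegenerate := ⟨fun x hx => C.nondeg' hx, fun x hx => C.nondeg _ hx⟩
  have hperp : B.orthogonal Kr = R := by
    refine (Submodule.eq_of_le_of_finrank_eq ?_ ?_).symm
    · rintro _ ⟨x, rfl⟩ y hy
      show B y (N x) = 0
      rw [← T.adj, show N y = 0 from hy, map_zero, LinearMap.zero_apply]
    · rw [LinearMap.BilinForm.finrank_orthogonal hnd, finrank_fintype_fun_eq_card, hn]
      omega
  obtain ⟨K', hK'⟩ := Submodule.exists_isCompl (R.comap Kr.subtype)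
  set K := K'.map Kr.subtype with hKdef
  have hKd : finrank F K + finrank F R = finrank F Kr := by
    rw [hKdef, Submodule.finrank_map_subtype_eq, ← (Submodule.comapSubtypeEquivOfLe hRK).finrank_eq, add_comm]
    exact Submodule.finrank_add_eq_of_isCompl hK'
  have hKfix : ∀ x ∈ K, N x = 0 := by rintro _ ⟨y, -, rfl⟩; exact y.2
  have hKnd : NDeg B K := by
    rintro _ ⟨x, hx, rfl⟩ h
    have hxR : (x : ι → F) ∈ R := by
      rw [← hperp]
      intro y hy
      show B y (x : ι → F) = 0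
      obtain ⟨a, ha, c, hc, hac⟩ := Submodule.mem_sup.1
        (show (⟨y, hy⟩ : Kr) ∈ R.comap Kr.subtype ⊔ K' by rw [hK'.codisjoint.eq_top]; exact Submodule.mem_top)
      rw [show y = (a : ι → F) + (c : ι → F) from (congrArg Subtype.val hac).symm, map_add, LinearMap.add_apply]
      obtain ⟨w, hw⟩ := (ha : (a : ι → F) ∈ R)
      have h1 : B (a : ι → F) (x : ι → F) = 0 := by
        rw [show (a : ι → F) = N w from hw.symm, T.adj, show N (x : ι → F) = 0 from x.2, map_zero]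
      show B (a : ι → F) (x : ι → F) + B (c : ι → F) (x : ι → F) = 0
      rw [h1, zero_add, C.symm]
      exact h _ ⟨c, hc, rfl⟩
    have h0 : x ∈ R.comap Kr.subtype ⊓ K' := ⟨hxR, hx⟩
    rw [(Submodule.mem_bot F).1 (hK'.disjoint.le_bot h0), map_zero]
  obtain ⟨X, -, hX, hXi, hXo, hXd, hsup, -⟩ := exists_compl C T C.ndeg_top (fun x _ => Submodule.mem_top) hKnd
    (fun x hx => by rw [hKfix x hx]; exact K.zero_mem) le_top
  rw [finrank_top, finrank_fintype_fun_eq_card, hn] at hXd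
  have hrX : finrank F R ≤ finrank F (LinearMap.range (N.restrict hXi)) := by
    rw [← Submodule.finrank_map_subtype_eq X]
    refine Submodule.finrank_mono ?_
    rintro _ ⟨x, rfl⟩
    obtain ⟨a, ha, c, hc, hac⟩ := Submodule.mem_sup.1 (hsup (Submodule.mem_top (x := x)))
    rw [← hac, map_add, hKfix c hc, add_zero]
    exact ⟨_, ⟨⟨a, ha⟩, rfl⟩, rfl⟩
  obtain ⟨b, hb⟩ : Even (finrank F R) := by
    have h := even_rank C N C.ndeg_top (fun u _ => Submodule.mem_top)
      (fun u _ => by rw [C.symm, ← T.qn]; exact hA u)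
    rw [finrank_top, finrank_fintype_fun_eq_card, hn] at h
    have e : finrank F (LinearMap.ker (N.restrict (fun u (_ : u ∈ (⊤ : Submodule F (ι → F))) => Submodule.mem_top))) =
        finrank F Kr := by
      rw [LinearMap.restrict, LinearMap.ker_codRestrict, LinearMap.ker_domRestrict]
      exact (Submodule.comapSubtypeEquivOfLe le_top).finrank_eq
    rw [e] at h
    rwa [show finrank F R = 2 * d - finrank F Kr by omega]
  refine ⟨b, d - 2 * b, by omega, K, hKnd, by omega, hKfix, ?_, fun b' hb' => ?_⟩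
  · obtain ⟨Y, hYX, hY, -, hYd, hYp⟩ := exists_blocks_two C T hA b X hX hXi (by omega)
    have hYe : Y = X := Submodule.eq_of_le_of_finrank_eq hYX (by omega)
    have htop : X ⊔ K = ⊤ := top_le_iff.1 hsup
    rw [← htop, type_sum C (s := 2 * b) (t := d - 2 * b) (by rw [← hYe]; exact hYd) (by omega) hX hKnd hXo]
    exact ⟨fun h => h.1 (hYe ▸ hYp), fun h => iff_of_true (hYe ▸ hYp) h⟩
  · obtain ⟨Y, hYX, hY, hYi, hYd, hYp⟩ := exists_blocks_two C T hA b' X hX hXi (by omega)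
    exact ⟨Y, hY, hYi, hYd, hYp, fun a ha c hc => hXo a (hYX ha) c hc⟩

/-- An involution fixing a subspace of a given type and dimension. -/
theorem two_fixes (C : Space Q B) (T : TwoInv Q B N) {d k : ℕ} (hn : Fintype.card ι = 2 * d) (hk : 1 ≤ k) (hkd : k < d)
    (τ : Prop) [Decidable τ] (hτ : Cfsg.Geo.IsPlusTypeOn Q (⊤ : Submodule F (ι → F)) ↔ τ)
    (hcond : (τ → Odd d ∨ Even k) ∧ (¬τ → Even d ∨ Odd k)) :
    ∃ W : Submodule F (ι → F), finrank F W = 2 * k ∧ NDeg B W ∧ (Cfsg.Geo.IsPlusTypeOn Q W ↔ τ) ∧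
      ∀ x ∈ W, N x ∈ W := by
  classical
  by_cases hc : ∃ u, Q (N u) ≠ 0
  · exact good_main C T hn hk hkd hc τ
  push Not at hc
  obtain ⟨b, f, hd, K, hK, hKd, hKfix, htop, hblocks⟩ := alt_main C T hc hn
  rw [htop] at hτ
  -- how much to take from the fixed part
  obtain ⟨s, b', hs, hsf, hb', hs1⟩ : ∃ s b', k = s + 2 * b' ∧ s ≤ f ∧ b' ≤ b ∧ (τ ∨ 1 ≤ s) := by
    by_cases hp : τ
    · by_cases h2b : k ≤ 2 * b
      · refine ⟨k % 2, k / 2, by omega, ?_, by omega, Or.inl hp⟩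
        rcases hcond.1 hp with h | h
        · rw [Nat.odd_iff] at h; omega
        · rw [Nat.even_iff] at h; omega
      · exact ⟨k - 2 * b, b, by omega, by omega, le_rfl, Or.inl hp⟩
    · have hf : 1 ≤ f := by
        by_contra h0
        obtain rfl : K = ⊥ := Submodule.finrank_eq_zero.1 (by omega)
        exact hp (hτ.1 (plus_bot Q C.zero))
      by_cases h2b : k ≤ 2 * b
      · rcases Nat.even_or_odd k with he | ho
        · rw [Nat.even_iff] at he
          refine ⟨2, k / 2 - 1, by omega, ?_, by omega, Or.inr (by omega)⟩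
          rcases hcond.2 hp with h | h
          · rw [Nat.even_iff] at h; omega
          · rw [Nat.odd_iff] at h; omega
        · rw [Nat.odd_iff] at ho
          exact ⟨1, k / 2, by omega, hf, by omega, Or.inr le_rfl⟩
      · exact ⟨k - 2 * b, b, by omega, by omega, le_rfl, Or.inr (by omega)⟩
  obtain ⟨K', hK'K, hK'nd, hK'd, hK't⟩ : ∃ K', K' ≤ K ∧ NDeg B K' ∧ finrank F K' = 2 * s ∧
      (Cfsg.Geo.IsPlusTypeOn Q K' ↔ τ) := by
    rcases Nat.eq_zero_or_pos s with rfl | hs0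
    · exact ⟨⊥, bot_le, ndeg_bot, by simp, iff_of_true (plus_bot Q C.zero) (hs1.resolve_right (by omega))⟩
    rcases hsf.lt_or_eq with hlt | rfl
    · obtain ⟨Y, h1, h2, h3, h4⟩ := exists_sub_type C hKd hK hs0 hlt τ
      exact ⟨Y, h1, h2, h3, h4⟩
    · exact ⟨K, le_rfl, hK, hKd, hτ⟩
  obtain ⟨Y, hY, hYi, hYd, hYp, hYo⟩ := hblocks b' hb'
  have ho : ∀ a ∈ Y, ∀ c ∈ K', B a c = 0 := fun a ha c hc => hYo a ha c (hK'K hc)
  obtain ⟨hnd, hdd⟩ := ndeg_sup C hY hK'nd ho
  refine ⟨Y ⊔ K', by omega, hnd, ?_, fun x hx => ?_⟩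
  · rw [type_sum C hYd hK'd hY hK'nd ho]
    exact ⟨fun h => hK't.1 (h.1 hYp), fun h => iff_of_true hYp (hK't.2 h)⟩
  · obtain ⟨a, ha, c, hc, rfl⟩ := Submodule.mem_sup.1 hx
    rw [map_add, hKfix c (hK'K hc), add_zero]
    exact Submodule.mem_sup_left (hYi a ha)

end Cfsg.Lib.Linear.NondegFix
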