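import Cfsg.Agent.Lib.Linear.NondegFix.Unipotent
import Cfsg.Agent.Lib.Linear.NondegFix.InvolOdd

/-!
# The standard nilpotent map in odd dimension, and classes of odd-dimensional subspaces
-/

set_option autoImplicit false

universe u

namespace Cfsg.Lib.Linear.NondegFix

open Module Cfsg.Lib.Linear.Orth Cfsg.Lib.Linear.IsoFix Cfsg.Agent.Lib.Linear.PrimeClasses
open scoped Matrix

variable {F : Type u} [Field F] {d : ℕ}

theorem nilp_cube (v : Unit ⊕ (Fin d ⊕ Fin d) → F) : nilp F d (nilp F d (nilp F d v)) = 0 := by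
  funext t
  rcases t with t | t | t
  · rw [nilp_inl]
    simp only [nilp_y, mul_zero, Finset.sum_const_zero, Pi.zero_apply]
  · rw [nilp_x]
    simp only [nilp_y, nilp_inl, mul_zero, Finset.sum_const_zero, neg_zero, sub_zero, add_zero, Pi.zero_apply]
  · rfl

/-- The kernel vector outside the image. -/
def nilpKer (F : Type*) [Field F] (d : ℕ) : Unit ⊕ (Fin d ⊕ Fin d) → F :=
  if d % 2 = 1 then 0 else Pi.single (.inl ()) 1

/-- The vector spanning the image of the square. -/
def nilpTop (F : Type*) [Field F] (d : ℕ) : Unit ⊕ (Fin d ⊕ Fin d) → F :=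
  Sum.elim 0 (Sum.elim (fun i => tip F i) 0)

theorem nilp_sq (v : Unit ⊕ (Fin d ⊕ Fin d) → F) :
    nilp F d (nilp F d v) = (-(2 * ∑ i, tip F i * v (.inr (.inr i)))) • nilpTop F d := by
  funext t
  rcases t with ⟨⟨⟩⟩ | t | t
  · rw [nilp_inl]; simp [nilp_y, nilpTop]
  · rw [nilp_x]; simp [nilp_y, nilp_inl, nilpTop]; ring
  · rw [nilp_y]; simp [nilpTop]

theorem nilpTop_zero (hd : d % 2 = 0) : nilpTop F d = 0 := by
  funext t
  rcases t with t | t | t
  · rfl
  · have := t.2
    simp [nilpTop, tip]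
    omega
  · rfl

theorem nilp_ker_fix : nilp F d (nilpKer F d) = 0 := by
  unfold nilpKer
  split_ifs with h
  · exact map_zero _
  · funext t
    have htip : ∀ i : Fin d, tip F i = 0 := fun i => by
      have := i.2
      rw [tip, if_neg (by omega)]
    rcases t with t | t | t
    · rw [nilp_inl]; simp [htip]
    · rw [nilp_x]; simp [htip]
    · rfl

theorem nilp_ne_zero (hd : 2 ≤ d) : nilp F d ≠ 0 := by
  intro h
  have h5 := congrFun (LinearMap.congr_fun h (Pi.single (.inr (.inr (⟨1, by omega⟩ : Fin d))) 1))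
    (.inr (.inl (⟨0, by omega⟩ : Fin d)))
  have e1 : sig (⟨0, by omega⟩ : Fin d) = ⟨1, by omega⟩ := Fin.ext (by rw [sig_val]; simp; omega)
  have e2 : tip F (⟨0, by omega⟩ : Fin d) = 0 := by rw [tip, if_neg (by simp only; omega)]
  have e3 : sgn F (⟨0, by omega⟩ : Fin d) = 1 := by rw [sgn, if_neg (by simp), if_pos (by simp only; omega)]
  rw [nilp_x, e1, e2, e3] at h5
  simp at h5

theorem nilp_kernel (h2 : (2 : F) ≠ 0) (u : Unit ⊕ (Fin d ⊕ Fin d) → F) (hu : nilp F d u = 0) :
    ∃ (c : F) (z : Unit ⊕ (Fin d ⊕ Fin d) → F), u = nilp F d z + c • nilpKer F d := by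
  have hy : ∀ i : Fin d, u (.inr (.inr i)) = 0 := by
    intro i
    have hlast : ∀ j : Fin d, tip F j = 1 → u (.inr (.inr j)) = 0 := by
      intro j hj
      have h3 := congrFun hu (.inl ())
      rw [nilp_inl, sum_tip] at h3
      unfold tip at hj
      split_ifs at hj with hj'
      · have := j.2
        rw [dif_pos (by omega)] at h3
        rwa [show j = ⟨d - 1, by omega⟩ from Fin.ext (by simp only; omega)]
      · exact absurd hj zero_ne_one
    by_cases ht : tip F i = 1
    · exact hlast i ht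
    · have ht0 : tip F i = 0 := by
        unfold tip at ht ⊢
        split_ifs at ht ⊢ with h
        · exact absurd rfl ht
        · rfl
      have h3 := congrFun hu (.inr (.inl (sig i)))
      have ht' : tip F (sig i) = 0 := by
        have h4 := sgn_sq (F := F) i
        have h5 := sgn_sq (F := F) (sig i)
        rw [sgn_sig, neg_mul_neg, h4, ht0] at h5
        linear_combination h5
      rw [nilp_x, sig_sig, ht', zero_mul, add_zero, sgn_sig, Pi.zero_apply, mul_eq_zero] at h3
      refine h3.resolve_left fun h6 => ?_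
      have h7 := sgn_sq (F := F) i
      rw [neg_eq_zero.1 h6, ht0] at h7
      simp at h7
  refine ⟨if d % 2 = 1 then 0 else u (.inl ()), Sum.elim (fun _ => -(∑ j, tip F j * u (.inr (.inl j))) / 2)
    (Sum.elim 0 fun j => -(sgn F j) * u (.inr (.inl (sig j)))), funext fun t => ?_⟩
  rcases t with ⟨⟨⟩⟩ | t | t
  · rw [Pi.add_apply, Pi.smul_apply, nilp_inl, nilpKer]
    simp only [Sum.elim_inr]
    have e : ∑ j : Fin d, tip F j * (-(sgn F j) * u (.inr (.inl (sig j)))) = 0 :=
      Finset.sum_eq_zero fun j _ => by linear_combination (-u (.inr (.inl (sig j)))) * sgn_mul_tip (F := F) j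
    rw [e, zero_add]
    split_ifs with h
    · have h3 := fun j : Fin d => congrFun hu (.inr (.inl j))
      have h4 := h3 ⟨d - 1, by omega⟩
      have e2 : tip F (⟨d - 1, by omega⟩ : Fin d) = 1 := by
        rw [tip, if_pos ⟨by simp only; omega, by simp only; omega⟩]
      rw [nilp_x, e2, hy, hy] at h4
      simp only [mul_zero, zero_add, sub_zero, one_mul, Pi.zero_apply, neg_eq_zero, mul_eq_zero] at h4
      simp [h4.resolve_left h2]
    · simp
  · rw [Pi.add_apply, Pi.smul_apply, nilp_x]
    simp only [Sum.elim_inr, Sum.elim_inl, sig_sig, sgn_sig]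
    have hv : nilpKer F d (.inr (.inl t)) = 0 := by rw [nilpKer]; split_ifs <;> simp
    rw [hv, smul_zero, add_zero, sum_tip]
    have hs := sgn_sq (F := F) t
    have hst := sgn_mul_tip (F := F) t
    by_cases ht : tip F t = 1
    · unfold tip at ht
      split_ifs at ht with h
      · have := t.2
        rw [dif_pos (by omega), show (⟨d - 1, by omega⟩ : Fin d) = t from Fin.ext (by simp only; omega)]
        have e3 : sig t = t := Fin.ext (by rw [sig_val]; split_ifs <;> omega)
        rw [e3]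
        have e4 : tip F t = 1 := by rw [tip, if_pos h]
        rw [e4] at hs hst ⊢
        rw [mul_one] at hst
        rw [hst]
        field_simp
        ring
      · exact absurd ht zero_ne_one
    · have ht0 : tip F t = 0 := by
        unfold tip at ht ⊢
        split_ifs at ht ⊢ with h
        · exact absurd rfl ht
        · rfl
      rw [ht0] at hs ⊢
      linear_combination (-u (.inr (.inl t))) * hs
  · rw [Pi.add_apply, Pi.smul_apply, nilp_y, hy, zero_add, nilpKer]
    split_ifs <;> simp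

/-- The value on the image. -/
theorem quad_nilp (v : Unit ⊕ (Fin d ⊕ Fin d) → F) :
    Cfsg.quadFormOdd d F (nilp F d v) = (∑ i, tip F i * v (.inr (.inr i))) ^ 2 := by
  simp [Cfsg.quadFormOdd, nilp_inl, nilp_y]

section classes

variable {ι : Type} [Fintype ι] [DecidableEq ι] {Q : (ι → F) → F} {B : LinearMap.BilinForm F (ι → F)}

/-- An anisotropic vector with a totally singular complement half determines the class. -/
theorem embed_of_line [Finite F] (C : Space Q B) (h2 : (2 : F) ≠ 0) {j : ℕ} {W : Submodule F (ι → F)}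
    (hW : finrank F W = 2 * j + 1) (hnd : NDeg B W) {w : ι → F} (hw : w ∈ W) (hQw : Q w ≠ 0)
    {S : Submodule F (ι → F)} (hS : S ≤ W) (hSd : finrank F S = j) (hSQ : ∀ x ∈ S, Q x = 0)
    (hSw : ∀ x ∈ S, B w x = 0) :
    ∃ E : (Unit ⊕ (Fin j ⊕ Fin j) → F) →ₗ[F] (ι → F), (∀ v, Q (E v) = scaleQ (Q w) (Cfsg.quadFormOdd j F) v) ∧
      LinearMap.range E = W := by
  classical
  have hww : B w w ≠ 0 := by rw [C.self]; exact mul_ne_zero h2 hQw
  obtain ⟨D₁, C₁⟩ := exists_space (Q := Cfsg.quadFormOdd j F) (isQuad_odd j h2)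
  obtain ⟨E', hE', hrW⟩ : ∃ E' : (Fin j ⊕ Fin j → F) →ₗ[F] (ι → F),
      (∀ v, Q (E' v) = Cfsg.quadFormPlus j F v) ∧ ∀ v, E' v ∈ W ∧ B w (E' v) = 0 := by
    rcases Nat.eq_zero_or_pos j with rfl | hj
    · exact ⟨0, fun v => by simp [C.zero, Cfsg.quadFormPlus], fun v => ⟨W.zero_mem, by simp⟩⟩
    let W' := W ⊓ LinearMap.ker (B w)
    have hproj : ∀ y ∈ W, y - (B w y / B w w) • w ∈ W' := fun y hy =>
      ⟨W.sub_mem hy (W.smul_mem _ hw), by
        show B w _ = 0
        rw [map_sub, map_smul, smul_eq_mul, div_mul_cancel₀ _ hww, sub_self]⟩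
    have hnd' : NDeg B W' := fun x hx h => hnd x hx.1 fun y hy => by
      have h1 := h _ (hproj y hy)
      rwa [map_sub, map_smul, C.symm x w, show B w x = 0 from hx.2, smul_zero, sub_zero] at h1
    have hd' : finrank F W' = 2 * j := by
      have h4 := Submodule.finrank_sup_add_finrank_inf_eq W' (F ∙ w)
      have h5 : W' ⊓ (F ∙ w) = ⊥ := eq_bot_iff.2 fun x hx => by
        obtain ⟨a, rfl⟩ := Submodule.mem_span_singleton.1 hx.2
        have h6 : B w (a • w) = 0 := hx.1.2
        rw [map_smul, smul_eq_mul, mul_eq_zero, or_iff_left hww] at h6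
        simp [h6]
      have h7 : W' ⊔ (F ∙ w) = W := le_antisymm (sup_le inf_le_left ((Submodule.span_singleton_le_iff_mem w W).2 hw))
        fun y hy => by
          rw [show y = (y - (B w y / B w w) • w) + (B w y / B w w) • w from (sub_add_cancel _ _).symm]
          exact Submodule.add_mem_sup (hproj y hy) (Submodule.smul_mem _ _ (Submodule.mem_span_singleton_self w))
      rw [h7, h5, finrank_bot, add_zero, finrank_span_singleton (fun h => hQw (by rw [h, C.zero]))] at h4
      omega
    obtain ⟨E', hE', hr⟩ := (plus_pred_iff C hj W').1 ⟨hd', geo_of_ndeg C hnd',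
      S, fun x hx => ⟨hS hx, hSw x hx⟩, hSQ, by omega⟩
    refine ⟨E', hE', fun v => ?_⟩
    have h8 : E' v ∈ W' := by rw [← hr]; exact ⟨v, rfl⟩
    exact ⟨h8.1, h8.2⟩
  let E : (Unit ⊕ (Fin j ⊕ Fin j) → F) →ₗ[F] (ι → F) :=
    { toFun := fun v => v (.inl ()) • w +
        E' (Sum.elim (fun i => Q w * v (.inr (.inl i))) fun i => v (.inr (.inr i)))
      map_add' := fun u v => by
        rw [add_add_add_comm, ← map_add, Pi.add_apply, add_smul]
        congr 2
        ext (i | i) <;> simp [mul_add]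
      map_smul' := fun r v => by
        rw [RingHom.id_apply, smul_add, ← map_smul, Pi.smul_apply, smul_eq_mul, mul_smul]
        congr 2
        ext (i | i) <;> simp [mul_left_comm] }
  have hE : ∀ v, Q (E v) = scaleQ (Q w) (Cfsg.quadFormOdd j F) v := fun v => by
    show Q (_ • w + E' _) = _
    rw [C.add, C.smul, map_smul, LinearMap.smul_apply, (hrW _).2, hE']
    simp only [smul_zero, add_zero, scaleQ, Cfsg.quadFormPlus, Cfsg.quadFormOdd, Sum.elim_inl, Sum.elim_inr,
      mul_add, Finset.mul_sum, mul_assoc]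
    ring
  refine ⟨E, hE, Submodule.eq_of_le_of_finrank_eq ?_ ?_⟩
  · rintro _ ⟨v, rfl⟩
    exact W.add_mem (W.smul_mem _ hw) (hrW _).1
  · rw [finrank_embed C (scale_space C₁ hQw) hE, card_odd_index, hW]

/-- The scalar of an odd-dimensional subspace is determined up to squares. -/
theorem class_unique [Fintype F] (C : Space Q B) (h2 : (2 : F) ≠ 0) {j : ℕ} {z z' : F} (hz : z ≠ 0) (hz' : z' ≠ 0)
    {E E' : (Unit ⊕ (Fin j ⊕ Fin j) → F) →ₗ[F] (ι → F)} (hE : ∀ v, Q (E v) = scaleQ z (Cfsg.quadFormOdd j F) v)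
    (hE' : ∀ v, Q (E' v) = scaleQ z' (Cfsg.quadFormOdd j F) v) (hr : LinearMap.range E' = LinearMap.range E) :
    IsSquare (z' / z) := by
  classical
  obtain ⟨D₁, C₁⟩ := exists_space (Q := Cfsg.quadFormOdd j F) (isQuad_odd j h2)
  have CR := scale_space C₁ hz
  let W := LinearMap.range E
  obtain ⟨L, L₁, hL, -, hL₁, hO, hO₁, hlen, hspan⟩ := exists_lists C h2 (one_mem (Cfsg.isometryGroup F Q))
    (fun x => by simp) _ W ((finrank_embed C CR hE).trans (card_odd_index j)) (ndeg_range C CR hE)
    (fun x hx => by simpa using hx)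
  have hL₁e : L₁ = [] := by
    rcases L₁ with _ | ⟨v, M⟩
    · rfl
    · exfalso
      have h := hL₁ v (List.mem_cons_self)
      rw [Units.val_one, Matrix.one_mulVec] at h
      refine hO₁.1 v List.mem_cons_self ?_
      have h2v : (2 : F) • v = 0 := by rw [two_smul]; exact add_eq_zero_iff_eq_neg.2 h
      rw [(smul_eq_zero.1 h2v).resolve_left h2, C.zero]
  subst hL₁e
  rw [List.append_nil] at hL hspan
  rw [List.length_nil, add_zero] at hlen
  let e := LinearEquiv.ofInjective E (embed_injective C CR hE)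
  obtain ⟨G, hG⟩ := LinearMap.exists_extend (E' ∘ₗ e.symm.toLinearMap)
  have hGW : ∀ w ∈ W, G w ∈ W ∧ Q (G w) = z' / z * Q w := fun w hw => by
    obtain ⟨v, rfl⟩ := hw
    rw [show G (E v) = E' v from (LinearMap.congr_fun hG (e v)).trans (congrArg E' (e.symm_apply_apply v)), hE', hE]
    refine ⟨show E' v ∈ LinearMap.range E from hr ▸ ⟨v, rfl⟩, ?_⟩
    simp only [scaleQ]
    field_simp
  have hO₂ : OrthList Q B (L.map G) := by
    refine ⟨fun v hv => ?_, ?_⟩
    · obtain ⟨x, hx, rfl⟩ := List.mem_map.1 hv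
      rw [(hGW x (hL x hx)).2]
      exact mul_ne_zero (div_ne_zero hz' hz) (hO.1 x hx)
    · refine List.pairwise_map.2 (hO.2.imp_of_mem fun {x y} hx hy hxy => ?_)
      rw [← C.polar, QuadraticMap.polar, ← map_add, (hGW _ (W.add_mem (hL x hx) (hL y hy))).2,
        (hGW x (hL x hx)).2, (hGW y (hL y hy)).2, C.add, hxy]
      ring
  have h3 := disc_unique C h2 hO hO₂ (by simp) fun v hv => by
    obtain ⟨x, hx, rfl⟩ := List.mem_map.1 hv
    exact hspan (hGW x (hL x hx)).1
  rw [List.map_map, List.map_congr_left (f := Q ∘ G) (g := fun x => z' / z * Q x) fun x hx => (hGW x (hL x hx)).2,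
    List.prod_map_mul, List.map_const', List.prod_replicate, hlen] at h3
  obtain ⟨s, hs⟩ := h3
  set P := (L.map Q).prod with hP
  have hP0 : P ≠ 0 := List.prod_ne_zero fun h0 => by
    obtain ⟨x, hx, hx0⟩ := List.mem_map.1 h0
    exact hO.1 x hx hx0
  have hc0 : P * (z' / z) ^ j ≠ 0 := mul_ne_zero hP0 (pow_ne_zero _ (div_ne_zero hz' hz))
  refine ⟨s / (P * (z' / z) ^ j), ?_⟩
  rw [div_mul_div_comm s, eq_div_iff (mul_ne_zero hc0 hc0), ← hs, pow_succ]
  ring

end classes

end Cfsg.Lib.Linear.NondegFix
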