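import Cfsg.Agent.Lib.Linear.NondegFix.Count
import Cfsg.Agent.Lib.Linear.IsotropicFix.Comb

/-!
# Odd dimension: elements of prime order `r ≠ 2, p` on non-degenerate subspaces of even dimension
-/

set_option autoImplicit false

universe u

namespace Cfsg.Lib.Linear.NondegFix

open Module Cfsg.Agent.Lib.Linear.PrimeClasses Cfsg.Agent.S5961 Cfsg.Lib.Linear.Orth Cfsg.Lib.Linear.IsoFix
open scoped Matrix

section comb

variable {r : ℕ} [Fact r.Prime]

/-- The condition on multiplicity functions. -/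
theorem cond_iff {w : (ZMod r)ˣ} {c n m : ℕ} (hwc : orderOf w = c) (hce : Even c) (hn : Odd n) (hm : Even m)
    (hmn : m < n) (T : Prop) :
    (∀ f : ZMod r → ℕ, Inv w n f → ∃ μ : ZMod r → ℕ, Inv w m μ ∧ (∀ x, μ x ≤ f x) ∧ (μ 0 ≠ 0 ∨ T)) ↔
      (m % c < n % c ∧ (0 < m % c ∨ T)) := by
  classical
  have hc0 : 0 < c := hwc ▸ orderOf_pos w
  obtain ⟨e, rfl⟩ := hce
  obtain ⟨o, rfl⟩ := hn
  obtain ⟨s, rfl⟩ := hm
  have hk := Nat.div_add_mod (2 * o + 1) (e + e)
  have hl := Nat.div_add_mod (s + s) (e + e)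
  have hklt : (2 * o + 1) % (e + e) < e + e := Nat.mod_lt _ hc0
  have hllt : (s + s) % (e + e) < e + e := Nat.mod_lt _ hc0
  constructor
  · intro hall
    obtain ⟨μ, hμ, hle, hT⟩ := hall (fun x => (if x = 0 then (2 * o + 1) % (e + e) else 0) +
        (2 * o + 1) / (e + e) * (if x ∈ orbit w 1 then 1 else 0))
      ⟨by rw [Finset.sum_add_distrib, Finset.sum_ite_eq', if_pos (Finset.mem_univ _), ← Finset.mul_sum,
            sum_orbit_one, hwc, mul_comm ((2 * o + 1) / (e + e)) (e + e)]; omega,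
        fun x => congrArg₂ (· + ·) (if_congr (by simp) rfl rfl)
          (congrArg ((2 * o + 1) / (e + e) * ·) (if_congr (orbit_indicator w 1 x) rfl rfl))⟩
    have h0 := hle 0
    rw [if_pos rfl, if_neg (zero_notMem_orbit w), mul_zero, add_zero] at h0
    obtain ⟨J, hJ⟩ := dvd_sum_erase w hwc _ _ hμ
    have hμ0 : μ 0 ≤ s + s :=
      hμ.1 ▸ Finset.single_le_sum (f := μ) (fun y _ => Nat.zero_le _) (Finset.mem_univ (0 : ZMod r))
    -- parities
    have hp1 : (2 * o + 1) % (e + e) % 2 = 1 := by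
      rw [← two_mul, Nat.mod_mul_right_mod]; omega
    have hp2 : μ 0 % 2 = 0 := by
      have : (e + e) * J = 2 * (e * J) := by ring
      omega
    have hμeq : (s + s) % (e + e) = μ 0 := by
      rw [show s + s = μ 0 + (e + e) * J by omega, Nat.add_mul_mod_self_left, Nat.mod_eq_of_lt (by omega)]
    rw [hμeq]
    exact ⟨by omega, hT.imp_left Nat.pos_of_ne_zero⟩
  · rintro ⟨hlk, hT⟩ f hf
    set K := (2 * o + 1 - f 0) / (e + e) with hK
    have hdvd := dvd_sum_erase w hwc _ _ hf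
    have hKe : (e + e) * K = 2 * o + 1 - f 0 := Nat.mul_div_cancel' hdvd
    have hf0 : f 0 ≤ 2 * o + 1 :=
      hf.1 ▸ Finset.single_le_sum (f := f) (fun y _ => Nat.zero_le _) (Finset.mem_univ (0 : ZMod r))
    have hKle : K ≤ (2 * o + 1) / (e + e) := Nat.div_le_div_right (Nat.sub_le _ _)
    have hmul := Nat.mul_le_mul_left (e + e) hKle
    set J := min ((s + s) / (e + e)) K with hJ
    obtain ⟨g, hg, hg0, hgi⟩ := exists_sub_orbits w hwc J _ f hf (by
      have h1 : (e + e) * J ≤ (e + e) * K := Nat.mul_le_mul_left _ (min_le_right _ _)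
      rw [mul_comm J]
      omega)
    have hJm : (e + e) * J ≤ s + s := (Nat.mul_le_mul_left _ (min_le_left _ _)).trans (by omega)
    refine ⟨g + Pi.single (0 : ZMod r) (s + s - (e + e) * J), ⟨?_, fun x => ?_⟩, fun x => ?_, ?_⟩
    · simp only [Pi.add_apply, Finset.sum_add_distrib, Finset.sum_pi_single', Finset.mem_univ, if_true]
      rw [hgi.1, mul_comm J]
      omega
    · simp only [Pi.add_apply]
      rw [hgi.2, Pi.single_apply, Pi.single_apply, if_congr (mul_eq_zero.trans (or_iff_right w.ne_zero)) rfl rfl]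
    · rw [Pi.add_apply, Pi.single_apply]
      by_cases hx : x = 0
      · subst hx
        rw [hg0, if_pos rfl, zero_add]
        rcases le_total ((s + s) / (e + e)) K with h | h
        · rw [hJ, min_eq_left h]
          omega
        · rw [hJ, min_eq_right h]
          omega
      · rw [if_neg hx, add_zero]; exact hg x
    · rw [Pi.add_apply, hg0, Pi.single_eq_same, zero_add]
      rcases le_total ((s + s) / (e + e)) K with h | h
      · rw [hJ, min_eq_left h]
        rcases hT with h1 | h1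
        · exact Or.inl (by omega)
        · exact Or.inr h1
      · rcases h.lt_or_eq with h' | h'
        · refine Or.inl ?_
          rw [hJ, min_eq_right h]
          have := Nat.mul_le_mul_left (e + e) (Nat.succ_le_of_lt h')
          rw [Nat.mul_succ] at this
          omega
        · rw [hJ, h', min_self]
          rcases hT with h1 | h1
          · exact Or.inl (by omega)
          · exact Or.inr h1

end comb

variable {F : Type u} [Field F] [Fintype F] {κ : Type} [Fintype κ] [DecidableEq κ] {R : (κ → F) → F}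
  {D : LinearMap.BilinForm F (κ → F)} {k e : ℕ}

/-- The quotient of two orthogonal orders. -/
theorem exists_order_quotient (h2 : (2 : F) ≠ 0) (k e : ℕ) :
    ∃ X a : ℕ, Nat.card ↥(Cfsg.isometryGroup F (Cfsg.quadFormOdd (k + e) F)) =
      Nat.card ↥(Cfsg.isometryGroup F (Cfsg.quadFormOdd e F)) * X ∧
      X = Fintype.card F ^ a * ∏ i ∈ Finset.range k, (Fintype.card F ^ (2 * (e + i + 1)) - 1) := by
  obtain ⟨-, -, h1⟩ := counts_odd (F := F) h2 (k + e)
  obtain ⟨-, -, h0⟩ := counts_odd (F := F) h2 e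
  rw [prod_odd, Nat.card_eq_fintype_card (α := F)] at h1 h0
  obtain ⟨a, ha⟩ : ∃ a, 1 * (k + e) + (k + e) * (k + e - 1) = (1 * e + e * (e - 1)) + a := by
    refine Nat.exists_eq_add_of_le ?_
    have : e * (e - 1) ≤ (k + e) * (k + e - 1) := Nat.mul_le_mul (by omega) (by omega)
    omega
  refine ⟨_, a, ?_, rfl⟩
  have h : (Nat.card ↥(Cfsg.isometryGroup F (Cfsg.quadFormOdd (k + e) F)) : ℤ) =
      ((Nat.card ↥(Cfsg.isometryGroup F (Cfsg.quadFormOdd e F)) *
        (Fintype.card F ^ a * ∏ i ∈ Finset.range k, (Fintype.card F ^ (2 * (e + i + 1)) - 1)) : ℕ) : ℤ) := by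
    push_cast
    rw [h1, h0, ha, pow_add]
    simp_rw [Nat.cast_sub (Nat.one_le_pow _ _ Fintype.card_pos)]
    push_cast
    rw [add_comm k e, Finset.prod_range_add]
    ring
  exact_mod_cast h

/-- Odd dimension, `r` odd and different from the characteristic. -/
theorem odd_main (p : ℕ) [Fact p.Prime] [CharP F p] (h2 : (2 : F) ≠ 0) (CR : Space R D)
    {R' : (Unit ⊕ (Fin e ⊕ Fin e) → F) → F}
    {D' : LinearMap.BilinForm F (Unit ⊕ (Fin e ⊕ Fin e) → F)} (C' : Space R' D')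
    (hR' : Cfsg.isometryGroup F R' = Cfsg.isometryGroup F (Cfsg.quadFormOdd e F))
    {ψ : (Unit ⊕ (Fin (k + e) ⊕ Fin (k + e)) → F) ≃ₗ[F] (κ ⊕ (Unit ⊕ (Fin e ⊕ Fin e)) → F)}
    (S : IsSum (Cfsg.quadFormOdd (k + e) F) R R' ψ) (hk : 1 ≤ k) (hκ : Fintype.card κ = 2 * k)
    {r : ℕ} [Fact r.Prime] (hr2 : r ≠ 2) (hrp : r ≠ p)
    (hrΩ : r ∣ Nat.card {W : Submodule F (Unit ⊕ (Fin (k + e) ⊕ Fin (k + e)) → F) //
      ∃ E : (κ → F) →ₗ[F] (Unit ⊕ (Fin (k + e) ⊕ Fin (k + e)) → F),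
        (∀ v, Cfsg.quadFormOdd (k + e) F (E v) = R v) ∧ LinearMap.range E = W})
    {i c : ℕ} (hi : i = orderOf (Fintype.card F : ZMod r)) (hc : c = if Even i then i else 2 * i)
    (T : Prop)
    (hreal₁ : ∀ (ζ : AlgebraicClosure F), IsPrimitiveRoot ζ r → ∀ uq w : (ZMod r)ˣ,
      (uq : ZMod r) = (Fintype.card F : ZMod r) → orderOf uq = i → (∃ t : ℕ, uq = w ^ t) →
      (∃ t : ℕ, (-1 : (ZMod r)ˣ) = w ^ t) → ∀ f : ZMod r → ℕ, Inv w (2 * k) f →
      ((f 0 ≠ 0 ∨ T) ↔ ∃ g : ↥(Cfsg.isometryGroup F R), g ^ r = 1 ∧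
        ((g : GL κ F) : Matrix κ κ F).charpoly.map (algebraMap F (AlgebraicClosure F)) = Pm ζ f)) :
    ((∀ x : GL (Unit ⊕ (Fin (k + e) ⊕ Fin (k + e))) F, x ∈ Cfsg.Geo.omegaGL (Cfsg.quadFormOdd (k + e) F) →
      orderOf x = r → FixesR (Cfsg.quadFormOdd (k + e) F) R (x : Matrix _ _ F)) ↔
      ((2 * k) % c < (2 * (k + e) + 1) % c ∧ (0 < (2 * k) % c ∨ T))) ∧
    ((2 * k) % c < (2 * (k + e) + 1) % c → c ≤ 2 * k) := by
  classical
  have hr : r.Prime := Fact.out
  obtain ⟨B, C⟩ := exists_space (Q := Cfsg.quadFormOdd (k + e) F) (isQuad_odd _ h2)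
  let L := AlgebraicClosure F
  haveI : CharP L p := charP_of_injective_algebraMap (algebraMap F L).injective p
  have hrL : (r : L) ≠ 0 := fun h =>
    hrp ((Nat.prime_dvd_prime_iff_eq Fact.out hr).mp ((CharP.cast_eq_zero_iff L p r).mp h)).symm
  have hrF : (r : F) ≠ 0 := fun h => hrL (by rw [← map_natCast (algebraMap F L), h, map_zero])
  haveI : NeZero (r : L) := ⟨hrL⟩
  obtain ⟨ζ, hζ⟩ := HasEnoughRootsOfUnity.exists_primitiveRoot L r
  have hrq : (Fintype.card F : ZMod r) ≠ 0 := fun h => by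
    obtain ⟨t, -, ht⟩ := FiniteField.card F p
    rw [ZMod.natCast_eq_zero_iff, ht] at h
    exact hrp ((Nat.prime_dvd_prime_iff_eq hr Fact.out).mp (hr.dvd_of_dvd_pow h))
  let uq : (ZMod r)ˣ := Units.mk0 _ hrq
  have huq : (uq : ZMod r) = (Fintype.card F : ZMod r) := rfl
  have hiu : orderOf uq = i := by rw [hi, ← orderOf_units, huq]
  obtain ⟨w, hw, hwq, hwn, hwo⟩ := exists_gen hr2 uq
  rw [hiu] at hwo
  have hwc : orderOf w = c := by
    rw [hwo, hc]
    by_cases he : Even i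
    · rw [if_pos he, if_neg (Nat.not_odd_iff_even.mpr he)]
    · rw [if_neg he, if_pos (Nat.not_even_iff_odd.mp he)]
  have hce : Even c := by
    rw [hc]
    split_ifs with he
    · exact he
    · exact even_two_mul i
  have hcpos : 0 < c := hwc ▸ orderOf_pos w
  refine ⟨?_, fun hlk => ?_⟩
  · refine (order_iff C (by rw [card_odd_index]; omega) (Or.inr (by rw [card_odd_index]; omega)) hr2
      (FixesR (Cfsg.quadFormOdd (k + e) F) R) ⟨inE ψ, S.Q_inE C', fun v => ⟨v, by rw [Matrix.one_mulVec]⟩⟩).trans ?_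
    rw [all_fixesR_iff C CR C' S hζ hrL hrF hr2 huq w hw (n := 2 * (k + e) + 1) (m := 2 * k) (n' := 2 * e + 1)
      (card_odd_index _) hκ (by omega) (fun _ => True) (fun f => f 0 ≠ 0 ∨ T) (fun _ => True)
      (fun f hf => ⟨fun _ => real_odd hζ hr2 huq w hwq hwn h2 _ hf, fun _ => trivial⟩)
      (hreal₁ ζ hζ uq w huq hiu hwq hwn)
      (fun f hf => ⟨fun _ => by
        obtain ⟨g, hg, hgp⟩ := real_odd hζ hr2 huq w hwq hwn h2 _ hf
        exact ⟨⟨g.1, by rw [hR']; exact g.2⟩, Subtype.ext (congrArg Subtype.val hg :), hgp⟩, fun _ => trivial⟩)]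
    refine Iff.trans ?_ (cond_iff hwc hce ⟨k + e, rfl⟩ ⟨k, by ring⟩ (by omega) T)
    exact ⟨fun h f hf => by
        obtain ⟨μ, h1, h3, h4, -⟩ := h f hf trivial
        exact ⟨μ, h1, h3, h4⟩,
      fun h f hf _ => by
        obtain ⟨μ, h1, h3, h4⟩ := h f hf
        exact ⟨μ, h1, h3, h4, trivial⟩⟩
  · by_contra hcm
    obtain ⟨X, a, hX, hXe⟩ := exists_order_quotient (F := F) h2 k e
    refine not_dvd_count C CR C' S (X := X) ?_ ?_ hrΩ
    · rw [hX, hR']
    rw [hXe]
    intro hdvd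
    rcases hr.dvd_mul.1 hdvd with h | h
    · obtain ⟨t, -, ht⟩ := FiniteField.card F p
      rw [ht] at h
      exact hrp ((Nat.prime_dvd_prime_iff_eq hr Fact.out).mp (hr.dvd_of_dvd_pow (hr.dvd_of_dvd_pow h)))
    obtain ⟨j, hj, hjd⟩ := (Prime.dvd_finsetProd_iff hr.prime _).1 h
    rw [Finset.mem_range] at hj
    have h5 : i ∣ 2 * (e + j + 1) := by
      rw [← hiu]
      refine orderOf_dvd_of_pow_eq_one (Units.ext ?_)
      rw [Units.val_pow_eq_pow_val, huq, Units.val_one, ← Nat.cast_pow, ← sub_eq_zero, ← Nat.cast_one (R := ZMod r),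
        ← Nat.cast_sub (Nat.one_le_pow _ _ Fintype.card_pos)]
      exact (ZMod.natCast_eq_zero_iff _ _).2 hjd
    have hij : c ∣ 2 * (e + j + 1) := by
      rw [hc]
      split_ifs with he
      · exact h5
      · exact Nat.Coprime.mul_dvd_of_dvd_of_dvd
          ((Nat.Prime.coprime_iff_not_dvd Nat.prime_two).2 fun h' => he (even_iff_two_dvd.2 h')) (dvd_mul_right 2 _) h5
    obtain ⟨x, hx⟩ := hij
    rw [Nat.mod_eq_of_lt (by omega : 2 * k < c)] at hlk
    have hn := Nat.div_add_mod (2 * (k + e) + 1) c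
    have hklt : (2 * (k + e) + 1) % c < c := Nat.mod_lt _ hcpos
    have h6 : c * ((2 * (k + e) + 1) / c) < c * x := by omega
    have h7 : c * x < c * ((2 * (k + e) + 1) / c + 1) := by rw [Nat.mul_succ]; omega
    have h8 := Nat.lt_of_mul_lt_mul_left h6
    have h9 := Nat.lt_of_mul_lt_mul_left h7
    omega

end Cfsg.Lib.Linear.NondegFix
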