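import Cfsg.Agent.Lib.Linear.NondegFix.InvolOdd
import Cfsg.Agent.S5973
import Cfsg.Agent.S5987

/-!
# Isometries with square `-1` and non-degenerate subspaces
-/

set_option autoImplicit false

universe u

namespace Cfsg.Lib.Linear.NondegFix

open Module Cfsg.Lib.Linear.Orth Cfsg.Lib.Linear.IsoFix Cfsg.Agent.Lib.Linear.PrimeClasses
open scoped Matrix

variable {F : Type u} [Field F] {ι : Type} [Fintype ι] [DecidableEq ι]
  {Q : (ι → F) → F} {B : LinearMap.BilinForm F (ι → F)}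

/-- An invariant non-degenerate subspace has square discriminant. -/
theorem inv_sq_neg (C : Space Q B) (h2 : (2 : F) ≠ 0) {g : GL ι F} (hg : g ∈ Cfsg.isometryGroup F Q)
    (hsq : ∀ x, g.val *ᵥ (g.val *ᵥ x) = -x) {W : Submodule F (ι → F)} (hnd : NDeg B W)
    (hinv : ∀ x ∈ W, g.val *ᵥ x ∈ W) :
    ∃ L : List (ι → F), OrthList Q B L ∧ L.length = finrank F W ∧ Submodule.span F {x | x ∈ L} = W ∧
      Even (finrank F W) ∧ IsSquare (L.map Q).prod := by
  obtain ⟨L, hLW, hO, hsp⟩ := exists_pairs C h2 hg hsq _ W rfl hnd hinv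
  have he : Submodule.span F {x | x ∈ pairList g L} = W := le_antisymm (Submodule.span_le.2 hLW) hsp
  have hd := (span_orthList C h2 hO).1
  rw [he] at hd
  exact ⟨pairList g L, hO, hd.symm, he, by rw [hd, length_pairList]; exact even_two_mul _,
    isSquare_pairList_prod C hg L⟩

theorem not_scalar_sq_neg (C : Space Q B) (h2 : (2 : F) ≠ 0) (hn : 2 ≤ Fintype.card ι) {g : GL ι F}
    (hg : g ∈ Cfsg.isometryGroup F Q) (hsq : ∀ x, g.val *ᵥ (g.val *ᵥ x) = -x) (z : F) :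
    (g : Matrix ι ι F) ≠ z • (1 : Matrix ι ι F) := by
  intro hz
  obtain ⟨v, hv⟩ := Cfsg.Lib.H3.exists_nonsing_vec C (by omega)
  have h := mem_iso.1 hg v
  have h' := congrArg Q (hsq v)
  simp only [hz, Matrix.smul_mulVec, Matrix.one_mulVec, C.smul, smul_smul] at h h'
  rw [show -v = (-1 : F) • v by simp, C.smul] at h'
  have hz1 : z ^ 2 = 1 := mul_right_cancel₀ hv (by rw [one_mul]; exact h)
  have h3 := hsq v
  rw [hz, Matrix.smul_mulVec, Matrix.one_mulVec, Matrix.smul_mulVec, Matrix.one_mulVec, smul_smul, ← pow_two, hz1,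
    one_smul] at h3
  have h4 : (2 : F) • v = 0 := by rw [two_smul]; exact add_eq_zero_iff_eq_neg.2 h3
  rw [(smul_eq_zero.1 h4).resolve_left h2, C.zero] at hv
  exact hv rfl

theorem sq_mem_scalar {g : GL ι F} (hsq : ∀ x, g.val *ᵥ (g.val *ᵥ x) = -x) :
    ∃ z : F, ((g ^ 2 : GL ι F) : Matrix ι ι F) = z • (1 : Matrix ι ι F) :=
  ⟨-1, mat_ext fun v => by rw [Units.val_pow_eq_pow_val, pow_two, ← Matrix.mulVec_mulVec, hsq, Matrix.smul_mulVec,
    Matrix.one_mulVec, neg_one_smul]⟩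

variable [Fintype F]

/-- Elements of order two on subspaces of odd dimension of a fixed class. -/
theorem parabolic_two (C : Space Q B) (h2 : (2 : F) ≠ 0) {m : ℕ} (hn : 2 ≤ Fintype.card ι) (hm : Odd m)
    (hmn : m < Fintype.card ι) {W₀ : Submodule F (ι → F)}
    (hW₀ : finrank F W₀ = m ∧ Cfsg.Geo.IsNondegenerateOn (QuadraticMap.polar Q) W₀) :
    (∀ x : GL ι F, x ∈ Cfsg.Geo.omegaGL Q →
      (∃ z : F, ((x ^ 2 : GL ι F) : Matrix ι ι F) = z • (1 : Matrix ι ι F)) →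
      (∀ z : F, (x : Matrix ι ι F) ≠ z • (1 : Matrix ι ι F)) →
      ∃ W : Submodule F (ι → F), (finrank F ↥W = m ∧ Cfsg.Geo.IsNondegenerateOn (QuadraticMap.polar Q) W ∧
        Cfsg.Geo.AreIsometricFor Q W W₀) ∧ W.map (Matrix.toLin' (x : Matrix ι ι F)) ≤ W) ↔
    ¬ ∃ g : GL ι F, g ∈ Cfsg.Geo.omegaGL Q ∧ ∀ x, g.val *ᵥ (g.val *ᵥ x) = -x := by
  constructor
  · rintro hall ⟨g, hgΩ, hsq⟩
    have hg : g ∈ Cfsg.isometryGroup F Q := by
      obtain ⟨y, -, rfl⟩ := hgΩ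
      exact y.2
    obtain ⟨W, ⟨hWm, hWn, -⟩, hinv⟩ := hall g hgΩ (sq_mem_scalar hsq) (not_scalar_sq_neg C h2 hn hg hsq)
    obtain ⟨L, -, -, -, he, -⟩ := inv_sq_neg C h2 hg hsq (ndeg_of_geo C hWn)
      fun x hx => hinv ⟨x, hx, Matrix.toLin'_apply _ _⟩
    rw [hWm] at he
    exact Nat.not_even_iff_odd.2 hm he
  · rintro hno x hx ⟨z, hz⟩ -
    obtain ⟨g, hg, rfl⟩ := hx
    rcases sq_scalar C (by omega) g.2 hz with h1 | hsq
    · obtain ⟨j, rfl⟩ := hm
      obtain ⟨W, hW1, hW2, hW3, hW4⟩ := invol_fixes_iso C h2 g hn hg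
        (Subtype.ext (by rw [SubmonoidClass.coe_pow]; exact h1)) hmn hW₀.1 (ndeg_of_geo C hW₀.2)
      refine ⟨W, ⟨hW1, geo_of_ndeg C hW2, hW3⟩, ?_⟩
      rintro _ ⟨v, hv, rfl⟩
      exact hW4 v hv
    · exact absurd ⟨_, ⟨g, hg, rfl⟩, hsq⟩ hno

theorem sq_two_pow_odd (h2 : (2 : F) ≠ 0) {d : ℕ} (hd : Odd d) :
    IsSquare ((2 : F) ^ d) ↔ Fintype.card F % 8 = 1 ∨ Fintype.card F % 8 = 7 := by
  obtain ⟨k, rfl⟩ := hd
  have h : IsSquare ((2 : F) ^ (2 * k + 1)) ↔ IsSquare (2 : F) := by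
    constructor
    · rintro ⟨s, hs⟩
      refine ⟨s / 2 ^ k, ?_⟩
      rw [div_mul_div_comm, eq_div_iff (mul_ne_zero (pow_ne_zero _ h2) (pow_ne_zero _ h2)), ← hs]
      ring
    · exact fun h => h.pow _
  have hodd : Fintype.card F % 2 = 1 := FiniteField.odd_card_of_char_ne_two fun h => h2 (by
    haveI : CharP F 2 := ringChar.of_eq h
    exact CharTwo.two_eq_zero)
  rw [h, FiniteField.isSquare_two_iff]
  omega

theorem neg_one_sq_iff (h2 : (2 : F) ≠ 0) : IsSquare (-1 : F) ↔ Fintype.card F % 4 = 1 := by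
  have hodd : Fintype.card F % 2 = 1 := FiniteField.odd_card_of_char_ne_two fun h => h2 (by
    haveI : CharP F 2 := ringChar.of_eq h
    exact CharTwo.two_eq_zero)
  rw [FiniteField.isSquare_neg_one_iff]
  omega

/-- Plus type: square roots of `-1` in `Ω`. -/
theorem exists_sq_neg_plus (h2 : (2 : F) ≠ 0) {d : ℕ} (hd : 1 ≤ d) :
    (∃ g : GL (Fin d ⊕ Fin d) F, g ∈ Cfsg.Geo.omegaGL (Cfsg.quadFormPlus d F) ∧
      ∀ x, g.val *ᵥ (g.val *ᵥ x) = -x) ↔ (Even d ∨ Fintype.card F % 8 = 1) := by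
  classical
  obtain ⟨B, C⟩ := exists_space_plus (F := F) d
  have hcard : Fintype.card (Fin d ⊕ Fin d) = 2 * d := by simp; omega
  constructor
  · rintro ⟨g, hgΩ, hsq⟩
    have hg : g ∈ Cfsg.isometryGroup F (Cfsg.quadFormPlus d F) := by
      obtain ⟨y, -, rfl⟩ := hgΩ
      exact y.2
    refine or_iff_not_imp_left.2 fun hde => ?_
    have hdo := Nat.not_even_iff_odd.1 hde
    obtain ⟨⟨L, hL, hLlen, hLsq⟩, hΩ⟩ := sq_neg_one C h2 hcard hd hg hsq
    obtain ⟨B₀, C₀⟩ := exists_space_plus (F := F) 0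
    have hdisc := disc_of_half C h2 hcard hL hLlen finrank_stdTS ((plusSplit d 0).stdTS_singular C₀)
    rw [hdo.neg_one_pow] at hdisc
    have h4 : IsSquare (-1 : F) := by
      obtain ⟨s, hs⟩ := hdisc
      obtain ⟨t, ht⟩ := hLsq
      have ht0 : t ≠ 0 := fun h => List.prod_ne_zero (fun h0 => by
        obtain ⟨x, hx, hx0⟩ := List.mem_map.1 h0
        exact hL.1 x hx hx0) (by rw [ht, h, mul_zero])
      refine ⟨s / t, ?_⟩
      rw [div_mul_div_comm, eq_div_iff (mul_ne_zero ht0 ht0), ← hs, ht]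
    have h8 := (sq_two_pow_odd h2 hdo).1 (hΩ.1 hgΩ)
    have := (neg_one_sq_iff h2).1 h4
    omega
  · intro h
    have hT : ∃ T : (Fin d ⊕ Fin d → F) →ₗ[F] (Fin d ⊕ Fin d → F), (∀ v, T (T v) = -v) ∧
        (∀ v, Cfsg.quadFormPlus d F (T v) = Cfsg.quadFormPlus d F v) := by
      by_cases hde : Even d
      · exact Cfsg.Agent.S5973.exists_T hde
      · have h1 : Fintype.card F % 8 = 1 := h.resolve_left hde
        obtain ⟨s, hs⟩ := (neg_one_sq_iff h2).2 (by omega)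
        exact ⟨{ toFun := fun v => Sum.elim (fun i => s * v (.inl i)) (fun i => -s * v (.inr i))
                 map_add' := fun u v => by ext (i | i) <;> simp <;> ring
                 map_smul' := fun c v => by ext (i | i) <;> simp <;> ring },
          fun v => by
            funext t
            rcases t with i | i
            · show s * (s * v (.inl i)) = -v (.inl i)
              linear_combination -(v (.inl i)) * hs
            · show -s * (-s * v (.inr i)) = -v (.inr i)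
              linear_combination -(v (.inr i)) * hs,
          fun v => Finset.sum_congr rfl fun i _ => by
            show s * v (.inl i) * (-s * v (.inr i)) = _
            linear_combination (v (.inl i) * v (.inr i)) * hs⟩
    obtain ⟨T, hT1, hT2⟩ := hT
    obtain ⟨g, hg, -, hsq⟩ := exists_gl_sq_neg_one (Q := Cfsg.quadFormPlus d F) T hT1 hT2
    refine ⟨g, (sq_neg_one C h2 hcard hd hg hsq).2.2 ?_, hsq⟩
    rcases Nat.even_or_odd d with ⟨e, rfl⟩ | hdo
    · exact ⟨2 ^ e, by rw [pow_add]⟩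
    · exact (sq_two_pow_odd h2 hdo).2 (Or.inl (h.resolve_left (Nat.not_even_iff_odd.2 hdo)))

/-- Minus type: square roots of `-1` in `Ω`. -/
theorem exists_sq_neg_minus (h2 : (2 : F) ≠ 0) (D : ℕ) {a b : F}
    (hab : ∀ x y : F, x ^ 2 + a * x * y + b * y ^ 2 = 0 → x = 0 ∧ y = 0) :
    (∃ g : GL ((Fin D ⊕ Fin D) ⊕ Fin 2) F, g ∈ Cfsg.Geo.omegaGL (Cfsg.quadFormMinus D F a b) ∧
      ∀ x, g.val *ᵥ (g.val *ᵥ x) = -x) ↔ (Odd (D + 1) ∧ Fintype.card F % 8 = 7) := by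
  classical
  obtain ⟨B, C⟩ := exists_space_minus (F := F) D a b hab
  have hcard : Fintype.card ((Fin D ⊕ Fin D) ⊕ Fin 2) = 2 * (D + 1) := by simp; omega
  constructor
  · rintro ⟨g, hgΩ, hsq⟩
    have hg : g ∈ Cfsg.isometryGroup F (Cfsg.quadFormMinus D F a b) := by
      obtain ⟨y, -, rfl⟩ := hgΩ
      exact y.2
    obtain ⟨⟨L, hL, hLlen, hLsq⟩, hΩ⟩ := sq_neg_one C h2 hcard (by omega) hg hsq
    have hdisc : ¬ IsSquare ((-1) ^ (D + 1) * (L.map (Cfsg.quadFormMinus D F a b)).prod) := fun hs => by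
      obtain ⟨W, -, hWd, hW⟩ := exists_sing C h2 (D + 1) L hL (Or.inr ⟨hLlen.symm, hs⟩)
      have := Cfsg.Lib.Linear.AutPO.minus_ts_bound hab C hW
      omega
    rcases Nat.even_or_odd (D + 1) with he | ho
    · exact absurd (by rw [he.neg_one_pow, one_mul]; exact hLsq) hdisc
    · refine ⟨ho, ?_⟩
      have h4 : Fintype.card F % 4 ≠ 1 := fun h4 => hdisc (by
        rw [ho.neg_one_pow]; exact ((neg_one_sq_iff h2).2 h4).mul hLsq)
      have h8 := (sq_two_pow_odd h2 ho).1 (hΩ.1 hgΩ)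
      omega
  · rintro ⟨ho, h7⟩
    have hns : ¬IsSquare (-1 : F) := fun h => by
      have := (neg_one_sq_iff h2).1 h
      omega
    obtain ⟨T, hT, hTQ⟩ := Cfsg.Agent.S5987.exists_T h2 (D := D) (by
      rw [Nat.even_iff]; rw [Nat.odd_iff] at ho; omega) hab hns
    obtain ⟨g, hg, -, hsq⟩ := exists_gl_sq_neg_one (Q := Cfsg.quadFormMinus D F a b) T hT hTQ
    exact ⟨g, (sq_neg_one C h2 hcard (by omega) hg hsq).2.2 ((sq_two_pow_odd h2 ho).2 (Or.inr h7)), hsq⟩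

end Cfsg.Lib.Linear.NondegFix
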