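import Cfsg.Agent.Lib.Linear.NondegFix.Parabolic
import Cfsg.Agent.Lib.Linear.SympInvolution

/-!
# Invariant non-degenerate subspaces of a nilpotent map of class at most three
-/

set_option autoImplicit false

universe u

namespace Cfsg.Lib.Linear.NondegFix

open Module Cfsg.Lib.Linear.Orth
open scoped Matrix

variable {F : Type u} [Field F] {ι : Type} [Fintype ι] [DecidableEq ι] {Q : (ι → F) → F}
  {B : LinearMap.BilinForm F (ι → F)}

/-- A map with alternating associated form has even rank on a non-degenerate invariant subspace. -/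
theorem even_rank (C : Space Q B) (L : (ι → F) →ₗ[F] (ι → F)) {W : Submodule F (ι → F)} (hW : NDeg B W)
    (hinv : ∀ x ∈ W, L x ∈ W) (halt : ∀ u ∈ W, B (L u) u = 0) :
    Even (finrank F W - finrank F (LinearMap.ker (L.restrict hinv))) := by
  classical
  obtain ⟨P, hP⟩ := Submodule.exists_isCompl (LinearMap.ker (L.restrict hinv))
  set P' := P.map W.subtype with hP'
  have hd : finrank F P' = finrank F W - finrank F (LinearMap.ker (L.restrict hinv)) := by
    rw [hP', Submodule.finrank_map_subtype_eq]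
    have := Submodule.finrank_add_eq_of_isCompl hP
    omega
  rw [← hd]
  let β : LinearMap.BilinForm F (ι → F) := B.comp L LinearMap.id
  refine Cfsg.Lib.Linear.SympInv.even_finrank β _ P' le_rfl (fun w hw => ?_) fun x hx hx0 => ?_
  · obtain ⟨y, -, rfl⟩ := hw
    exact halt _ y.2
  · obtain ⟨y, hy, rfl⟩ := hx
    have hLy : L (y : ι → F) ≠ 0 := fun h => hx0 (by
      have h1 : y ∈ LinearMap.ker (L.restrict hinv) := Subtype.ext h
      rw [(Submodule.mem_bot F).1 (hP.disjoint.le_bot ⟨h1, hy⟩), map_zero])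
    by_contra hcon
    push Not at hcon
    refine hLy (hW _ (hinv _ y.2) fun v hv => ?_)
    obtain ⟨k, hk, p, hp, hkp⟩ := Submodule.mem_sup.1
      (show (⟨v, hv⟩ : W) ∈ LinearMap.ker (L.restrict hinv) ⊔ P by rw [hP.codisjoint.eq_top]; exact Submodule.mem_top)
    have hv' : v = (k : ι → F) + (p : ι → F) := (congrArg Subtype.val hkp).symm
    have h1 : B (L (y : ι → F)) (p : ι → F) = 0 := hcon _ ⟨p, hp, rfl⟩
    have h3 := halt _ (W.add_mem y.2 k.2)
    have h4 : L (k : ι → F) = 0 := congrArg Subtype.val hk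
    simp only [map_add, LinearMap.add_apply, h4, map_zero, LinearMap.zero_apply, add_zero, halt _ y.2, zero_add] at h3
    rw [hv', map_add, h3, h1, add_zero]

/-- The values of the form on a nilpotent isometry part. -/
theorem nilp_rel (C : Space Q B) (h2 : (2 : F) ≠ 0) (N : (ι → F) →ₗ[F] (ι → F))
    (hiso : ∀ x y, B (x + N x) (y + N y) = B x y) (hN3 : ∀ x, N (N (N x)) = 0) :
    (∀ x, B (N x - (2 : F)⁻¹ • N (N x)) x = 0) ∧ (∀ x, N (N x) = 0 → Q (N x) = 0) ∧
      (∀ x y, N x = 0 → B x (N y) = 0) := by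
  have key : ∀ x y, B (N x) y + B x (N y) + B (N x) (N y) = 0 := fun x y => by
    have := hiso x y
    simp only [map_add, LinearMap.add_apply] at this
    linear_combination this
  refine ⟨fun x => ?_, fun x hx => ?_, fun x y hx => ?_⟩
  · have e1 := key x x
    have e2 := key (N x) x
    have e3 := key (N x) (N x)
    have e4 := key (N (N x)) (N x)
    rw [hN3, map_zero, LinearMap.zero_apply, LinearMap.zero_apply, zero_add, add_zero] at e4
    rw [e4, C.symm (N x) (N (N x)), add_zero] at e3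
    rw [C.symm x (N x)] at e1
    have e5 : B (N (N x)) (N x) = 0 := (mul_eq_zero.1 (show (2 : F) * B (N (N x)) (N x) = 0 by
      linear_combination e3)).resolve_left h2
    rw [e5, add_zero] at e2
    rw [map_sub, LinearMap.sub_apply, map_smul, LinearMap.smul_apply, smul_eq_mul]
    refine (mul_eq_zero.1 (show (2 : F) * (B (N x) x - (2 : F)⁻¹ * B (N (N x)) x) = 0 from ?_)).resolve_left h2
    rw [mul_sub, ← mul_assoc, mul_inv_cancel₀ h2, one_mul]
    linear_combination e1 - e2
  · have h := key (N x) x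
    rw [hx, map_zero, LinearMap.zero_apply, LinearMap.zero_apply, zero_add, add_zero, C.self] at h
    exact (mul_eq_zero.1 h).resolve_left h2
  · have h := key x y
    rwa [hx, map_zero, LinearMap.zero_apply, LinearMap.zero_apply, zero_add, add_zero] at h

/-- The numerical shape of an invariant subspace. -/
theorem unip_core (C : Space Q B) (h2 : (2 : F) ≠ 0) (N : (ι → F) →ₗ[F] (ι → F))
    (hiso : ∀ x y, B (x + N x) (y + N y) = B x y) (hN3 : ∀ x, N (N (N x)) = 0) (V₀ T₀ : Submodule F (ι → F))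
    (hker : ∀ x, N x = 0 → x ∈ LinearMap.range N ⊔ V₀) (hV₀ : ∀ v ∈ V₀, N v = 0) (hT₀ : ∀ x, N (N x) ∈ T₀)
    {W : Submodule F (ι → F)} (hW : NDeg B W) (hinv : ∀ x ∈ W, N x ∈ W) :
    ∃ r t s : ℕ, finrank F W + t = 2 * r + s ∧ Even r ∧ t ≤ finrank F T₀ ∧ s ≤ finrank F V₀ ∧
      (0 < s → ∃ w ∈ W, N w = 0 ∧ ∃ z, ∃ v ∈ V₀, v ≠ 0 ∧ w = N z + v) ∧
      (0 < t → ∃ u ∈ W, N (N u) ≠ 0) ∧
      ∃ S : Submodule F (ι → F), S ≤ W ∧ finrank F S + t = r ∧ (∀ x ∈ S, Q x = 0) ∧
        (∀ w ∈ W, N w = 0 → ∀ x ∈ S, B w x = 0) ∧ ∀ u ∈ W, ∀ x ∈ S, B (N u) x = 0 := by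
  classical
  obtain ⟨hskew, hQN, hBker⟩ := nilp_rel C h2 N hiso hN3
  set U := perpIn B ⊤ W with hUdef
  have S : Split Q B U W := split_of_ndeg C hW
  have hinvU : ∀ x ∈ U, N x ∈ U := by
    have hsurj : ∀ w ∈ W, ∃ y ∈ W, y + N y = w := fun w hw => ⟨w - N w + N (N w),
      W.add_mem (W.sub_mem hw (hinv w hw)) (hinv _ (hinv w hw)), by
        rw [map_add, map_sub, hN3]
        abel⟩
    intro x hx
    have h1 : x + N x ∈ U := (S.mem_U_iff C).2 fun w hw => by
      obtain ⟨y, hy, rfl⟩ := hsurj w hw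
      rw [hiso]
      exact (S.mem_U_iff C).1 hx y hy
    simpa using U.sub_mem h1 hx
  let NW : W →ₗ[F] W := N.restrict hinv
  set R := LinearMap.range NW
  set K := LinearMap.ker NW
  let N' : R →ₗ[F] W := NW.domRestrict R
  have hkN' : finrank F (LinearMap.ker N') = finrank F ↥(R ⊓ K) := by
    have : (LinearMap.ker N').map R.subtype = R ⊓ K := by
      ext x
      constructor
      · rintro ⟨y, hy, rfl⟩
        exact ⟨y.2, hy⟩
      · rintro ⟨h1, h3⟩
        exact ⟨⟨x, h1⟩, h3, rfl⟩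
    rw [← this, Submodule.finrank_map_subtype_eq]
  have hrk := LinearMap.finrank_range_add_finrank_ker (K := F) (V := ↥R) (V₂ := ↥W) N'
  have hnull := LinearMap.finrank_range_add_finrank_ker NW
  change finrank F R + finrank F K = _ at hnull
  have heven : Even (finrank F R) := by
    let L : (ι → F) →ₗ[F] (ι → F) := N - (2 : F)⁻¹ • (N ∘ₗ N)
    have hL : ∀ x ∈ W, L x ∈ W := fun x hx => W.sub_mem (hinv x hx) (W.smul_mem _ (hinv _ (hinv x hx)))
    have h := even_rank C L hW hL (fun u _ => hskew u)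
    have hK : LinearMap.ker (L.restrict hL) = K := by
      ext x
      show L.restrict hL x = 0 ↔ N.restrict hinv x = 0
      rw [Subtype.ext_iff, Subtype.ext_iff]
      show N (x : ι → F) - (2 : F)⁻¹ • N (N (x : ι → F)) = 0 ↔ N (x : ι → F) = 0
      refine ⟨fun h => ?_, fun h => by rw [h, map_zero, smul_zero, sub_zero]⟩
      have h3 := congrArg N h
      rw [map_sub, map_smul, hN3, smul_zero, sub_zero, map_zero] at h3
      rwa [h3, smul_zero, sub_zero] at h
    rw [hK] at h
    rwa [show finrank F R = finrank F W - finrank F K by omega]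
  have hle : R ⊓ K ≤ K := inf_le_right
  have hmono := Submodule.finrank_mono hle
  refine ⟨finrank F R, finrank F (LinearMap.range N'), finrank F K - finrank F ↥(R ⊓ K), by omega, heven,
    ?_, ?_, fun hs => ?_, fun ht => ?_,
    (R ⊓ K).map W.subtype, Submodule.map_subtype_le _ _, ?_, ?_, ?_, ?_⟩
  · rw [← Submodule.finrank_map_subtype_eq W (LinearMap.range N')]
    refine Submodule.finrank_mono ?_
    rintro _ ⟨y, ⟨⟨x, ⟨u, rfl⟩⟩, rfl⟩, rfl⟩
    exact hT₀ _
  · set V₁ := (V₀ ⊔ U) ⊓ W with hV₁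
    have h5 : finrank F V₁ ≤ finrank F V₀ := by
      have e := Submodule.finrank_sup_add_finrank_inf_eq (V₀ ⊔ U) W
      have e' : finrank F ↥((V₀ ⊔ U) ⊔ W) = finrank F (ι → F) := by
        rw [sup_assoc, S.sup, sup_top_eq, finrank_top]
      have e2 := Submodule.finrank_add_le_finrank_add_finrank V₀ U
      have e3 := S.finrank_add C
      rw [finrank_fintype_fun_eq_card] at e'
      rw [hV₁]
      omega
    have h6 : K.map W.subtype ≤ (R ⊓ K).map W.subtype ⊔ V₁ := by
      rintro _ ⟨x, hx, rfl⟩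
      have hx0 : N (x : ι → F) = 0 := congrArg Subtype.val hx
      obtain ⟨_, ⟨z, rfl⟩, v, hv, hzv⟩ := Submodule.mem_sup.1 (hker _ hx0)
      obtain ⟨a, ha, b, hb, rfl⟩ := S.parts C z
      rw [map_add] at hzv
      have hd : (x : ι → F) - N b = N a + v := by rw [← hzv]; abel
      have hmem : (x : ι → F) - N b ∈ V₁ :=
        ⟨by rw [hd]; exact add_mem (Submodule.mem_sup_right (hinvU a ha)) (Submodule.mem_sup_left hv),
          W.sub_mem x.2 (hinv b hb)⟩
      have hNb : N (N b) = 0 := by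
        have h7 : N (N a) + N (N b) = 0 := by
          have := congrArg N hzv
          rwa [map_add, map_add, hV₀ v hv, add_zero, hx0] at this
        exact S.disj C (by rw [eq_neg_of_add_eq_zero_right h7]; exact U.neg_mem (hinvU _ (hinvU a ha))) (hinv _ (hinv b hb))
      rw [show W.subtype x = N b + ((x : ι → F) - N b) by simp]
      exact Submodule.add_mem_sup ⟨⟨N b, hinv b hb⟩, ⟨⟨⟨b, hb⟩, rfl⟩, Subtype.ext hNb⟩, rfl⟩ hmem
    have h7 := (Submodule.finrank_mono h6).trans (Submodule.finrank_add_le_finrank_add_finrank _ _)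
    rw [Submodule.finrank_map_subtype_eq, Submodule.finrank_map_subtype_eq] at h7
    omega
  · obtain ⟨x, hx, hxn⟩ : ∃ x, x ∈ K ∧ x ∉ R ⊓ K := by
      by_contra hcon
      push Not at hcon
      have := Submodule.finrank_mono (fun x hx => hcon x hx : K ≤ R ⊓ K)
      omega
    have hx0 : N (x : ι → F) = 0 := congrArg Subtype.val hx
    obtain ⟨_, ⟨z, rfl⟩, v, hv, hzv⟩ := Submodule.mem_sup.1 (hker _ hx0)
    refine ⟨x, x.2, hx0, z, v, hv, fun hv0 => hxn ⟨?_, hx⟩, hzv.symm⟩
    obtain ⟨a, ha, b, hb, rfl⟩ := S.parts C z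
    rw [hv0, add_zero, map_add] at hzv
    refine ⟨⟨b, hb⟩, Subtype.ext ?_⟩
    show N b = (x : ι → F)
    have h7 : N a = 0 := S.disj C (hinvU a ha) (by
      rw [show N a = (x : ι → F) - N b by rw [← hzv]; abel]
      exact W.sub_mem x.2 (hinv b hb))
    rw [← hzv, h7, zero_add]
  · by_contra hcon
    push Not at hcon
    have : LinearMap.range N' = ⊥ := eq_bot_iff.2 (by
      rintro _ ⟨⟨_, ⟨u, rfl⟩⟩, rfl⟩
      exact (Submodule.mem_bot F).2 (Subtype.ext (hcon _ u.2)))
    rw [this, finrank_bot] at ht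
    omega
  · rw [Submodule.finrank_map_subtype_eq, ← hkN']
    omega
  · rintro _ ⟨x, ⟨⟨u, rfl⟩, hk⟩, rfl⟩
    exact hQN _ (congrArg Subtype.val hk)
  · rintro w - hw _ ⟨x, ⟨⟨u, rfl⟩, -⟩, rfl⟩
    exact hBker _ _ hw
  · rintro u - _ ⟨x, ⟨-, hk⟩, rfl⟩
    rw [C.symm]
    exact hBker _ _ (congrArg Subtype.val hk)

end Cfsg.Lib.Linear.NondegFix
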