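import Cfsg.Agent.Lib.Linear.NondegFix.UnipCore
import Cfsg.Agent.Lib.Linear.NondegFix.NilpFacts

/-!
# An element of order `p` fixing no non-degenerate subspace of odd dimension of a given class
-/

set_option autoImplicit false

universe u

namespace Cfsg.Lib.Linear.NondegFix

open Module Cfsg.Lib.Linear.Orth Cfsg.Lib.Linear.IsoFix Cfsg.Agent.Lib.Linear.PrimeClasses
open scoped Matrix

variable {F : Type u} [Field F] [Fintype F] {ι : Type} [Fintype ι] [DecidableEq ι]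
  {Q : (ι → F) → F} {B : LinearMap.BilinForm F (ι → F)}

omit [Fintype F] in
/-- The two small odd spaces in a hyperbolic space of dimension four. -/
theorem embeds_small (a : ℕ) (ha : a ≤ 1) (α : F) :
    Embeds (scaleQ α (Cfsg.quadFormOdd a F)) (Cfsg.quadFormPlus 2 F) := by
  refine ⟨{ toFun := fun v => Sum.elim ![v (.inl ()), ∑ i, α * v (.inr (.inl i))]
              ![α * v (.inl ()), ∑ i, v (.inr (.inr i))]
            map_add' := fun u v => by
              funext t; rcases t with t | t <;> fin_cases t <;> simp [mul_add, Finset.sum_add_distrib]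
            map_smul' := fun r v => by
              funext t; rcases t with t | t <;> fin_cases t <;> simp [Finset.mul_sum, mul_left_comm] },
    fun v => ?_⟩
  rcases Nat.le_one_iff_eq_zero_or_eq_one.1 ha with rfl | rfl
  · simp [Cfsg.quadFormPlus, Cfsg.quadFormOdd, scaleQ]; ring
  · simp [Cfsg.quadFormPlus, Cfsg.quadFormOdd, scaleQ]; ring

/-- An element of order `p` without invariant subspace of the class of `W₀`. -/
theorem exists_unipotent_parabolic (p : ℕ) [Fact p.Prime] [CharP F p] (C : Space Q B) (h2 : (2 : F) ≠ 0) {d m : ℕ}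
    (hn : Fintype.card ι = 2 * d) (hd : 4 ≤ d) (hm : Odd m) (hemb : Embeds (Cfsg.quadFormPlus 2 F) Q)
    {W₀ : Submodule F (ι → F)}
    (hW₀ : finrank F W₀ = m ∧ Cfsg.Geo.IsNondegenerateOn (QuadraticMap.polar Q) W₀) :
    ∃ x : GL ι F, x ∈ Cfsg.Geo.omegaGL Q ∧
      (∃ z : F, ((x ^ p : GL ι F) : Matrix ι ι F) = z • (1 : Matrix ι ι F)) ∧
      (∀ z : F, (x : Matrix ι ι F) ≠ z • (1 : Matrix ι ι F)) ∧
      ∀ W : Submodule F (ι → F), (finrank F ↥W = m ∧ Cfsg.Geo.IsNondegenerateOn (QuadraticMap.polar Q) W ∧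
        Cfsg.Geo.AreIsometricFor Q W W₀) → ¬ W.map (Matrix.toLin' (x : Matrix ι ι F)) ≤ W := by
  classical
  have hpne2 : p ≠ 2 := by
    rintro rfl
    exact h2 CharTwo.two_eq_zero
  have hp3 : 3 ≤ p := by
    have := (Fact.out : p.Prime).two_le
    omega
  -- the class of `W₀`
  obtain ⟨j, rfl⟩ := hm
  obtain ⟨z₀, hz₀, E₀, hE₀, hr₀⟩ := exists_std_odd C h2 hW₀.1 (ndeg_of_geo C hW₀.2)
  obtain ⟨ν, hν⟩ := FiniteField.exists_nonsquare (F := F) fun h0 => h2 (by
    haveI : CharP F 2 := ringChar.of_eq h0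
    exact CharTwo.two_eq_zero)
  have hν0 : ν ≠ 0 := fun h => hν (h ▸ IsSquare.zero)
  set α := ν * z₀ with hα
  have hα0 : α ≠ 0 := mul_ne_zero hν0 hz₀
  -- the two blocks
  obtain ⟨a, ha1, ha⟩ : ∃ a, a ≤ 1 ∧
      ((d % 2 = 0 ∧ (2 * j + 1) % 4 = 1 ∧ a = 0) ∨ (d % 2 = 0 ∧ (2 * j + 1) % 4 = 3 ∧ a = 1) ∨
        (d % 2 = 1 ∧ (2 * j + 1) % 4 = 3 ∧ a = 0) ∨ (d % 2 = 1 ∧ (2 * j + 1) % 4 = 1 ∧ a = 1)) := by
    rcases Nat.mod_two_eq_zero_or_one d with h | h <;>
      rcases (show (2 * j + 1) % 4 = 1 ∨ (2 * j + 1) % 4 = 3 by omega) with h' | h'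
    · exact ⟨0, by omega, Or.inl ⟨h, h', rfl⟩⟩
    · exact ⟨1, le_rfl, Or.inr (Or.inl ⟨h, h', rfl⟩)⟩
    · exact ⟨1, le_rfl, Or.inr (Or.inr (Or.inr ⟨h, h', rfl⟩))⟩
    · exact ⟨0, by omega, Or.inr (Or.inr (Or.inl ⟨h, h', rfl⟩))⟩
  obtain ⟨b, hb⟩ : ∃ b, d = a + b + 1 := ⟨d - 1 - a, by omega⟩
  obtain ⟨E₁, hE₁⟩ := (embeds_small a ha1 α).trans hemb
  obtain ⟨Da, Ca⟩ := exists_space (Q := Cfsg.quadFormOdd a F) (isQuad_odd a h2)
  obtain ⟨Db, Cb⟩ := exists_space (Q := Cfsg.quadFormOdd b F) (isQuad_odd b h2)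
  have CA := scale_space Ca hα0
  obtain ⟨U, hU, hUd, hUo⟩ := exists_complement C CA hE₁
  rw [card_odd_index] at hUd
  obtain ⟨β, hβ, E₂, hE₂, hr₂⟩ := exists_std_odd C h2 (e := b) (show finrank F U = 2 * b + 1 by omega) hU
  obtain ⟨ψ, S, -⟩ := exists_isSum C CA (scale_space Cb hβ) hE₁ hE₂ (fun u v => hUo _ (hr₂ ▸ ⟨v, rfl⟩) u)
    (by rw [card_odd_index, card_odd_index, hn]; omega)
  -- the nilpotent map
  let M : ((Unit ⊕ (Fin a ⊕ Fin a)) ⊕ (Unit ⊕ (Fin b ⊕ Fin b)) → F) →ₗ[F]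
      ((Unit ⊕ (Fin a ⊕ Fin a)) ⊕ (Unit ⊕ (Fin b ⊕ Fin b)) → F) :=
    { toFun := fun v => Sum.elim (nilp F a (v ∘ Sum.inl)) (nilp F b (v ∘ Sum.inr))
      map_add' := fun u v => by
        funext t; rcases t with t | t
        · exact congrFun (map_add (nilp F a) (u ∘ Sum.inl) (v ∘ Sum.inl)) t
        · exact congrFun (map_add (nilp F b) (u ∘ Sum.inr) (v ∘ Sum.inr)) t
      map_smul' := fun r v => by
        funext t; rcases t with t | t
        · exact congrFun (map_smul (nilp F a) r (v ∘ Sum.inl)) t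
        · exact congrFun (map_smul (nilp F b) r (v ∘ Sum.inr)) t }
  have hMv : ∀ v, M v = Sum.elim (nilp F a (v ∘ Sum.inl)) (nilp F b (v ∘ Sum.inr)) := fun v => rfl
  let N : (ι → F) →ₗ[F] (ι → F) := (ψ.symm : _ →ₗ[F] (ι → F)) ∘ₗ M ∘ₗ (ψ : (ι → F) →ₗ[F] _)
  have hψN : ∀ v, ψ (N v) = M (ψ v) := fun v => ψ.apply_symm_apply _
  have hl : ∀ v, ψ (N v) ∘ Sum.inl = nilp F a (ψ v ∘ Sum.inl) := fun v => by rw [hψN, hMv, Sum.elim_comp_inl]
  have hr : ∀ v, ψ (N v) ∘ Sum.inr = nilp F b (ψ v ∘ Sum.inr) := fun v => by rw [hψN, hMv, Sum.elim_comp_inr]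
  have hN3 : ∀ v, N (N (N v)) = 0 := fun v => ψ.injective (by
    rw [map_zero, ← Sum.elim_comp_inl_inr (ψ (N (N (N v)))), hl, hl, hl, hr, hr, hr, nilp_cube, nilp_cube,
      Sum.elim_zero_zero])
  have hQN : ∀ v, Q (v + N v) = Q v := fun v => by
    rw [S, S, sumQ, sumQ, map_add,
      show (ψ v + ψ (N v)) ∘ Sum.inl = ψ v ∘ Sum.inl + ψ (N v) ∘ Sum.inl from rfl,
      show (ψ v + ψ (N v)) ∘ Sum.inr = ψ v ∘ Sum.inr + ψ (N v) ∘ Sum.inr from rfl, hl, hr]
    simp only [scaleQ, nilp_iso h2]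
  have hiso : ∀ u v, B (u + N u) (v + N v) = B u v := fun u v => by
    rw [← C.polar, ← C.polar, QuadraticMap.polar, QuadraticMap.polar, hQN, hQN,
      show u + N u + (v + N v) = u + v + N (u + v) by rw [map_add]; abel, hQN]
  -- the element
  let X := LinearMap.toMatrix' N
  have hX : ∀ v, (1 + X) *ᵥ v = v + N v := fun v => by
    rw [Matrix.add_mulVec, Matrix.one_mulVec, LinearMap.toMatrix'_mulVec]
  have hX3 : X ^ 3 = 0 := mat_ext fun v => by
    rw [pow_succ, pow_succ, pow_one, ← Matrix.mulVec_mulVec, ← Matrix.mulVec_mulVec, LinearMap.toMatrix'_mulVec,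
      LinearMap.toMatrix'_mulVec, LinearMap.toMatrix'_mulVec, hN3, Matrix.zero_mulVec]
  haveI : Nonempty ι := Fintype.card_pos_iff.1 (by omega)
  haveI : CharP (Matrix ι ι F) p := inferInstance
  have hpow : (1 + X) ^ p = 1 := by
    rw [add_pow_char_of_commute (R := Matrix ι ι F) p (Commute.one_left X), one_pow, show p = 3 + (p - 3) by omega,
      pow_add, hX3, zero_mul, add_zero]
  let x : GL ι F := Units.ofPowEqOne (1 + X) p hpow (Fact.out : p.Prime).ne_zero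
  have hxv : ∀ v, (x : Matrix ι ι F) *ᵥ v = v + N v := hX
  have hxI : x ∈ Cfsg.isometryGroup F Q := mem_iso.2 fun v => by rw [hxv, hQN]
  have hxp : x ^ p = 1 := Units.pow_ofPowEqOne hpow (Fact.out : p.Prime).ne_zero
  refine ⟨x, mem_omegaGL_of_odd C (by omega) (Or.inr (by omega)) ((Fact.out : p.Prime).odd_of_ne_two hpne2)
    ⟨x, hxI⟩ (Subtype.ext hxp), ⟨1, by rw [hxp, Units.val_one, one_smul]⟩, fun z hz => ?_,
    fun W ⟨hWm, hWn, hWiso⟩ hmap => ?_⟩
  · have hNz : ∀ v, N v = (z - 1) • v := fun v => by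
      have h := hxv v
      rw [hz, Matrix.smul_mulVec, Matrix.one_mulVec] at h
      rw [sub_smul, one_smul, h]
      abel
    have hN0 : ∀ v, N v = 0 := fun v => by
      have h := hN3 v
      rw [hNz, hNz, hNz, smul_smul, smul_smul, smul_eq_zero] at h
      rcases h with h | rfl
      · rw [hNz, show z - 1 = 0 by simpa using h, zero_smul]
      · exact map_zero _
    refine nilp_ne_zero (F := F) (show 2 ≤ b by omega) (LinearMap.ext fun u => ?_)
    have h := hr (ψ.symm (Sum.elim 0 u))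
    rw [hN0, map_zero, LinearEquiv.apply_symm_apply, Sum.elim_comp_inr] at h
    exact h.symm
  have hinv : ∀ u ∈ W, N u ∈ W := fun u hu => by
    have h3 := hmap ⟨u, hu, Matrix.toLin'_apply _ _⟩
    rw [hxv u] at h3
    simpa using W.sub_mem h3 hu
  set p₁ := ψ.symm (Sum.elim (nilpKer F a) 0) with hp₁
  set p₂ := ψ.symm (Sum.elim 0 (nilpKer F b)) with hp₂
  set q₁ := ψ.symm (Sum.elim (nilpTop F a) 0) with hq₁
  set q₂ := ψ.symm (Sum.elim 0 (nilpTop F b)) with hq₂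
  obtain ⟨r, t, s, hnum, ⟨r', hr'⟩, ht, hs, hsw, htu, T, hTW, hTd, hTQ, hTker, hTim⟩ :=
    unip_core C h2 N hiso hN3 (Submodule.span F {p₁, p₂}) (Submodule.span F {q₁, q₂})
      (fun v hv => by
        obtain ⟨c₁, z₁, h1⟩ := nilp_kernel h2 (ψ v ∘ Sum.inl) (by rw [← hl, hv, map_zero]; rfl)
        obtain ⟨c₂, z₂, h3⟩ := nilp_kernel h2 (ψ v ∘ Sum.inr) (by rw [← hr, hv, map_zero]; rfl)
        refine Submodule.mem_sup.2 ⟨_, ⟨ψ.symm (Sum.elim z₁ z₂), rfl⟩, _,
          add_mem (Submodule.smul_mem _ c₁ (Submodule.subset_span (Or.inl rfl)))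
            (Submodule.smul_mem _ c₂ (Submodule.subset_span (Or.inr rfl))), ψ.injective ?_⟩
        rw [map_add, map_add, map_smul, map_smul, hψN, hMv, hp₁, hp₂, LinearEquiv.apply_symm_apply,
          LinearEquiv.apply_symm_apply, LinearEquiv.apply_symm_apply, Sum.elim_comp_inl, Sum.elim_comp_inr]
        funext i
        rcases i with i | i
        · simpa using (congrFun h1 i).symm
        · simpa using (congrFun h3 i).symm)
      (fun v hv => by
        obtain ⟨c, e, rfl⟩ := Submodule.mem_span_pair.1 hv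
        have h1 : N p₁ = 0 := ψ.injective (by
          rw [hψN, hMv, hp₁, LinearEquiv.apply_symm_apply, Sum.elim_comp_inl, Sum.elim_comp_inr, nilp_ker_fix, map_zero,
            Sum.elim_zero_zero, map_zero])
        have h3 : N p₂ = 0 := ψ.injective (by
          rw [hψN, hMv, hp₂, LinearEquiv.apply_symm_apply, Sum.elim_comp_inl, Sum.elim_comp_inr, nilp_ker_fix, map_zero,
            Sum.elim_zero_zero, map_zero])
        rw [map_add, map_smul, map_smul, h1, h3, smul_zero, smul_zero, add_zero])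
      (fun v => Submodule.mem_span_pair.2 ⟨-(2 * ∑ i, tip F i * (ψ v ∘ Sum.inl) (.inr (.inr i))),
        -(2 * ∑ i, tip F i * (ψ v ∘ Sum.inr) (.inr (.inr i))), ψ.injective (by
          rw [← Sum.elim_comp_inl_inr (ψ (N (N v))), hl, hl, hr, hr, nilp_sq, nilp_sq, map_add, map_smul, map_smul,
            hq₁, hq₂, LinearEquiv.apply_symm_apply, LinearEquiv.apply_symm_apply]
          funext i
          rcases i with i | i <;> simp)⟩)
      (ndeg_of_geo C hWn) hinv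
  rw [hWm] at hnum
  have hb1 : ∀ u v : ι → F, u = 0 → finrank F (Submodule.span F {u, v}) ≤ 1 := fun u v h => by
    subst h
    rw [Submodule.span_insert_zero]
    exact (finrank_span_le_card _).trans (by simp)
  have hb1' : ∀ u v : ι → F, v = 0 → finrank F (Submodule.span F {u, v}) ≤ 1 := fun u v h => by
    rw [Set.pair_comm]; exact hb1 v u h
  have hb0 : ∀ u v : ι → F, u = 0 → v = 0 → finrank F (Submodule.span F {u, v}) = 0 := fun u v h h' => by
    subst h h'; simp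
  have hs2 := hs.trans (finrank_span_pair_le p₁ p₂)
  have ht2 := ht.trans (finrank_span_pair_le q₁ q₂)
  have hkerz : ∀ k, k % 2 = 1 → nilpKer F k = 0 := fun k hk => if_pos hk
  have hp₁z : a % 2 = 1 → p₁ = 0 := fun h => by rw [hp₁, hkerz a h, Sum.elim_zero_zero, map_zero]
  have hp₂z : b % 2 = 1 → p₂ = 0 := fun h => by rw [hp₂, hkerz b h, Sum.elim_zero_zero, map_zero]
  have hq₁z : a % 2 = 0 → q₁ = 0 := fun h => by rw [hq₁, nilpTop_zero h, Sum.elim_zero_zero, map_zero]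
  have hq₂z : b % 2 = 0 → q₂ = 0 := fun h => by rw [hq₂, nilpTop_zero h, Sum.elim_zero_zero, map_zero]
  -- an anisotropic vector of the wrong class
  have key : ∀ w ∈ W, ∀ c : F, Q w = c ^ 2 * α → c ≠ 0 → finrank F T = j → (∀ y ∈ T, B w y = 0) → False := by
    intro w hw c hQw hc hTj hTo
    have hc2 : c ^ 2 * α ≠ 0 := mul_ne_zero (pow_ne_zero _ hc) hα0
    obtain ⟨E, hE, hrE⟩ := embed_of_line C h2 hWm (ndeg_of_geo C hWn) hw (by rw [hQw]; exact hc2) hTW hTj hTQ hTo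
    obtain ⟨e, he⟩ := hWiso
    let E' : (Unit ⊕ (Fin j ⊕ Fin j) → F) →ₗ[F] (ι → F) :=
      W₀.subtype ∘ₗ e.toLinearMap ∘ₗ E.codRestrict W (fun v => hrE ▸ (⟨v, rfl⟩ : E v ∈ LinearMap.range E))
    have hE' : ∀ v, Q (E' v) = scaleQ (Q w) (Cfsg.quadFormOdd j F) v := fun v => (he _).trans (hE v)
    obtain ⟨D, CD⟩ := exists_space (Q := Cfsg.quadFormOdd j F) (isQuad_odd j h2)
    obtain ⟨s, hs⟩ := class_unique C h2 hz₀ (by rw [hQw]; exact hc2) hE₀ hE' (by
      rw [hr₀]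
      refine Submodule.eq_of_le_of_finrank_eq ?_ ?_
      · rintro _ ⟨v, rfl⟩
        exact SetLike.coe_mem _
      · rw [finrank_embed C (scale_space CD (by rw [hQw]; exact hc2)) hE', card_odd_index, hW₀.1])
    refine hν ⟨s / c, ?_⟩
    rw [div_mul_div_comm, ← hs, hQw, hα]
    field_simp
  rcases ha with ⟨hd2, hm4, rfl⟩ | ⟨hd2, hm4, rfl⟩ | ⟨hd2, hm4, rfl⟩ | ⟨hd2, hm4, rfl⟩
  · -- the line carries the class
    have hb2 : b % 2 = 1 := by omega
    have hs1 := hs.trans (hb1' p₁ p₂ (hp₂z hb2))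
    have ht1 := ht.trans (hb1 q₁ q₂ (hq₁z rfl))
    obtain ⟨rfl, rfl⟩ : s = 1 ∧ t = 0 := by omega
    obtain ⟨w, hw, hNw, z, v, hv, hv0, rfl⟩ := hsw one_pos
    obtain ⟨c, e, rfl⟩ := Submodule.mem_span_pair.1 hv
    rw [hp₂z hb2, smul_zero, add_zero] at hv0 hw hNw
    have hc : c ≠ 0 := fun h => hv0 (by rw [h, zero_smul])
    have hNp : N p₁ = 0 := ψ.injective (by
      rw [hψN, hMv, hp₁, LinearEquiv.apply_symm_apply, Sum.elim_comp_inl, Sum.elim_comp_inr, nilp_ker_fix, map_zero,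
        Sum.elim_zero_zero, map_zero])
    have hNNz : N (N z) = 0 := by
      have := hNw
      rwa [map_add, map_smul, hNp, smul_zero, add_zero] at this
    obtain ⟨-, hQN', hBker⟩ := nilp_rel C h2 N hiso hN3
    have hQ₁ : Q p₁ = α := by
      rw [S, hp₁, LinearEquiv.apply_symm_apply]
      simp [sumQ, nilpKer, scaleQ, Cfsg.quadFormOdd, Pi.single_apply]
    refine key _ hw c ?_ hc (by omega) fun y hy => hTker _ hw hNw y hy
    rw [C.add, hQN' z hNNz, C.smul, hQ₁, map_smul, smul_eq_mul, C.symm (N z) p₁, hBker p₁ z hNp]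
    ring
  · -- the three-block carries the class
    have hb2 : b % 2 = 0 := by omega
    have hs1 := hs.trans (hb1 p₁ p₂ (hp₁z rfl))
    have ht1 := ht.trans (hb1' q₁ q₂ (hq₂z hb2))
    obtain ⟨rfl, rfl⟩ : s = 0 ∧ t = 1 := by omega
    obtain ⟨u, hu, hu2⟩ := htu one_pos
    set y := ∑ i, tip F i * (ψ u ∘ Sum.inl) (.inr (.inr i)) with hy
    have hz0 : ∀ v : Unit ⊕ (Fin b ⊕ Fin b) → F, nilp F b (nilp F b v) = 0 := fun v => by
      rw [nilp_sq, nilpTop_zero hb2, smul_zero]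
    have hy0 : y ≠ 0 := fun h0 => hu2 (ψ.injective (by
      rw [map_zero, ← Sum.elim_comp_inl_inr (ψ (N (N u))), hl, hl, hr, hr, hz0, nilp_sq, ← hy, h0, mul_zero, neg_zero,
        zero_smul, Sum.elim_zero_zero]))
    refine key (N u) (hinv u hu) y ?_ hy0 (by omega) fun x hx => hTim u hu x hx
    rw [S, sumQ, hl, hr, scaleQ, scaleQ, quad_nilp, quad_nilp, ← hy,
      Finset.sum_eq_zero (fun i _ => by
        have := i.2
        rw [tip, if_neg (by omega), zero_mul] : ∀ i ∈ Finset.univ, tip F i * (ψ u ∘ Sum.inr) (.inr (.inr i)) = 0)]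
    ring
  · have hb2 : b % 2 = 0 := by omega
    rw [hb0 q₁ q₂ (hq₁z rfl) (hq₂z hb2)] at ht
    omega
  · have hb2 : b % 2 = 1 := by omega
    rw [hb0 p₁ p₂ (hp₁z rfl) (hp₂z hb2)] at hs
    omega

end Cfsg.Lib.Linear.NondegFix
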